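import Cfsg.Agent.H4.OA3
import Cfsg.Agent.SZ.ZS_fin
import Cfsg.Agent.FT.Main

/-! Point stabiliser theorem: involutions of the components cannot all fix a single point. -/

set_option autoImplicit false
set_option linter.unusedSectionVars false

namespace CfsgOA

open MulAction Subgroup CfsgH5 CfsgH6 CfsgFT CfsgSZ

universe u

variable {G : Type u} {Ω : Type*} [Group G] [MulAction G Ω] [Finite G]

theorem ob_cen {T : Subgroup G} (hs : IsSimpleGroup T) (nc : NC T) {p : G} (hp : p ∈ T)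
    (h : ∀ t ∈ T, p * t = t * p) : p = 1 := by
  rcases hs.eq_bot_or_eq_top_of_normal (center T) inferInstance with e | e
  · have : (⟨p, hp⟩ : T) ∈ center T := mem_center_iff.2 fun t => Subtype.ext (h t t.2).symm
    rw [e, mem_bot] at this
    exact congrArg Subtype.val this
  · obtain ⟨a, ha, b, hb, ab⟩ := nc
    have : (⟨b, hb⟩ : T) ∈ center T := e ▸ mem_top _
    exact (ab (congrArg Subtype.val (mem_center_iff.1 this ⟨a, ha⟩))).elim

theorem ob_inv {T : Subgroup G} (hs : IsSimpleGroup T) (nc : NC T) :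
    ∃ s ∈ T, s * s = 1 ∧ s ≠ 1 := by
  haveI := Fact.mk Nat.prime_two
  by_cases ho : Odd (Nat.card T)
  · haveI := feit_thompson T ho
    obtain ⟨a, ha, b, hb, ab⟩ := nc
    exact (ab (congrArg Subtype.val
      (IsSimpleGroup.comm_iff_isSolvable.2 inferInstance (⟨a, ha⟩ : T) ⟨b, hb⟩))).elim
  · obtain ⟨s, h⟩ := exists_prime_orderOf_dvd_card' (G := T) 2
      (even_iff_two_dvd.1 (Nat.not_odd_iff_even.1 ho))
    refine ⟨s, s.2, ?_, fun e => ?_⟩
    · have := pow_orderOf_eq_one s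
      rw [h, pow_two] at this
      exact congrArg Subtype.val this
    · rw [show s = 1 from Subtype.ext e, orderOf_one] at h
      omega

theorem ob_four {T : Subgroup G} (hs : IsSimpleGroup T) (nc : NC T) {s : G} (hT : s ∈ T)
    (s2 : s * s = 1) (s1 : s ≠ 1) : ∃ w ∈ T, w * w = 1 ∧ w ≠ 1 ∧ w ≠ s ∧ s * w = w * s := by
  by_contra hn
  have hz := brauer_suzuki hT s1 s2 fun v hv v2 c => by
    by_contra h
    rw [not_or] at h
    exact hn ⟨v, hv, v2, h.1, h.2, c⟩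
  have hn : Nrm T (Opc 2 T) := nrm_Opi _ _
  rcases hs.eq_bot_or_eq_top_of_normal _ hn.normal_subgroupOf with e | e
  · have : Opc 2 T = ⊥ := by
      rw [eq_bot_iff]
      intro x hx
      have : (⟨x, Opi_le _ _ hx⟩ : T) ∈ (Opc 2 T).subgroupOf T := hx
      rw [e, mem_bot] at this
      exact congrArg Subtype.val this
    rw [this, bot_sup_eq] at hz
    exact s1 (ob_cen hs nc hT fun t ht => (mem_C1.1 (hz.ge ht).2).symm)
  · have : (⟨s, hT⟩ : T) ∈ (Opc 2 T).subgroupOf T := e ▸ mem_top _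
    have h2 : s ∈ Opc 2 T := this
    haveI := Fact.mk Nat.prime_two
    have h3 := Subgroup.orderOf_dvd_natCard _ h2
    rw [orderOf_eq_prime (p := 2) (by rwa [pow_two]) s1] at h3
    exact not_dvd_card_Opc Nat.prime_two T h3

theorem ob_refl {s t : G} (s2 : s * s = 1) (t2 : t * t = 1) (i : ℕ) :
    (s * t) ^ i * s * ((s * t) ^ i)⁻¹ = (s * t) ^ (2 * i) * s ∧
      (s * t) ^ i * t * ((s * t) ^ i)⁻¹ = (s * t) ^ (2 * i) * t := by
  obtain ⟨a, b⟩ := invol_conj_pow s2 t2 i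
  constructor
  · rw [mul_assoc, two_mul, pow_add, mul_assoc, mul_right_inj, mul_inv_eq_iff_eq_mul, mul_assoc, b,
      mul_inv_cancel_left]
  · rw [mul_assoc, two_mul, pow_add, mul_assoc, mul_right_inj, mul_inv_eq_iff_eq_mul, mul_assoc, a,
      mul_inv_cancel_left]

/-- the dihedral trichotomy -/
theorem ob_dih {s t : G} (s2 : s * s = 1) (t2 : t * t = 1) :
    (∃ k : ℕ, (s * t) ^ k * t * ((s * t) ^ k)⁻¹ = s) ∨ ∃ z, z * z = 1 ∧ z ≠ 1 ∧ z * s = s * z ∧
      z * t = t * z ∧ ((∃ k : ℕ, (s * t) ^ k * s * ((s * t) ^ k)⁻¹ = z * s ∧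
        (s * t) ^ k * t * ((s * t) ^ k)⁻¹ = z * t) ∨
      ∃ k : ℕ, (s * t) ^ k * t * ((s * t) ^ k)⁻¹ = z * s) := by
  by_cases h : 2 ∣ orderOf (s * t)
  · obtain ⟨m, hm⟩ := h
    have m0 := orderOf_pos (s * t)
    have zz : (s * t) ^ m * (s * t) ^ m = 1 := by rw [← pow_add, ← two_mul, ← hm, pow_orderOf_eq_one]
    have zi : ((s * t) ^ m)⁻¹ = (s * t) ^ m := inv_eq_of_mul_eq_one_right zz
    obtain ⟨a, b⟩ := invol_conj_pow s2 t2 m
    refine Or.inr ⟨(s * t) ^ m, zz, pow_ne_one_of_lt_orderOf (by omega) (by omega),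
      by rw [b, zi], by rw [a, zi], ?_⟩
    obtain ⟨j, rfl | rfl⟩ := Nat.even_or_odd' m
    · exact Or.inl ⟨j, ob_refl s2 t2 j⟩
    · refine Or.inr ⟨j + 1, ?_⟩
      rw [(ob_refl s2 t2 (j + 1)).2, show 2 * (j + 1) = 2 * j + 1 + 1 by ring, pow_succ _ (2 * j + 1),
        mul_assoc, mul_assoc s, t2, mul_one]
  · exact Or.inl (invol_conj_of_odd s2 t2 h)

theorem ob_cpow {s t z : G} (a : z * s = s * z) (b : z * t = t * z) (k : ℕ) :
    (s * t) ^ k * z = z * (s * t) ^ k :=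
  (Commute.pow_right (Commute.mul_right a b) k).eq.symm

variable {C : Ω → Set (Subgroup G)}

/-- involutions of the components at a point -/
def Iv (C : Ω → Set (Subgroup G)) (x : Ω) (s : G) : Prop := ∃ T ∈ C x, s ∈ T ∧ s * s = 1 ∧ s ≠ 1

theorem ob_mem_cg {T : Subgroup G} {s : G} (h : s ∈ T) (g : G) : g * s * g⁻¹ ∈ cg g T :=
  mem_cg.2 (by simpa [mul_assoc] using h)

theorem ob_cj1 {s g : G} (h : s ≠ 1) : g * s * g⁻¹ ≠ 1 := fun e => h (by
  calc s = g⁻¹ * (g * s * g⁻¹) * g := by group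
    _ = 1 := by rw [e]; group)

namespace CF

variable (hC : CF C)
include hC

theorem iv_cj {x : Ω} {s : G} (h : Iv C x s) (g : G) : Iv C (g • x) (g * s * g⁻¹) := by
  obtain ⟨T, hT, a, b, c⟩ := h
  exact ⟨_, hC.cj g x T hT, ob_mem_cg a g, conj_mul_self b g, ob_cj1 c⟩

theorem ob_supp {x : Ω} {T V : Subgroup G} (hT : T ∈ C x) (hV : V ∈ C x) {p q : G} (hp : p ∈ T)
    (p1 : p ≠ 1) (hq : ∀ t ∈ T, q * t = t * q) (h : p * q ∈ V) : V = T := by
  by_contra ne
  refine p1 (ob_cen (hC.simple x T hT) (hC.nc x T hT) hp fun t ht => ?_)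
  have := hC.comm x V hV T hT ne _ h t ht
  rw [mul_assoc, hq t ht, ← mul_assoc, ← mul_assoc] at this
  exact mul_right_cancel this

theorem ob_supp2 {x : Ω} {T U V : Subgroup G} (hT : T ∈ C x) (hU : U ∈ C x) (hV : V ∈ C x)
    (ne : T ≠ U) {p q : G} (hp : p ∈ T) (hq : q ∈ U) (q1 : q ≠ 1) (h : p * q ∈ V) : p = 1 := by
  by_contra p1
  have a := hC.ob_supp hT hV hp p1 (fun t ht => hC.comm x U hU T hT ne.symm q hq t ht) h
  rw [hC.comm x T hT U hU ne p hp q hq] at h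
  have b := hC.ob_supp hU hV hq q1 (fun t ht => hC.comm x T hT U hU ne p hp t ht) h
  exact ne (a.symm.trans b)

theorem ob_eq {x : Ω} {T V : Subgroup G} (hT : T ∈ C x) (hV : V ∈ C x) {p : G} (hp : p ∈ T)
    (p1 : p ≠ 1) (h : p ∈ V) : V = T :=
  hC.ob_supp hT hV hp p1 (q := 1) (by simp) (by simpa using h)

variable (hs : ∀ x, ∀ T ∈ C x, ∀ t ∈ T, t * t = 1 → t ≠ 1 → ∀ y, t • y = y → y = x)
include hs

theorem iv_pt {x y : Ω} {s : G} (h : Iv C x s) (e : s • y = y) : y = x := by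
  obtain ⟨T, hT, a, b, c⟩ := h
  exact hs x T hT s a b c y e

theorem iv_fix {x : Ω} {s c : G} (h : Iv C x s) (e : c * s = s * c) : c • x = x := by
  refine hC.iv_pt hs h ?_
  obtain ⟨T, hT, a, -, -⟩ := h
  rw [← mul_smul, ← e, mul_smul, hC.fix x T hT s a]

theorem iv_comm {x y : Ω} {s t : G} (h : Iv C x s) (h' : Iv C y t) (e : s * t = t * s) : y = x :=
  hC.iv_pt hs h (hC.iv_fix hs h' e)

theorem ob_ev {x y : Ω} (xy : x ≠ y) {T : Subgroup G} (hT : T ∈ C x) {s t : G} (sT : s ∈ T)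
    (s2 : s * s = 1) (s1 : s ≠ 1) (ht : Iv C y t) :
    (∃ k : ℕ, (s * t) ^ k * t * ((s * t) ^ k)⁻¹ = s) ∨ ∃ (k : ℕ) (b : G), ∃ U ∈ C x, U ≠ T ∧
      b ∈ U ∧ b * b = 1 ∧ b ≠ 1 ∧ (s * t) ^ k * t * ((s * t) ^ k)⁻¹ = b ∧
      b * s * t = t * (b * s) := by
  have t2 : t * t = 1 := ht.choose_spec.2.2.1
  have hs' : Iv C x s := ⟨T, hT, sT, s2, s1⟩
  rcases ob_dih s2 t2 with h | ⟨z, zz, z1, zs, zt, h⟩
  · exact Or.inl h
  have nz : z ∉ T := fun hz => xy (hs x T hT z hz zz z1 y (hC.iv_fix hs ht zt)).symm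
  have cs : s * (z * s) = z * s * s := by rw [← mul_assoc, zs]
  rcases h with ⟨k, h, -⟩ | ⟨k, h⟩
  · exfalso
    have a := hC.iv_cj hs' ((s * t) ^ k)
    rw [h] at a
    have fx := hC.iv_comm hs hs' a cs
    have r : ∃ p, Iv C p ((s * t) ^ k * s) := by
      obtain ⟨j, rfl | rfl⟩ := Nat.even_or_odd' k
      · exact ⟨_, (ob_refl s2 t2 j).1 ▸ hC.iv_cj hs' _⟩
      · have := hC.iv_cj ht ((s * t) ^ (j + 1))
        rw [(ob_refl s2 t2 (j + 1)).2, show 2 * (j + 1) = 2 * j + 1 + 1 by ring,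
          pow_succ _ (2 * j + 1), mul_assoc, mul_assoc s, t2, mul_one] at this
        exact ⟨_, this⟩
    obtain ⟨p, r⟩ := r
    have px := hC.iv_pt hs r (y := x) (by rw [mul_smul, hC.fix x T hT s sT, fx])
    subst px
    obtain ⟨V, hV, rV, -, -⟩ := r
    have e : (s * t) ^ k * s * s * ((s * t) ^ k * s)⁻¹ = z * s := by rw [← h]; group
    have m : z * s ∈ T := by
      rw [← e]
      by_cases c : V = T
      · subst c; exact mul_mem (mul_mem rV sT) (inv_mem rV)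
      · rw [hC.comm x V hV T hT c _ rV s sT, mul_inv_cancel_right]; exact sT
    exact nz (by simpa using mul_mem m (inv_mem sT))
  · have a := hC.iv_cj ht ((s * t) ^ k)
    rw [h] at a
    rw [hC.iv_comm hs hs' a cs] at a
    obtain ⟨U, hU, a1, a2, a3⟩ := a
    refine Or.inr ⟨k, z * s, U, hU, fun e => nz ?_, a1, a2, a3, h, ?_⟩
    · subst e; simpa using mul_mem a1 (inv_mem sT)
    · rw [mul_assoc z, s2, mul_one, zt]

theorem ob_odd {x y : Ω} (xy : x ≠ y) {T : Subgroup G} (hT : T ∈ C x) {s t : G} (sT : s ∈ T)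
    (s2 : s * s = 1) (s1 : s ≠ 1) (ht : Iv C y t) :
    ∃ k : ℕ, (s * t) ^ k * t * ((s * t) ^ k)⁻¹ = s := by
  rcases hC.ob_ev hs xy hT sT s2 s1 ht with h | ⟨k, b, U, hU, ne, bU, b2, b1, h, zt⟩
  · exact h
  exfalso
  obtain ⟨w, wT, w2, w1, ws, sw⟩ := ob_four (hC.simple x T hT) (hC.nc x T hT) sT s2 s1
  have bT := hC.comm x U hU T hT ne b bU
  have zs : b * s * s = s * (b * s) := by rw [← mul_assoc, bT s sT]
  have zw : b * s * w = w * (b * s) := by rw [mul_assoc, sw, ← mul_assoc, bT w wT, mul_assoc]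
  have sw1 : w * s ≠ 1 := fun e => ws (by rw [← inv_eq_of_mul_eq_one_right s2]; exact eq_inv_of_mul_eq_one_left e)
  have key : ∀ (j : ℕ) (b' : G), (w * t) ^ j * t * ((w * t) ^ j)⁻¹ = b' → Iv C x b' →
      ∃ V ∈ C x, b'⁻¹ * b * s ∈ V := fun j b' h' hb => by
    set e := (w * t) ^ j * ((s * t) ^ k)⁻¹ with he
    have e1 : e * b * e⁻¹ = b' := by rw [← h, ← h', he]; group
    have e2 : e * (b * s) * e⁻¹ = b * s := by
      have a1 := ob_cpow zs zt k
      have a2 := ob_cpow zw zt j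
      rw [he, mul_inv_eq_iff_eq_mul, mul_assoc, ← mul_assoc (b * s), ← a2, mul_assoc,
        mul_right_inj, inv_mul_eq_iff_eq_mul, ← mul_assoc, a1, mul_inv_cancel_right]
    have a := hC.iv_cj ⟨U, hU, bU, b2, b1⟩ e
    rw [e1] at a
    have fx := hC.iv_comm hs hb a rfl
    refine ⟨_, fx ▸ hC.cj e x T hT, ?_⟩
    have := ob_mem_cg sT e
    rwa [show e * s * e⁻¹ = (e * b * e⁻¹)⁻¹ * (e * (b * s) * e⁻¹) by group, e1, e2, ← mul_assoc] at this
  rcases hC.ob_ev hs xy hT wT w2 w1 ht with ⟨j, h'⟩ | ⟨j, b', U', hU', ne', bU', b2', b1', h', zt'⟩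
  · obtain ⟨V, hV, m⟩ := key j w h' ⟨T, hT, wT, w2, w1⟩
    rw [inv_eq_of_mul_eq_one_right w2, mul_assoc, bT s sT, ← mul_assoc] at m
    exact sw1 (hC.ob_supp2 hT hU hV ne.symm (mul_mem wT sT) bU b1 m)
  · obtain ⟨V, hV, m⟩ := key j b' h' ⟨U', hU', bU', b2', b1'⟩
    have bT' := hC.comm x U' hU' T hT ne'
    by_cases c : U' = U
    · subst c
      have := hC.ob_supp2 hU hT hV ne (mul_mem (inv_mem bU') bU) sT s1 m
      rw [inv_mul_eq_one] at this
      subst this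
      have e : w * s = b' * w * (b' * s) := by
        rw [mul_assoc, ← mul_assoc w, ← bT w wT, ← mul_assoc, ← mul_assoc, b2, one_mul]
      refine xy (hs x T hT (w * s) (mul_mem wT sT) ?_ sw1 y (hC.iv_fix hs ht ?_)).symm
      · rw [mul_assoc, ← mul_assoc s, sw, mul_assoc, s2, mul_one, w2]
      · rw [e, mul_assoc, zt, ← mul_assoc, zt', mul_assoc]
    · have a1 : V = T := hC.ob_supp hT hV sT s1 (q := b'⁻¹ * b)
        (fun t ht => by rw [mul_assoc, bT t ht, ← mul_assoc, bT' _ (inv_mem bU') t ht, mul_assoc])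
        (by rwa [← mul_assoc, ← bT' _ (inv_mem bU') s sT, mul_assoc, ← bT s sT, ← mul_assoc])
      have a2 : V = U := hC.ob_supp hU hV bU b1 (q := b'⁻¹ * s)
        (fun t ht => by
          rw [mul_assoc, hC.comm x T hT U hU ne.symm s sT t ht, ← mul_assoc,
            hC.comm x U' hU' U hU c _ (inv_mem bU') t ht, mul_assoc])
        (by rwa [← mul_assoc, ← hC.comm x U' hU' U hU c _ (inv_mem bU') b bU])
      exact ne (a2.symm.trans a1)

theorem ob_star {x y : Ω} {T : Subgroup G} (hT : T ∈ C x) {s q t : G} (sT : s ∈ T)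
    (s2 : s * s = 1) (s1 : s ≠ 1) (hq : ∀ v ∈ T, q * v = v * q) (ht : Iv C y t)
    (e : s * q * t = t * (s * q)) : x = y := by
  by_contra xy
  obtain ⟨w, wT, w2, w1, ws, sw⟩ := ob_four (hC.simple x T hT) (hC.nc x T hT) sT s2 s1
  obtain ⟨k, h⟩ := hC.ob_odd hs xy hT sT s2 s1 ht
  obtain ⟨j, h'⟩ := hC.ob_odd hs xy hT wT w2 w1 ht
  have zs : s * q * s = s * (s * q) := by rw [mul_assoc, hq s sT]
  have zw : s * q * w = w * (s * q) := by rw [mul_assoc, hq w wT, ← mul_assoc, sw, mul_assoc]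
  set c := (w * t) ^ j * ((s * t) ^ k)⁻¹ with hc
  have e1 : c * s * c⁻¹ = w := by
    nth_rewrite 1 [← h]; rw [← h', hc]; group
  have e2 : c * (s * q) * c⁻¹ = s * q := by
    have a1 := ob_cpow zs e k
    have a2 := ob_cpow zw e j
    rw [hc, mul_inv_eq_iff_eq_mul, mul_assoc, ← mul_assoc (s * q), ← a2, mul_assoc,
      mul_right_inj, inv_mul_eq_iff_eq_mul, ← mul_assoc, a1, mul_inv_cancel_right]
  have a := hC.iv_cj ⟨T, hT, sT, s2, s1⟩ c
  rw [e1] at a
  have fx := hC.iv_comm hs ⟨T, hT, wT, w2, w1⟩ a rfl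
  have cT : cg c T = T := hC.ob_eq hT (fx ▸ hC.cj c x T hT) wT w1 (e1 ▸ ob_mem_cg sT c)
  have e3 : w⁻¹ * s = c * q * c⁻¹ * q⁻¹ := by
    rw [eq_mul_inv_iff_mul_eq, mul_assoc, ← e2, ← e1]; group
  refine ws (inv_mul_eq_one.1 (ob_cen (hC.simple x T hT) (hC.nc x T hT)
    (mul_mem (inv_mem wT) sT) fun v hv => ?_))
  have b1 : q⁻¹ * v = v * q⁻¹ := (Commute.inv_left (hq v hv)).eq
  have b2 := hq _ (mem_cg.1 (cT.symm ▸ hv))
  rw [e3, mul_assoc, b1, ← mul_assoc, ← mul_assoc v, mul_left_inj]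
  calc _ = c * (q * (c⁻¹ * v * c)) * c⁻¹ := by group
    _ = _ := by rw [b2]; group

/-- (A) -/
theorem sA [Nontrivial Ω] : False := by
  obtain ⟨x, y, xy⟩ := exists_pair_ne Ω
  obtain ⟨T, hT, T', hT', ne⟩ := hC.two x
  obtain ⟨U, hU, -⟩ := hC.two y
  obtain ⟨s, sT, s2, s1⟩ := ob_inv (hC.simple x T hT) (hC.nc x T hT)
  obtain ⟨s', sT', s2', s1'⟩ := ob_inv (hC.simple x T' hT') (hC.nc x T' hT')
  obtain ⟨t, tU, t2, t1⟩ := ob_inv (hC.simple y U hU) (hC.nc y U hU)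
  have ht : Iv C y t := ⟨U, hU, tU, t2, t1⟩
  have hq := hC.comm x T' hT' T hT ne.symm s' sT'
  have hq' := hC.comm x T hT T' hT' ne s sT
  have st : ∀ p v, Iv C p v → s * s' * v = v * (s * s') → x = p := fun p v a b =>
    hC.ob_star hs hT sT s2 s1 hq a b
  have rs : s * s' * s = s * (s * s') := by rw [mul_assoc, hq s sT]
  have r2 : s * s' * (s * s') = 1 := by rw [← mul_assoc, rs, mul_assoc, mul_assoc, s2', mul_one, s2]
  rcases ob_dih r2 t2 with ⟨k, h⟩ | ⟨z, zz, z1, zr, zt, ⟨k, -, h⟩ | ⟨k, h⟩⟩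
  · have a := hC.iv_cj ht ((s * s' * t) ^ k)
    rw [h] at a
    rw [← st _ _ a rfl] at a
    obtain ⟨V, hV, a, -⟩ := a
    exact s1 (hC.ob_supp2 hT hT' hV ne sT sT' s1' a)
  · have a := hC.iv_cj ht ((s * s' * t) ^ k)
    rw [h] at a
    rw [hC.iv_comm hs ht a (by rw [← mul_assoc, zt])] at a
    obtain ⟨U', hU', a1, a2, a3⟩ := a
    have ez : z = t * (z * t) := by rw [zt, ← mul_assoc, t2, one_mul]
    have nU : U' ≠ U := fun e => by
      subst e
      exact xy (st y z ⟨U', hU, ez ▸ mul_mem tU a1, zz, z1⟩ zr.symm)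
    set r := s * s' with hr
    have rz : r * z * r⁻¹ = z := by rw [← zr, mul_inv_cancel_right]
    have ry : r • y = y := (hC.ob_star hs hU tU t2 t1 (hC.comm y U' hU' U hU nU _ a1)
      (hC.iv_cj ht r) (by rw [← ez]; nth_rewrite 1 [← rz]; nth_rewrite 2 [← rz]
                          rw [conj_mul, conj_mul, zt])).symm
    have rU : cg r U ∈ C y := ry ▸ hC.cj r y U hU
    by_cases c : cg r U = U
    · have m : r * t * r⁻¹ ∈ U := c ▸ ob_mem_cg tU r
      have m' : r * (z * t) * r⁻¹ ∈ cg r U' := ob_mem_cg a1 r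
      rw [show r * (z * t) * r⁻¹ = r * z * r⁻¹ * (r * t * r⁻¹) by group, rz, ez, mul_assoc,
        hC.comm y U' hU' U hU nU _ a1 _ m, ← mul_assoc] at m'
      have := hC.ob_supp2 hU hU' (ry ▸ hC.cj r y U' hU') nU.symm (mul_mem tU m) a1 a3 m'
      refine xy (st y t ht ?_)
      rw [← mul_inv_eq_iff_eq_mul, ← inv_eq_of_mul_eq_one_right this, inv_eq_of_mul_eq_one_right t2]
    · have ri : r⁻¹ = r := inv_eq_of_mul_eq_one_right r2
      have cm := hC.comm y _ rU U hU c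
      have om : ∀ v ∈ U, v * (r * v * r⁻¹) * r = r * (v * (r * v * r⁻¹)) := fun v hv => by
        rw [← cm _ (ob_mem_cg hv r) v hv, ri]
        nth_rewrite 1 [show r * v * r * v = r * v * r⁻¹ * v by rw [ri], cm _ (ob_mem_cg hv r) v hv]
        simp only [mul_assoc, inv_mul_cancel, mul_one]
        rw [← mul_assoc r r, r2, one_mul]
      have two : ∀ e, e * r = r * e → e * s * e⁻¹ = s ∨ e * s * e⁻¹ = s' := fun e he => by
        have er : e * r * e⁻¹ = r := by rw [he, mul_inv_cancel_right]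
        have fx := st _ _ (hC.iv_cj ⟨T, hT, sT, s2, s1⟩ e) (by
          nth_rewrite 1 [← er]; nth_rewrite 2 [← er]; rw [conj_mul, conj_mul, rs])
        have hV : cg e T ∈ C x := fx ▸ hC.cj e x T hT
        have hV' : cg e T' ∈ C x := fx ▸ hC.cj e x T' hT'
        have m := ob_mem_cg sT e
        have m' := ob_mem_cg sT' e
        rw [show e * s' * e⁻¹ = (e * s * e⁻¹)⁻¹ * (e * r * e⁻¹) by rw [hr]; group, er, hr] at m'
        by_cases c1 : cg e T = T
        · rw [c1] at m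
          rw [← mul_assoc] at m'
          exact Or.inl (inv_mul_eq_one.1
            (hC.ob_supp2 hT hT' hV' ne (mul_mem (inv_mem m) sT) sT' s1' m'))
        by_cases c2 : cg e T = T'
        · rw [c2] at m
          rw [hq' s' sT', ← mul_assoc] at m'
          exact Or.inr (inv_mul_eq_one.1
            (hC.ob_supp2 hT' hT hV' ne.symm (mul_mem (inv_mem m) sT') sT s1 m'))
        have d1 := hC.comm x _ hV T hT c1 _ (inv_mem m)
        have d2 := hC.comm x _ hV T' hT' c2 _ (inv_mem m)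
        have a1 := hC.ob_supp hT hV' sT s1 (q := (e * s * e⁻¹)⁻¹ * s')
          (fun v hv => by rw [mul_assoc, hq v hv, ← mul_assoc, d1 v hv, mul_assoc])
          (by rwa [← mul_assoc, ← d1 s sT, mul_assoc])
        have a2 := hC.ob_supp hT' hV' sT' s1' (q := (e * s * e⁻¹)⁻¹ * s)
          (fun v hv => by rw [mul_assoc, hq' v hv, ← mul_assoc, d2 v hv, mul_assoc])
          (by rwa [← mul_assoc, ← d2 s' sT', mul_assoc, hq s sT])
        exact (ne (a1.symm.trans a2)).elim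
      have kill : ∀ v ∈ U, v * v = 1 → v ≠ 1 →
          v * (r * v * r⁻¹) * s * (v * (r * v * r⁻¹))⁻¹ = s' := fun v hv v2 v1 =>
        (two _ (om v hv)).resolve_left fun e => xy (hC.ob_star hs hU hv v2 v1
          (cm _ (ob_mem_cg hv r)) ⟨T, hT, sT, s2, s1⟩ (mul_inv_eq_iff_eq_mul.1 e)).symm
      obtain ⟨w, wU, w2, w1, wt, tw⟩ := ob_four (hC.simple y U hU) (hC.nc y U hU) tU t2 t1
      have k1 := kill t tU t2 t1
      have k2 := kill w wU w2 w1
      have k3 := kill (t * w) (mul_mem tU wU)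
        (by rw [mul_assoc, ← mul_assoc w, ← tw, mul_assoc, w2, mul_one, t2])
        (fun e => wt (by rw [← inv_eq_of_mul_eq_one_right t2]; exact eq_inv_of_mul_eq_one_right e))
      have e : t * w * (r * (t * w) * r⁻¹) = t * (r * t * r⁻¹) * (w * (r * w * r⁻¹)) := by
        rw [mul_assoc t (r * t * r⁻¹), ← mul_assoc (r * t * r⁻¹), cm _ (ob_mem_cg tU r) w wU]; group
      have i2 : t * (r * t * r⁻¹) * (t * (r * t * r⁻¹)) = 1 := by
        rw [mul_assoc, ← mul_assoc (r * t * r⁻¹), cm _ (ob_mem_cg tU r) t tU, mul_assoc,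
          conj_mul_self t2, mul_one, t2]
      rw [e, show ∀ a b : G, a * b * s * (a * b)⁻¹ = a * (b * s * b⁻¹) * a⁻¹ by
        intros; group, k2, ← k1, show ∀ a : G, a * (a * s * a⁻¹) * a⁻¹ = a * a * s * (a * a)⁻¹ by
        intros; group, i2, k1] at k3
      simp only [one_mul, inv_one, mul_one] at k3
      exact ne (hC.ob_eq hT' hT sT' s1' (k3 ▸ sT))
  · have a := hC.iv_cj ht ((s * s' * t) ^ k)
    rw [h] at a
    rw [← st _ _ a (by rw [← mul_assoc, zr])] at a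
    obtain ⟨V, hV, a1, a2, a3⟩ := a
    have ez : z = z * (s * s') * (s * s') := by rw [mul_assoc, r2, mul_one]
    generalize z * (s * s') = b at *
    by_cases c : V = T
    · subst c
      refine xy (hC.ob_star hs hT' sT' s2' s1' (q := b * s)
        (hC.comm x V hV T' hT' ne _ (mul_mem a1 sT)) ht ?_)
      rw [← hC.comm x V hV T' hT' ne _ (mul_mem a1 sT) s' sT', mul_assoc b, ← ez, zt]
    · have d := hC.comm x V hV T hT c b a1
      refine xy (hC.ob_star hs hT sT s2 s1 (q := b * s')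
        (fun v hv => by rw [mul_assoc, hq v hv, ← mul_assoc, d v hv, mul_assoc]) ht ?_)
      rw [← mul_assoc s b, ← d s sT, mul_assoc b, ← ez, zt]

end CF

end CfsgOA
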