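import Cfsg.Agent.H8.D8Core
import Cfsg.Agent.H4.ElemAb

set_option autoImplicit false

namespace CfsgH8

open Subgroup

variable {G : Type*} [Group G]

theorem card_normalizer_nine_aux [Finite G] {M : Subgroup G} (hM9 : Nat.card M = 9)
    (hMel : ∀ m ∈ M, m ^ 3 = 1) (hCM : centralizer (M : Set G) = M) :
    M.relIndex (normalizer (M : Set G)) ∣ 48 := by
  have := Fact.mk Nat.prime_three
  have hc : ∀ a ∈ M, ∀ b ∈ M, a * b = b * a := fun a ha b hb =>
    (mem_centralizer_iff.mp (hCM.ge hb)) a ha
  obtain ⟨e, φ, he, hφ⟩ := CfsgH4.exists_hom_GL_ker_eq_centralizer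
    (M.subgroupOf (normalizer (M : Set G))) (fun x hx y hy => Subtype.ext (hc _ hx _ hy)) 3
    (fun x hx => Subtype.ext (hMel _ hx))
  rw [Nat.card_congr (subgroupOfEquivOfLe le_normalizer).toEquiv, hM9] at he
  obtain rfl : e = 2 := Nat.pow_right_injective (show 2 ≤ 3 by norm_num) he.symm
  have h1 : φ.ker = M.subgroupOf (normalizer (M : Set G)) := by
    rw [hφ]
    ext x
    rw [mem_subgroupOf, mem_centralizer_iff]
    constructor
    · intro h
      exact hCM.le (mem_centralizer_iff.mpr fun a ha =>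
        congrArg Subtype.val (h ⟨a, le_normalizer ha⟩ ha))
    · intro h a ha
      exact Subtype.ext (hc _ ha _ h)
  have h2 := card_subgroup_dvd_card φ.range
  rw [← index_ker, h1, Matrix.card_GL_field] at h2
  simpa [Fin.prod_univ_two, relIndex] using h2

theorem card_normalizer_nine [Finite G] (M : Sylow 3 G) (hM9 : Nat.card (M : Subgroup G) = 9)
    (hMel : ∀ m ∈ (M : Subgroup G), m ^ 3 = 1)
    (hCM : centralizer ((M : Subgroup G) : Set G) = (M : Subgroup G))
    (S : Sylow 2 (normalizer ((M : Subgroup G) : Set G))) {n : ℕ}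
    (hS : Nat.card (S : Subgroup (normalizer ((M : Subgroup G) : Set G))) = n) :
    Nat.card (normalizer ((M : Subgroup G) : Set G)) = 9 * n := by
  have := Fact.mk Nat.prime_three
  have h1 := card_normalizer_nine_aux hM9 hMel hCM
  have h2 : ¬ 3 ∣ (M : Subgroup G).relIndex (normalizer ((M : Subgroup G) : Set G)) := fun h =>
    M.not_dvd_index (h.trans (relIndex_dvd_index_of_le le_normalizer))
  have h3 := card_mul_index ((M : Subgroup G).subgroupOf (normalizer ((M : Subgroup G) : Set G)))
  rw [Nat.card_congr (subgroupOfEquivOfLe le_normalizer).toEquiv, hM9] at h3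
  change 9 * (M : Subgroup G).relIndex _ = _ at h3
  have h4 : (M : Subgroup G).relIndex (normalizer ((M : Subgroup G) : Set G)) ∣ 2 ^ 4 :=
    (((Nat.Prime.coprime_iff_not_dvd Nat.prime_three).mpr h2).symm).dvd_of_dvd_mul_left h1
  obtain ⟨k, -, hk⟩ := (Nat.dvd_prime_pow Nat.prime_two).mp h4
  rw [← hS, S.card_eq_multiplicity, ← h3, hk, Nat.factorization_mul (by norm_num) (by positivity),
    Nat.Prime.factorization_pow Nat.prime_two, Finsupp.add_apply,
    Nat.factorization_eq_zero_of_not_dvd (by norm_num)]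
  simp

end CfsgH8
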