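import Mathlib

set_option autoImplicit false

namespace CfsgH8

open Subgroup Equiv MulAction

theorem exists_fixed_of_sixty {A : Type*} [Group A] [IsSimpleGroup A] (hA : Nat.card A = 60)
    (ψ : A →* Perm (Fin 6)) {c : A} (hc : c ^ 3 = 1) (h3 : (ψ c).IsThreeCycle) :
    ∃ q, ∀ a, ψ a q = q := by
  classical
  have : Finite A := Nat.finite_of_card_ne_zero (by rw [hA]; norm_num)
  let _ : MulAction A (Fin 6) := MulAction.compHom _ ψ
  obtain ⟨p, hp⟩ : ∃ p, p ∉ (ψ c).support := by
    by_contra h
    push Not at h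
    have := h3.card_support
    rw [Finset.eq_univ_iff_forall.mpr h] at this
    simp at this
  have h1 : 3 ∣ Nat.card (stabilizer A p) := by
    rw [← orderOf_eq_prime (hp := ⟨Nat.prime_three⟩) hc (fun e => h3.ne_one (by simp [e]))]
    exact orderOf_dvd_natCard _ (Perm.notMem_support.mp hp)
  have h2 := card_mul_index (stabilizer A p)
  have h4 := index_stabilizer A p
  have h5 : (orbit A p).ncard + (orbit A p)ᶜ.ncard = 6 := by
    rw [Set.ncard_add_ncard_compl]; simp
  by_cases h6 : (stabilizer A p).index = 5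
  · obtain ⟨q, hq⟩ := Set.ncard_eq_one.mp (show (orbit A p)ᶜ.ncard = 1 by omega)
    refine ⟨q, fun a => ?_⟩
    have h7 : q ∉ orbit A p := by rw [← Set.mem_compl_iff, hq]; rfl
    have h8 : a • q ∈ (orbit A p)ᶜ := fun e => h7 (by simpa using mem_orbit_of_mem_orbit a⁻¹ e)
    rwa [hq] at h8
  refine ⟨p, fun a => ?_⟩
  rcases (stabilizer A p).normalCore_normal.eq_bot_or_eq_top with e | e
  · exfalso
    have h7 := card_subgroup_dvd_card (toPermHom A (A ⧸ stabilizer A p)).range
    rw [← index_ker, ← normalCore_eq_ker, e, index_bot, hA, Nat.card_perm, ← index_eq_card] at h7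
    obtain ⟨k, hk⟩ := h1
    rw [hk, hA] at h2
    generalize (stabilizer A p).index = n at *
    have : n ≤ 6 := by omega
    interval_cases n <;> first | omega | (revert h7; decide)
  · exact normalCore_le _ (e ▸ mem_top a)

theorem sym6_of_index_two {G : Type*} [Group G] [Finite G] {K : Subgroup G} [K.Normal]
    (hK : K.index = 2) (e : K ≃* alternatingGroup (Fin 6))
    (h3 : ∀ x ∈ K, x ^ 3 = 1 → ∃ t, t ∉ K ∧ t * x = x * t)
    (hC : ∀ c : G, (∀ x ∈ K, c * x = x * c) → c = 1) : Nonempty (G ≃* Perm (Fin 6)) := by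
  classical
  let s : Finset (Fin 6) := {0}ᶜ
  have hs : Nat.card s = 5 := by simp [s, Finset.card_compl]
  have : IsSimpleGroup (alternatingGroup s) := alternatingGroup.isSimpleGroup hs.ge
  have : Nontrivial s := Finite.one_lt_card_iff_nontrivial.mp (by omega)
  have hA : Nat.card (alternatingGroup s) = 60 := by rw [nat_card_alternatingGroup, hs]; rfl
  have hK6 : Nat.card K = 360 := by
    rw [Nat.card_congr e.toEquiv, nat_card_alternatingGroup]; simp; rfl
  have : IsSimpleGroup (alternatingGroup (Fin 6)) := alternatingGroup.isSimpleGroup (by simp)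
  have : IsSimpleGroup K := e.isSimpleGroup
  let ι : alternatingGroup s →* K := e.symm.toMonoidHom.comp (alternatingGroup.ofSubtype s)
  have hι : ∀ k : K, k ∈ ι.range ↔ (e k : Perm (Fin 6)) 0 = 0 := by
    intro k
    rw [← Perm.notMem_support, ← Finset.subset_compl_singleton,
      ← alternatingGroup.mem_range_ofSubtype_iff]
    exact ⟨fun ⟨a, h⟩ => ⟨a, h ▸ (e.apply_symm_apply _).symm⟩, fun ⟨a, h⟩ => ⟨a, e.symm_apply_eq.mpr h⟩⟩
  let H : Subgroup G := ι.range.map K.subtype
  have hH : Nat.card H = 60 := by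
    rw [card_map_of_injective K.subtype_injective, ← hA]
    exact Nat.card_congr (MonoidHom.ofInjective
      (e.symm.injective.comp alternatingGroup.ofSubtype_injective)).toEquiv.symm
  have h1 : K ⊔ normalizer (H : Set G) = ⊤ := by
    refine eq_top_iff.mpr fun g _ => ?_
    have hc : (swap (1 : Fin 6) 2 * swap 1 3).IsThreeCycle := by
      exact Perm.isThreeCycle_swap_mul_swap_same (by decide) (by decide) (by decide)
    obtain ⟨c, hc'⟩ := (hι (e.symm ⟨_, hc.mem_alternatingGroup⟩)).mpr (by simp; decide)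
    have hc3 : ι c ^ 3 = 1 := by
      rw [hc', ← map_pow, map_eq_one_iff _ e.symm.injective]
      exact Subtype.ext (by simp; decide)
    obtain ⟨q, hq⟩ := exists_fixed_of_sixty hA ((alternatingGroup (Fin 6)).subtype.comp
      (e.toMonoidHom.comp ((MulAut.conjNormal g : MulAut K).toMonoidHom.comp ι))) (c := c)
      ((e.symm.injective.comp alternatingGroup.ofSubtype_injective) (by
        change ι (c ^ 3) = ι 1
        rw [map_pow, hc3, map_one])) (by
        obtain ⟨k, hk⟩ : ∃ k : K, MulAut.conjNormal g (ι c) = k * ι c * k⁻¹ := by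
          by_cases hg : g ∈ K
          · exact ⟨⟨g, hg⟩, Subtype.ext (by simp)⟩
          · obtain ⟨t, ht, ht'⟩ := h3 _ (ι c).2 (congrArg Subtype.val hc3)
            refine ⟨⟨g * t, (mul_mem_iff_of_index_two hK).mpr (by tauto)⟩, Subtype.ext ?_⟩
            simp only [MulAut.conjNormal_apply, coe_mul, InvMemClass.coe_inv]
            rw [mul_assoc g t, ht']
            group
        change (e (MulAut.conjNormal g (ι c)) : Perm (Fin 6)).IsThreeCycle
        rw [hk, map_mul, map_mul, map_inv, hc', e.apply_symm_apply]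
        exact (Perm.cycleType_conj ..).trans hc)
    have := alternatingGroup.isPretransitive_of_three_le_card (Fin 6) (by simp)
    obtain ⟨k, hk⟩ := exists_smul_eq (alternatingGroup (Fin 6)) q 0
    rw [← inv_mul_cancel_left (e.symm k : G) g]
    refine mul_mem (mem_sup_left (inv_mem (e.symm k).2)) (mem_sup_right
      (mem_normalizer_fintype ?_))
    rintro _ ⟨_, ⟨a, rfl⟩, rfl⟩
    refine ⟨e.symm k * MulAut.conjNormal g (ι a) * (e.symm k)⁻¹, (hι _).mpr ?_, by
      simp [mul_assoc]⟩
    rw [map_mul, map_mul, map_inv, e.apply_symm_apply]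
    have h2 : (e (MulAut.conjNormal g (ι a)) : Perm (Fin 6)) q = q := hq a
    have h4 : (k : Perm (Fin 6)) q = 0 := hk
    simp only [coe_mul, InvMemClass.coe_inv, Perm.mul_apply]
    rw [Perm.inv_eq_iff_eq.mpr h4.symm, h2, h4]
  have h2 : K ⊓ normalizer (H : Set G) = H := by
    refine le_antisymm (fun k ⟨hk, hk'⟩ => ⟨⟨k, hk⟩, (hι _).mpr ?_, rfl⟩)
      (le_inf (map_subtype_le _) le_normalizer)
    by_contra hc
    have h4 : ∀ q : Fin 6, q ≠ 0 → ∃ r r' : Fin 6, q ≠ r ∧ q ≠ r' ∧ r ≠ r' ∧
      (swap q r * swap q r') 0 = 0 ∧ (swap q r * swap q r') q ≠ q := by decide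
    obtain ⟨r, r', h5, h6, h7, h8, h9⟩ := h4 _ hc
    have h10 := (Perm.isThreeCycle_swap_mul_swap_same h5 h6 h7).mem_alternatingGroup
    obtain ⟨a, ha, ha'⟩ := (mem_normalizer_iff.mp (inv_mem hk') _).mp
      (⟨_, (hι (e.symm ⟨_, h10⟩)).mpr (by simpa using h8), rfl⟩ : _ ∈ H)
    have h11 := (hι a).mp ha
    rw [show a = (⟨k, hk⟩ : K)⁻¹ * e.symm ⟨_, h10⟩ * ⟨k, hk⟩ from Subtype.ext (by simpa using ha'),
      map_mul, map_mul, map_inv, e.apply_symm_apply] at h11
    simp only [coe_mul, InvMemClass.coe_inv, Perm.mul_apply, Perm.inv_eq_iff_eq] at h11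
    exact h9 h11
  have hG : Nat.card G = 720 := by rw [← card_mul_index K, hK, hK6]
  have h4 : (normalizer (H : Set G)).index = 6 := by
    have h5 := relIndex_sup_left (normalizer (H : Set G)) K
    rw [h1, relIndex_top_right, hK, ← inf_relIndex_right, h2] at h5
    have h6 := card_mul_index (H.subgroupOf (normalizer (H : Set G)))
    rw [Nat.card_congr (subgroupOfEquivOfLe le_normalizer).toEquiv, hH] at h6
    have h7 := card_mul_index (normalizer (H : Set G))
    unfold relIndex at h5
    rw [← h5] at h6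
    rw [← h6, hG] at h7
    omega
  have h5 : (normalizer (H : Set G)).normalCore = ⊥ := by
    rcases IsSimpleGroup.eq_bot_or_eq_top_of_normal
      ((normalizer (H : Set G)).normalCore.subgroupOf K) inferInstance with h | h
    · exact eq_bot_iff.mpr fun c hc => hC c fun x hx =>
        commute_of_normal_of_disjoint _ _ inferInstance inferInstance (subgroupOf_eq_bot.mp h) c x hc hx
    · rw [inf_eq_left.mpr ((subgroupOf_eq_top.mp h).trans (normalCore_le _))] at h2
      rw [h2] at hK6
      omega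
  have h6 : Nat.card (G ⧸ normalizer (H : Set G)) = 6 := h4
  refine ⟨(MulEquiv.ofBijective (toPermHom G (G ⧸ normalizer (H : Set G))) ?_).trans
    (Finite.equivFinOfCardEq h6).permCongrHom⟩
  rw [Nat.bijective_iff_injective_and_card, ← MonoidHom.ker_eq_bot_iff, ← normalCore_eq_ker,
    Nat.card_perm, h6, hG]
  exact ⟨h5, rfl⟩

end CfsgH8
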