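import Cfsg.Agent.H8.M12OrdA

/-! A group with the `11`-block data of `M12`: moments and the elements of order `6`. -/

set_option autoImplicit false
set_option linter.unusedSectionVars false

namespace CfsgB0

open Finset Cfsg CfsgL CfsgH5 CfsgH6 CfsgFT CfsgSZ CfsgH8 Subgroup
open scoped ComplexConjugate

universe u

/-- a quadratic polynomial -/
def qd (k0 k1 k2 k3 k4 q1 q2 q3 q4 r1 r2 r3 r4 r5 r6 b c d f : ℤ) : ℤ :=
  k0 + k1 * b + k2 * c + k3 * d + k4 * f + q1 * (b * b) + q2 * (c * c) + q3 * (d * d) +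
    q4 * (f * f) + r1 * (b * c) + r2 * (b * d) + r3 * (b * f) + r4 * (c * d) + r5 * (c * f) +
    r6 * (d * f)

variable {G : Type u} [Group G] [Finite G] {a b c d f : IrrCharacter G}

theorem sum_iv_mul [Fintype G] {χ φ : IrrCharacter G} (h1 : ∀ g, χ.1 g = iv g χ)
    (h2 : ∀ g, φ.1 g = iv g φ) :
    (χ = φ → ∑ g, iv g χ * iv g φ = Nat.card G) ∧ (χ ≠ φ → ∑ g, iv g χ * iv g φ = 0) := by
  classical
  have := sum_mul_conj_eq χ.1 φ.1
  rw [inner_Irr] at this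
  simp only [h1, h2, map_intCast] at this
  constructor <;> intro e <;> rw [← Int.cast_inj (α := ℂ)] <;> push_cast <;> rw [this] <;> simp [e]

theorem sum_ind [Fintype G] (p : G → Prop) [DecidablePred p] (v : ℤ) {n : ℕ}
    (hn : Nat.card {g // p g} = n) : ∑ g, (if p g then v else 0) = n * v := by
  rw [← sum_filter, sum_const, ← hn, Nat.card_eq_fintype_card, Fintype.card_subtype, nsmul_eq_mul]

theorem card_class {x : G} {p : G → Prop} (h : ∀ g, p g ↔ IsConj x g) {n m : ℕ}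
    (h1 : Nat.card (C1 x) = m) (h2 : Nat.card G = m * n) : Nat.card {g // p g} = n := by
  rw [Nat.card_congr (Equiv.subtypeEquivRight h), card_isConj_eq]
  have h3 := (C1 x).card_mul_index
  rw [h1, h2] at h3
  exact Nat.eq_of_mul_eq_mul_left (h1 ▸ Nat.card_pos) h3

theorem ord_isConj {x y : G} (h : IsConj x y) : orderOf y = orderOf x := by
  obtain ⟨g, rfl⟩ := isConj_iff.1 h
  exact (MulAut.conj g).orderOf_eq x

theorem pow_of_ord {x : G} {n : ℕ} (h : orderOf x = n) : x ^ n = 1 := h ▸ pow_orderOf_eq_one x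

theorem exists_pow_ord {g : G} {n : ℕ} (h : n ∣ orderOf g) : ∃ k, orderOf (g ^ k) = n :=
  ⟨_, orderOf_pow_orderOf_div (orderOf_pos g).ne' h⟩

theorem split_pq {g : G} {p q : ℕ} (hp : 0 < p) (hq : 0 < q) (h : orderOf g = p * q) :
    orderOf (g ^ q) = p ∧ orderOf (g ^ p) = q := by
  constructor
  · rw [orderOf_pow_of_dvd hq.ne' (h ▸ dvd_mul_left q p), h, Nat.mul_div_cancel _ hq]
  · rw [orderOf_pow_of_dvd hp.ne' (h ▸ dvd_mul_right p q), h, Nat.mul_div_cancel_left _ hp]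

theorem ord6 {g : G} (h : orderOf g = 6) :
    orderOf (g ^ 3) = 2 ∧ orderOf (g ^ 4) = 3 ∧ g ^ 4 * g ^ 3 = g := by
  refine ⟨(split_pq (p := 2) two_pos three_pos h).1, by rw [orderOf_pow, h]; rfl, ?_⟩
  rw [← pow_add, show 4 + 3 = 6 + 1 from rfl, pow_succ, ← h, pow_orderOf_eq_one, one_mul]

theorem card_fiber6 {x : G} (hx : orderOf x = 2) :
    Nat.card {g : G // orderOf g = 6 ∧ g ^ 3 = x} = nord (C1 x) 3 := by
  refine Nat.card_congr ⟨fun g => ⟨⟨g.1 ^ 4, g.2.2 ▸ mem_C1.2 (Commute.pow_pow_self g.1 4 3)⟩, by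
    rw [Subgroup.orderOf_mk]; exact (ord6 g.2.1).2.1⟩, fun w => ⟨w.1 * x, ?_, ?_⟩, fun g => ?_,
    fun w => ?_⟩
  · rw [Mat.orderOf_mul_C1 w.1.2 (by rw [hx, Subgroup.orderOf_coe, w.2]; norm_num), hx,
      Subgroup.orderOf_coe, w.2]
  · have h1 : (w.1 : G) ^ 3 = 1 := pow_of_ord ((Subgroup.orderOf_coe _).trans w.2)
    rw [Commute.mul_pow (mem_C1.1 w.1.2), h1, one_mul, pow_succ, pow_two, Mat.mul_self_of_ord hx,
      one_mul]
  · refine Subtype.ext ?_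
    change g.1 ^ 4 * x = g.1
    obtain ⟨g, h1, rfl⟩ := g
    exact (ord6 h1).2.2
  · have h1 : (w.1 : G) ^ 3 = 1 := pow_of_ord ((Subgroup.orderOf_coe _).trans w.2)
    refine Subtype.ext (Subtype.ext ?_)
    change (w.1 * x : G) ^ 4 = w.1
    rw [Commute.mul_pow (mem_C1.1 w.1.2), pow_succ _ 3, h1, one_mul, show 4 = 2 * 2 from rfl,
      pow_mul, pow_two x, Mat.mul_self_of_ord hx, one_pow, mul_one]

theorem four_val {χ : IrrCharacter G} (hc : commutator G = ⊤) {x : G} (hx : x ^ 4 = 1)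
    {α β : ℤ} (h1 : χ.1 x = α) (h2 : χ.1 (x ^ 2) = β) : (8 : ℤ) ∣ dg χ + β - 2 * α := by
  obtain ⟨h3, h4⟩ := isMu_Mu (N := 4) (irr_isChar χ.2) hx
  generalize Mu 4 χ.1 x = M at h3 h4
  have e : ∀ {R : Type} [AddCommMonoid R] (F : ZMod 4 → R), ∑ j, F j = F 0 + F 1 + F 2 + F 3 :=
    fun F => Fin.sum_univ_four F
  have p2 : ψ (2 : ZMod 4) = -1 := by
    have e1 : ψ (2 : ZMod 4) * ψ (2 : ZMod 4) = 1 := by
      rw [← AddChar.map_add_eq_mul]; exact AddChar.map_zero_eq_one _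
    refine (mul_self_eq_one_iff.1 e1).resolve_left fun e2 => ?_
    rw [← (ψ (N := 4)).map_zero_eq_one, ZMod.injective_stdAddChar.eq_iff] at e2
    exact absurd e2 (by decide)
  have p1 : ψ (1 : ZMod 4) * ψ (1 : ZMod 4) = -1 := by
    rw [← AddChar.map_add_eq_mul, ← p2]; rfl
  have p3 : ψ (3 : ZMod 4) = -ψ (1 : ZMod 4) := by
    rw [show (3 : ZMod 4) = 2 + 1 from rfl, AddChar.map_add_eq_mul, p2]; ring
  have a0 := h3 0
  have a1 := h3 1
  have a2 := h3 2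
  have a4 := h4 hc
  rw [e] at a0 a1 a2 a4
  simp only [zero_mul, AddChar.map_zero_eq_one, mul_one, ZMod.val_zero, pow_zero, dg_cast] at a0
  rw [show (1 : ZMod 4).val = 1 from rfl, pow_one, h1] at a1
  rw [show (2 : ZMod 4).val = 2 from rfl, h2, show (2 : ZMod 4) * 2 = 0 from rfl,
    show (2 : ZMod 4) * 3 = 2 from rfl] at a2
  simp only [one_mul, mul_zero, mul_one, AddChar.map_zero_eq_one, p2, p3] at a1 a2
  have b1 : ((α - M 0 + M 2 : ℤ) : ℂ) ^ 2 + ((M 1 - M 3 : ℤ) : ℂ) ^ 2 = 0 := by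
    push_cast
    rw [a1]
    linear_combination ((M 1 : ℂ) - M 3) ^ 2 * p1
  have b2 : (α - M 0 + M 2 : ℤ) ^ 2 + (M 1 - M 3 : ℤ) ^ 2 = 0 := by exact_mod_cast b1
  have b3 : (α - M 0 + M 2 : ℤ) = 0 := by nlinarith [sq_nonneg (M 1 - M 3 : ℤ)]
  have b4 : (M 1 - M 3 : ℤ) = 0 := by nlinarith [sq_nonneg (α - M 0 + M 2 : ℤ)]
  have b5 : dg χ = M 0 + M 1 + M 2 + M 3 := by exact_mod_cast a0
  have b6 : β = M 0 - M 1 + M 2 - M 3 := by
    rw [← Int.cast_inj (α := ℂ)]; push_cast; rw [a2]; ring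
  have b7 : 4 ∣ M 1 + M 2 * 2 + M 3 * 3 := by
    rw [← ZMod.natCast_eq_zero_iff, ← a4]; push_cast; ring
  omega

/-- the elements of order different from `1, 2, 5, 10, 11` -/
noncomputable def RR (G : Type u) [Group G] [Fintype G] : Finset G := univ.filter fun g =>
  orderOf g ≠ 1 ∧ orderOf g ≠ 2 ∧ orderOf g ≠ 5 ∧ orderOf g ≠ 10 ∧ orderOf g ≠ 11

/-- the elements of order `6` whose cube is not `2`-central -/
abbrev WW (g : G) : Prop := orderOf g = 6 ∧ Nat.card (C1 (g ^ 3)) = 240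

namespace D12

variable (h : D12 G a b c d f)
include h

theorem v11 {g : G} (hg : 11 ∣ orderOf g) :
    iv g b = 1 ∧ iv g c = -1 ∧ iv g d = -1 ∧ iv g f = 1 := by
  obtain ⟨-, h1, h2, h3, h4⟩ := h.x11 g hg
  exact ⟨iv_eq (by simp [h1]), iv_eq (by simp [h2]), iv_eq (by simp [h3]), iv_eq (by simp [h4])⟩

theorem val {χ : IrrCharacter G} (hχ : χ ∈ [b, c, d, f]) (g : G) : χ.1 g = iv g χ := by
  by_cases e : 11 ∣ orderOf g
  · obtain ⟨-, h1, h2, h3, h4⟩ := h.x11 g e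
    obtain ⟨h5, h6, h7, h8⟩ := h.v11 e
    simp only [List.mem_cons, List.not_mem_nil, or_false] at hχ
    rcases hχ with rfl | rfl | rfl | rfl <;> simp [*]
  · exact h.int χ (List.mem_cons_of_mem _ hχ) g e

theorem sum_qd [Fintype G] (k0 k1 k2 k3 k4 q1 q2 q3 q4 r1 r2 r3 r4 r5 r6 : ℤ) :
    ∑ g, qd k0 k1 k2 k3 k4 q1 q2 q3 q4 r1 r2 r3 r4 r5 r6 (iv g b) (iv g c) (iv g d) (iv g f) =
      95040 * (k0 + q1 + q2 + q3 + q4) := by
  obtain ⟨-, h2, h3, h4, h5⟩ := h.deg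
  have vb := h.val (χ := b) (by simp)
  have vc := h.val (χ := c) (by simp)
  have vd := h.val (χ := d) (by simp)
  have vf := h.val (χ := f) (by simp)
  have ne : ∀ {χ φ : IrrCharacter G}, dg χ ≠ dg φ → χ ≠ φ := fun e f => e (f ▸ rfl)
  have s1 : ∀ {χ : IrrCharacter G}, (∀ g, χ.1 g = iv g χ) → dg χ ≠ 1 → ∑ g, iv g χ = 0 :=
    fun v e => by
      have := (sum_iv_mul v (φ := triv G) fun g => by simp [iv_triv]).2 (ne (by rwa [dg_triv]))
      simpa only [iv_triv, mul_one] using this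
  simp only [qd, sum_add_distrib, ← mul_sum, s1 vb (by omega), s1 vc (by omega), s1 vd (by omega),
    s1 vf (by omega), (sum_iv_mul vb vb).1 rfl, (sum_iv_mul vc vc).1 rfl, (sum_iv_mul vd vd).1 rfl,
    (sum_iv_mul vf vf).1 rfl, (sum_iv_mul vb vc).2 (ne (by omega)),
    (sum_iv_mul vb vd).2 (ne (by omega)), (sum_iv_mul vb vf).2 (ne (by omega)),
    (sum_iv_mul vc vd).2 (ne (by omega)), (sum_iv_mul vc vf).2 (ne (by omega)),
    (sum_iv_mul vd vf).2 (ne (by omega)), sum_const, card_univ, ← Nat.card_eq_fintype_card, h.card]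
  simp only [nsmul_eq_mul]
  push_cast
  ring

theorem cinv {t : G} (ht : orderOf t = 2) : (Nat.card (C1 t) = 192 ∧ iv t a = 0 ∧ iv t b = -3 ∧
    iv t c = 6 ∧ iv t d = -8 ∧ iv t f = 0) ∨ Nat.card (C1 t) = 240 := by
  have h1 := h.inv t ht
  have h2 := h.c240 t ht
  simp only [List.mem_cons, Prod.mk.injEq, List.not_mem_nil, or_false] at h1
  rcases h1 with ⟨e, -⟩ | ⟨e, -⟩ | e | ⟨e, -⟩ | ⟨e, -⟩ | ⟨e, -⟩
  exacts [Or.inr (h2 (by omega)), Or.inr (h2 (by omega)), Or.inl e, Or.inr e, Or.inr e,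
    Or.inr (h2 (by omega))]

theorem ord5 {g : G} (hg : 5 ∣ orderOf g) : orderOf g = 5 ∨ orderOf g = 10 := by
  obtain ⟨k, hk⟩ := exists_pow_ord hg
  have h1 := (C1 (g ^ k)).orderOf_dvd_natCard (mem_C1.2 (Commute.self_pow g k))
  rw [(h.five' _ hk).1] at h1
  have := Nat.le_of_dvd (by norm_num) h1
  generalize orderOf g = n at *
  interval_cases n <;> omega

theorem uniq5 {y s t : G} (hy : orderOf y = 5) (hs : s ∈ C1 y) (ht : t ∈ C1 y)
    (os : orderOf s = 2) (ot : orderOf t = 2) : s = t := by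
  have c5 := (h.five' y hy).1
  have o := Mat.orderOf_mul_C1 hs (by rw [os, hy]; norm_num)
  have h3 : C1 y = zpowers (s * y) := (eq_of_le_of_card_eq (zpowers_le.2 (mul_mem hs
    (self_mem_C1 y))) (by rw [Nat.card_zpowers, o, c5, os, hy])).symm
  exact eq_of_invol (m := 5) c5 (by norm_num) hs ht os ot
    ((ab_zpowers (s * y)).comm (h3 ▸ hs) (h3 ▸ ht))

theorem pair5 {u y u' y' : G} (hu : orderOf u = 2) (hy : orderOf y = 5) (hc : y ∈ C1 u)
    (hu' : orderOf u' = 2) (hy' : orderOf y' = 5) (hc' : y' ∈ C1 u') :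
    ∃ g, g * u * g⁻¹ = u' ∧ g * y * g⁻¹ = y' := by
  obtain ⟨g, rfl⟩ := isConj_iff.1 (h.conj5 hy hy')
  refine ⟨g, h.uniq5 hy' ?_ (mem_C1_comm.1 hc') (hu ▸ (MulAut.conj g).orderOf_eq u) hu', rfl⟩
  rw [← cj_C1]
  exact mem_cj'.2 ⟨u, mem_C1_comm.1 hc, rfl⟩

variable {u y : G} (hu : orderOf u = 2) (hy : orderOf y = 5) (hc : y ∈ C1 u)
include hu hy hc

theorem conj_u (t : G) : orderOf t = 2 ∧ Nat.card (C1 t) = 240 ↔ IsConj u t := by
  refine ⟨fun e => ?_, fun e => ⟨(ord_isConj e).trans hu,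
    (card_C1_isConj e).trans (h.inv5 hu hy hc).1⟩⟩
  obtain ⟨y', h1, h2⟩ := Mat.exists_ord (K := C1 t) Nat.prime_five (by rw [e.2]; norm_num)
  obtain ⟨g, hg, -⟩ := h.pair5 hu hy hc e.1 h2 h1
  exact isConj_iff.2 ⟨g, hg⟩

theorem conj10 (g : G) : orderOf g = 10 ↔ IsConj (y * u) g := by
  refine ⟨fun e => ?_, fun e => (ord_isConj e).trans (by
    rw [Mat.orderOf_mul_C1 hc (by rw [hu, hy]; norm_num), hu, hy])⟩
  obtain ⟨k, h1, h2⟩ := h.pair5 hu hy hc (u' := g ^ 5) (y' := g ^ 6)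
    (split_pq (p := 2) two_pos (by norm_num) e).1 (by rw [orderOf_pow, e]; rfl)
    (mem_C1.2 (Commute.pow_pow_self g 6 5))
  refine isConj_iff.2 ⟨k, ?_⟩
  calc k * (y * u) * k⁻¹ = k * y * k⁻¹ * (k * u * k⁻¹) := by group
    _ = g := by rw [h1, h2, ← pow_add, show 6 + 5 = 10 + 1 from rfl, pow_succ, pow_of_ord e, one_mul]

theorem split [Fintype G] {s : ℤ} (hs : iv u f = 4 * s) (Q : ℤ → ℤ → ℤ → ℤ → ℤ) :
    ∑ g, Q (iv g b) (iv g c) (iv g d) (iv g f) = Q 45 54 120 144 + 495 * Q (-3) 6 (-8) 0 +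
      396 * Q 5 6 0 (4 * s) + 9504 * Q 0 (-1) 0 (-1) + 9504 * Q 0 1 0 (-s) +
      17280 * Q 1 (-1) (-1) 1 + ∑ g ∈ RR G, Q (iv g b) (iv g c) (iv g d) (iv g f) := by
  obtain ⟨c1, c2, s', -, ⟨-, u1, u2, u3, u4⟩, w1, w2, w3, w4⟩ := h.inv5 hu hy hc
  obtain rfl : s' = s := by omega
  obtain ⟨t, ht, e⟩ := exists_central_invol (G := G) (by rw [h.card]; norm_num)
  have ct : Nat.card (C1 t) = 192 := ((h.cinv ht).resolve_right fun f => by
    rw [f, h.card] at e; omega).1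
  have n1 : Nat.card {g : G // orderOf g = 1} = 1 := nord_one
  have n2 : Nat.card {g : G // orderOf g = 2 ∧ Nat.card (C1 g) = 192} = 495 :=
    card_class (x := t) (fun g => ⟨fun e => h.conj t g ht e.1 ct e.2, fun e =>
      ⟨(ord_isConj e).trans ht, (card_C1_isConj e).trans ct⟩⟩) ct h.card
  have n3 := card_class (n := 396) (h.conj_u hu hy hc) c1 h.card
  have n4 : Nat.card {g : G // orderOf g = 5} = 9504 := h.n5
  have n5 := card_class (n := 9504) (h.conj10 hu hy hc) c2 h.card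
  have n6 : Nat.card {g : G // orderOf g = 11} = 17280 := h.n11
  have e1 := sum_ind _ (Q 45 54 120 144) n1
  have e2 := sum_ind _ (Q (-3) 6 (-8) 0) n2
  have e3 := sum_ind _ (Q 5 6 0 (4 * s')) n3
  have e4 := sum_ind _ (Q 0 (-1) 0 (-1)) n4
  have e5 := sum_ind _ (Q 0 1 0 (-s')) n5
  have e6 := sum_ind _ (Q 1 (-1) (-1) 1) n6
  push_cast at e1 e2 e3 e4 e5 e6
  rw [one_mul] at e1
  rw [← e1, ← e2, ← e3, ← e4, ← e5, ← e6, RR, sum_filter]
  simp only [← sum_add_distrib]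
  refine sum_congr rfl fun g _ => ?_
  by_cases o1 : orderOf g = 1
  · obtain ⟨-, h2, h3, h4, h5⟩ := h.deg
    obtain rfl := orderOf_eq_one_iff.1 o1
    simp [iv_one, h2, h3, h4, h5]
  by_cases o2 : orderOf g = 2
  · rcases h.cinv o2 with ⟨e, -, h2, h3, h4, h5⟩ | e
    · simp [o2, e, h2, h3, h4, h5]
    · have e' := (h.conj_u hu hy hc g).1 ⟨o2, e⟩
      simp [o2, e, iv_isConj _ e', u1, u2, u3, u4]
  by_cases o5 : orderOf g = 5
  · obtain ⟨-, -, h2, h3, h4, h5⟩ := h.five' g o5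
    simp [o5, h2, h3, h4, h5]
  by_cases o10 : orderOf g = 10
  · have e' := (h.conj10 hu hy hc g).1 o10
    simp [o10, iv_isConj _ e', w1, w2, w3, w4]
  by_cases o11 : orderOf g = 11
  · obtain ⟨h2, h3, h4, h5⟩ := h.v11 (g := g) (by rw [o11])
    simp [o11, h2, h3, h4, h5]
  simp [o1, o2, o5, o10, o11]

/-- the moments on `RR` -/
theorem momR [Fintype G] {s : ℤ} (hs : iv u f = 4 * s) (h1 : s = 1 ∨ s = -1)
    (k0 k1 k2 k3 k4 q1 q2 q3 q4 r1 r2 r3 r4 r5 r6 : ℤ) :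
    ∑ g ∈ RR G, qd k0 k1 k2 k3 k4 q1 q2 q3 q4 r1 r2 r3 r4 r5 r6 (iv g b) (iv g c) (iv g d)
      (iv g f) = 57860 * k0 - 17820 * k1 + 11880 * k2 + 21120 * k3 + 7920 * (s - 1) * k4 +
      61380 * q1 + 23760 * q2 + 31680 * q3 + 31680 * q4 + 11880 * r1 - 7920 * (3 + s) * r3 := by
  have h2 := h.split hu hy hc hs (qd k0 k1 k2 k3 k4 q1 q2 q3 q4 r1 r2 r3 r4 r5 r6)
  rw [h.sum_qd] at h2
  rw [← sub_eq_iff_eq_add'] at h2
  rw [← h2]
  rcases h1 with rfl | rfl <;> simp only [qd] <;> ring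

end D12

end CfsgB0
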