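import Cfsg.Agent.H8.SC3d
import Cfsg.Agent.H6.BaerSuzuki
import Cfsg.Agent.H6.PSLSmall

set_option autoImplicit false

/-! Groups with a self-centralizing element of order three inside a copy of `Sym(4)`. -/

namespace CfsgH8

open Subgroup Equiv CfsgH6
open scoped MatrixGroups

set_option synthInstance.maxSize 2000 in
theorem a5_one : ∀ β : Perm (Fin 5), β ^ 3 = 1 → β ≠ 1 → ∀ τ : Perm (Fin 5), τ * τ = 1 →
    τ * β * τ⁻¹ = β⁻¹ → Perm.sign τ = 1 → ∀ π : Perm (Fin 5), π * π = 1 → π * τ = τ * π →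
    (π * β) ^ 3 = 1 → π = 1 := by decide +kernel

set_option synthInstance.maxSize 2000 in
theorem a5_two : ∀ β : Perm (Fin 5), β ^ 3 = 1 → β ≠ 1 → ∀ τ : Perm (Fin 5), τ * τ = 1 →
    τ * β * τ⁻¹ = β⁻¹ → Perm.sign τ = 1 → ∀ δ : Perm (Fin 5), δ * τ = τ * δ → Perm.sign δ = 1 →
    δ = 1 ∨ δ * τ = 1 ∨ ((δ * β) ^ 5 = 1 ∧ ∃ γ : Perm (Fin 5), γ ^ 3 = 1 ∧ γ ≠ 1 ∧
      (γ * τ) ^ 3 = 1 ∧ γ * τ ≠ 1 ∧ τ * γ = γ * δ ∧ Perm.sign γ = 1) := by decide +kernel

theorem card_psl27 : Nat.card PSL(2, ZMod 7) = 168 := by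
  haveI : Fact (Nat.Prime 7) := ⟨by norm_num⟩
  have := two_mul_card_psl2_odd (ZMod 7) (by rw [ZMod.card]; decide)
  rw [ZMod.card] at this
  omega

variable {H : Type*} [Group H] [Finite H]

theorem ft_cases {β τ π δ υ : H} (hβ : SC β) (τ2 : τ * τ = 1) (τβ : τ * β * τ⁻¹ = β⁻¹)
    (π2 : π * π = 1) (πτ : π * τ = τ * π) (πβ : (π * β) ^ 3 = 1) (δτ : δ * τ = τ * δ)
    (υ4 : υ ^ 4 = 1) (υ2 : υ ^ 2 ≠ 1) :
    (δ * τ * β) ^ 3 = 1 ∨ ((δ * β) ^ 3 = 1 ∧ (π * δ * β) ^ 3 = 1 ∧ (δ * δ * β) ^ 3 = 1) ∨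
      (δ * π = π * δ ∧ (δ * β) ^ 10 = 1) ∨ ∃ g, g * τ * g⁻¹ ∈ zpowers υ := by
  have fin : ∀ {N : Subgroup H}, XInv β N → π ∈ N → δ ∈ N ∨ δ * τ ∈ N →
      (δ * τ * β) ^ 3 = 1 ∨ ((δ * β) ^ 3 = 1 ∧ (π * δ * β) ^ 3 = 1 ∧ (δ * δ * β) ^ 3 = 1) ∨
      (δ * π = π * δ ∧ (δ * β) ^ 10 = 1) ∨ ∃ g, g * τ * g⁻¹ ∈ zpowers υ := by
    rintro N hI h1 (h2 | h2)
    · exact Or.inr (Or.inl ⟨(hI.sc_mul hβ h2).cube, (hI.sc_mul hβ (mul_mem h1 h2)).cube,
        (hI.sc_mul hβ (mul_mem h2 h2)).cube⟩)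
    · exact Or.inl (hI.sc_mul hβ h2).cube
  rcases con_main _ H rfl β hβ with ⟨N, hN, hx, hdec⟩ | ⟨N, hN, hx, hm, hT, hc⟩
  · let f := QuotientGroup.mk' N
    have hf : ∀ g, f g = 1 ↔ g ∈ N := fun g => QuotientGroup.eq_one_iff g
    have h := hβ.map f (QuotientGroup.mk'_surjective N) (by rwa [QuotientGroup.ker_mk'])
    have hall : ∀ g, NX (f β) (f g) := fun g => by
      obtain ⟨m, hm, h1⟩ := hdec g
      have e : f g = f (m⁻¹ * g) := by rw [map_mul, map_inv, (hf m).2 hm]; simp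
      rw [e]
      exact h1.imp (fun e => by rw [← map_inv, ← map_mul, ← map_mul, e])
        (fun e => by rw [← map_inv, ← map_mul, ← map_mul, e, map_inv])
    have hτ : f τ * f β * (f τ)⁻¹ = (f β)⁻¹ := by rw [← map_inv, ← map_mul, ← map_mul, τβ, map_inv]
    have key : ∀ k, k * f τ = f τ * k → k * f β * k⁻¹ = f β → k = 1 := fun k h1 h2 => by
      rw [eq_comm, ← mul_inv_eq_iff_eq_mul] at h1
      rcases h.cent k (mul_inv_eq_iff_eq_mul.1 h2) with e | e | e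
      · exact e
      · rw [e, hτ] at h1; exact absurd h1.symm h.ne_inv
      · rw [e, ← conj_inv, hτ, inv_inv] at h1; exact absurd h1 h.ne_inv
    refine fin (XInv.of_normal hN hx) ((hf _).1 ?_) ?_
    · rcases hall π with e | e
      · exact key _ (by rw [← map_mul, πτ, map_mul]) e
      · exfalso
        have h1 : (f π * f β) ^ 3 = 1 := by rw [← map_mul, ← map_pow, πβ, map_one]
        have h2 : f π * f β * (f π * f β) = 1 := h.sq_of_inverts (by rw [← e]; group)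
        rw [pow_succ, pow_two, h2, one_mul, mul_eq_one_iff_eq_inv] at h1
        rw [h1] at e
        exact h.ne_inv (by simpa using e)
    · rcases hall δ with e | e
      · exact Or.inl ((hf _).1 (key _ (by rw [← map_mul, δτ, map_mul]) e))
      · refine Or.inr ((hf _).1 (key _ (by rw [← map_mul, ← map_mul, ← mul_assoc, δτ]) ?_))
        rw [map_mul, show ∀ a b c : H ⧸ N, a * b * c * (a * b)⁻¹ = a * (b * c * b⁻¹) * a⁻¹ from
          fun a b c => by group, hτ, ← conj_inv, e, inv_inv]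
  obtain ⟨hab, hN2⟩ := hT.expo hβ hN hx hm
  have hI := XInv.of_normal hN hx
  rcases hc with ⟨f, hf, rfl⟩ | ⟨⟨f, hf, rfl⟩, h7⟩
  · let φ : H →* Perm (Fin 5) := (alternatingGroup (Fin 5)).subtype.comp f
    have hφ : ∀ g, φ g = 1 ↔ g ∈ f.ker := fun g =>
      ⟨fun e => Subtype.ext e, fun e => congrArg Subtype.val e⟩
    have hs : ∀ g, Perm.sign (φ g) = 1 := fun g => (f g).2
    have b3 : φ β ^ 3 = 1 := by rw [← map_pow, hβ.cube, map_one]
    have b1 : φ β ≠ 1 := fun e => hx ((hφ _).1 e)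
    have t2 : φ τ * φ τ = 1 := by rw [← map_mul, τ2, map_one]
    have tb : φ τ * φ β * (φ τ)⁻¹ = (φ β)⁻¹ := by
      rw [← map_inv, ← map_mul, ← map_mul, τβ, map_inv]
    have hπ := (hφ π).1 (a5_one _ b3 b1 _ t2 tb (hs τ) _ (by rw [← map_mul, π2, map_one])
      (by rw [← map_mul, πτ, map_mul]) (by rw [← map_mul, ← map_pow, πβ, map_one]))
    rcases a5_two _ b3 b1 _ t2 tb (hs τ) (φ δ) (by rw [← map_mul, δτ, map_mul]) (hs δ) with
      e | e | ⟨e, γ, g1, g2, g3, g4, g5, g6⟩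
    · exact fin hI hπ (Or.inl ((hφ _).1 e))
    · exact fin hI hπ (Or.inr ((hφ _).1 (by rw [map_mul, e])))
    obtain ⟨γ, rfl⟩ : ∃ g, φ g = γ := by
      obtain ⟨g, hg⟩ := hf ⟨γ, g6⟩
      exact ⟨g, congrArg Subtype.val hg⟩
    have key : ∀ k, φ k ^ 3 = 1 → φ k ≠ 1 →
        π * (k * π * k⁻¹) * (k * (k * π * k⁻¹) * k⁻¹) = 1 := fun k h1 h2 => by
      have h3 : k ^ 3 ∈ f.ker := (hφ _).1 (by rw [map_pow, h1])
      have h4 : φ (k * k ^ 3) = φ k := by rw [map_mul, map_pow, h1, mul_one]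
      have h5 : ∀ m ∈ f.ker, k * k ^ 3 * m * (k * k ^ 3)⁻¹ = k * m * k⁻¹ := fun m hm => by
        rw [mul_assoc k, hab _ h3 _ hm]; group
      have h6 := (XInv.of_normal hN (x := k * k ^ 3) fun e => h2 (h4 ▸ (hφ _).2 e)).cube_id
        (hβ.sc_of_cube (by
          rw [← pow_succ', ← pow_mul, show (3 + 1) * 3 = 3 * 2 * 2 from rfl, pow_mul, pow_mul,
            hN2 _ h3, one_pow]) (fun e => h2 (by rw [← h4, e, map_one]))) hπ
      rwa [h5 _ hπ, h5 _ (hN.conj_mem _ hπ k)] at h6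
    have h1 := key γ g1 g2
    have h2 := key (γ * τ) (by rwa [map_mul]) (by rwa [map_mul])
    have h3 : γ * τ * π * (γ * τ)⁻¹ = γ * π * γ⁻¹ := by rw [mul_assoc γ, ← πτ]; group
    rw [h3, ← h1, mul_right_inj] at h2
    have h4 : (γ⁻¹ * τ * γ)⁻¹ * δ ∈ f.ker := (hφ _).1 (by
      rw [map_mul, map_inv, map_mul, map_mul, map_inv, mul_assoc _ (φ τ), g5]; group)
    refine Or.inr (Or.inr (Or.inl ⟨?_, ?_⟩))
    · calc δ * π = γ⁻¹ * τ * γ * ((γ⁻¹ * τ * γ)⁻¹ * δ * π) := by group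
        _ = γ⁻¹ * γ⁻¹ * (γ * τ * (γ * π * γ⁻¹) * (γ * τ)⁻¹) * γ * γ * δ := by
          rw [hab _ h4 _ hπ]; group
        _ = _ := by rw [h2]; group
    · rw [show 10 = 5 * 2 from rfl, pow_mul]
      exact hN2 _ ((hφ _).1 (by rw [map_pow, map_mul, e]))
  · haveI : Fact (Nat.Prime 7) := ⟨by norm_num⟩
    have hi : Function.Injective f := (injective_iff_map_eq_one f).2 fun a ha => by
      have h3 := (h7.expo hβ hN hx hm).2 a ha
      have h4 := hN2 a ha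
      calc a = a ^ 7 * ((a ^ 2) ^ 3)⁻¹ := by group
        _ = 1 := by rw [h3, h4]; simp
    let e := MulEquiv.ofBijective f ⟨hi, hf⟩
    have h1 := (zpowers υ).card_mul_index
    rw [Nat.card_congr e.toEquiv, card_psl27, Nat.card_zpowers,
      orderOf_eq_prime_pow (p := 2) (hp := ⟨Nat.prime_two⟩) (n := 1) (by simpa using υ2) υ4] at h1
    refine Or.inr (Or.inr (Or.inr ?_))
    by_contra h2
    push Not at h2
    obtain ⟨L, hL, -⟩ := thompson_transfer (m := 21) (by omega) (by decide) τ2 h2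
    haveI := Matrix.ProjectiveSpecialLinearGroup.rank_two_simple (F := ZMod 7) (by simp)
    haveI := e.isSimpleGroup
    have h3 := L.card_mul_index
    rw [Nat.card_congr e.toEquiv, card_psl27] at h3
    rcases IsSimpleGroup.eq_bot_or_eq_top_of_normal L (normal_of_index_eq_two hL) with e | e
    · rw [hL, e, card_bot] at h3; omega
    · rw [e, index_top] at hL; omega

end CfsgH8
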