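import Cfsg.Agent.H8.Aff
import Cfsg.Agent.H8.SC3S4
import Cfsg.Agent.H8.AmPres

set_option autoImplicit false

/-! The amalgam of two copies of `3^2:GL(2,3)` with `N(Z(S))` inside the intersection. -/

namespace CfsgH8.Am

open Subgroup CfsgH3.TC Cfsg
open scoped MatrixGroups

variable {G : Type*} [Group G]

theorem gl_gen : ∀ m : M4, m.det ≠ 0 → ∃ i k : Fin 3, ∃ e : Fin 2, ∃ j : Fin 4,
    m = (((M4.pow (1, 0, 1, 1) i.val).mul (M4.pow (2, 0, 0, 1) e.val)).mul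
      (M4.pow (0, 1, 2, 0) j.val)).mul (M4.pow (1, 0, 1, 1) k.val) := by decide +kernel

/-- one side of the amalgam with its generators -/
structure Side (A V : Subgroup G) (z a b s t p : G) : Prop where
  aff : Aff A V
  bas : Bas V z a
  sA : s ∈ A
  bA : b ∈ A
  tA : t ∈ A
  pA : p ∈ A
  inv : ∀ v ∈ V, s * v * s⁻¹ = v⁻¹
  sb : Commute s b
  st : Commute s t
  sp : Commute s p
  ab : Acts z a b (1, 0, 1, 1)
  at' : Acts z a t (2, 0, 0, 1)
  ap : Acts z a p (0, 1, 2, 0)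

namespace Side

variable {A V : Subgroup G} {z a b s t p : G} (h : Side A V z a b s t p)
include h

theorem as : Acts z a s (2, 0, 0, 2) := h.bas.acts_neg.2 h.inv

theorem p2 : p * p = s := h.aff.uniq h.bas h.inv (mul_mem h.pA h.pA) h.sA (h.sp.mul_right h.sp)
  (Commute.refl s) (h.bas.mul h.ap h.ap) h.as

theorem pt : p * t = s * t * p := h.aff.uniq h.bas h.inv (mul_mem h.pA h.tA)
  (mul_mem (mul_mem h.sA h.tA) h.pA) (h.sp.mul_right h.st)
  (((Commute.refl s).mul_right h.st).mul_right h.sp) (m := (0, 2, 2, 0)) (h.bas.mul h.ap h.at')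
  (h.bas.mul (h.bas.mul h.as h.at') h.ap)

theorem pb : (p * b) ^ 3 = s := h.aff.uniq h.bas h.inv (pow_mem (mul_mem h.pA h.bA) 3) h.sA
  ((h.sp.mul_right h.sb).pow_right 3) (Commute.refl s) (h.bas.pow (h.bas.mul h.ap h.ab) 3) h.as

theorem pb' : (p * (b * b)) ^ 3 = 1 := h.aff.uniq h.bas h.inv
  (pow_mem (mul_mem h.pA (mul_mem h.bA h.bA)) 3) (one_mem A)
  ((h.sp.mul_right (h.sb.mul_right h.sb)).pow_right 3) (Commute.one_right s)
  (h.bas.pow (h.bas.mul h.ap (h.bas.mul h.ab h.ab)) 3) Bas.one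

theorem u4 : (t * p * b) ^ 4 = s := h.aff.uniq h.bas h.inv
  (pow_mem (mul_mem (mul_mem h.tA h.pA) h.bA) 4) h.sA
  (((h.st.mul_right h.sp).mul_right h.sb).pow_right 4) (Commute.refl s)
  (h.bas.pow (h.bas.mul (h.bas.mul h.at' h.ap) h.ab) 4) h.as

theorem pz : p * z * p⁻¹ = a := by rw [h.ap.1, el_zero_one]

theorem pa : p * a * p⁻¹ = z⁻¹ := by rw [h.ap.2, h.bas.el_two_zero]

theorem ta : t * a * t⁻¹ = a := by rw [h.at'.2, el_zero_one]

theorem s1 : s ≠ 1 := fun e => absurd (h.bas.unique h.as (e ▸ Bas.one)) (by decide)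

theorem ts : t ≠ s := fun e => absurd (h.bas.unique h.as (e ▸ h.at')) (by decide)

theorem t1 : t ≠ 1 := fun e => absurd (h.bas.unique h.at' (e ▸ Bas.one)) (by decide)

theorem gen {K : Subgroup G} (hz : z ∈ K) (ha : a ∈ K) (hb : b ∈ K) (ht : t ∈ K) (hp : p ∈ K) :
    A ≤ K := fun g hg => by
  obtain ⟨m, hm⟩ := h.bas.exists_acts (h.aff.nrm g hg)
  obtain ⟨i, k, e, j, rfl⟩ := gl_gen m (h.bas.det_ne hm)
  have h1 := h.bas.le hz ha (h.aff.mem_of_acts h.bas (mul_mem (mul_mem (mul_mem (pow_mem h.bA _)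
    (pow_mem h.tA _)) (pow_mem h.pA _)) (pow_mem h.bA _)) hg (h.bas.mul (h.bas.mul (h.bas.mul
    (h.bas.pow h.ab i.val) (h.bas.pow h.at' e.val)) (h.bas.pow h.ap j.val))
    (h.bas.pow h.ab k.val)) hm)
  exact (mul_mem_cancel_left (inv_mem (mul_mem (mul_mem (mul_mem (pow_mem hb _) (pow_mem ht _))
    (pow_mem hp _)) (pow_mem hb _)))).1 h1

theorem cent {g : G} (hg : g ∈ A) (h1 : Commute t g) (h2 : g * a * g⁻¹ = a) :
    g ∈ zpowers a ∨ t⁻¹ * g ∈ zpowers a := by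
  obtain ⟨m, hm⟩ := h.bas.exists_acts (h.aff.nrm g hg)
  have key : ∀ v ∈ V, Commute t v → v ∈ zpowers a := fun v hv e => by
    obtain ⟨i, j, rfl⟩ := h.bas.surj hv
    have h3 := h.bas.conj_el h.at' i j
    rw [e.eq, mul_inv_cancel_right] at h3
    obtain rfl : i = 0 := by
      have := (h.bas.inj h3).1
      clear h3 e hv
      revert i j
      decide
    simp [el]
  have h3 := h.bas.unique (h1.eq ▸ h.bas.mul h.at' hm) (h.bas.mul hm h.at')
  have h4 := h.bas.inj ((el_zero_one z a).trans (h2.symm.trans hm.2))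
  have h5 := h.bas.det_ne hm
  have h6 : m = M4.one ∨ m = (2, 0, 0, 1) := by
    clear hm
    revert m
    decide +kernel
  rcases h6 with rfl | rfl
  · exact Or.inl (key g (by simpa using h.aff.mem_of_acts h.bas (one_mem A) hg Bas.one hm) h1)
  · exact Or.inr (key _ (h.aff.mem_of_acts h.bas h.tA hg h.at' hm)
      ((Commute.refl t).inv_right.mul_right h1))

end Side

/-- the amalgam -/
structure Amal (A B V W : Subgroup G) (z : G) : Prop where
  hA : Aff A V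
  hB : Aff B W
  VB : V ≤ B
  WA : W ≤ A
  ne : V ≠ W
  zV : z ∈ V
  zW : z ∈ W
  z1 : z ≠ 1
  nz : ∀ g, NX z g → g ∈ A ∧ g ∈ B

namespace Amal

variable {A B V W : Subgroup G} {z : G} (h : Amal A B V W z)
include h

theorem symm : Amal B A W V z :=
  ⟨h.hB, h.hA, h.WA, h.VB, h.ne.symm, h.zW, h.zV, h.z1, fun g hg => (h.nz g hg).symm⟩

theorem exists_not : ∃ a ∈ V, a ∉ W := by
  by_contra h1
  push Not at h1
  have : Finite W := Nat.finite_of_card_ne_zero (by rw [h.hB.card]; norm_num)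
  exact h.ne (eq_of_le_of_card_ge h1 (by rw [h.hA.card, h.hB.card]))

theorem bas {a : G} (ha : a ∈ V) (ha' : a ∉ W) : Bas V z a :=
  h.hA.bas h.zV ha h.z1 fun e => ha' (zpowers_le.2 h.zW e)

theorem mem_z {c : G} (h1 : c ∈ V) (h2 : c ∈ W) : c = 1 ∨ c = z ∨ c = z⁻¹ := by
  obtain ⟨a, ha, ha'⟩ := h.exists_not
  obtain ⟨h3, h4⟩ := eq_zpowers_of_lt_nine (A := V ⊓ W) h.hA.card inf_le_left
    (fun e => ha' (e.ge ha).2) ⟨h.zV, h.zW⟩ h.z1
  exact mem_zpowers_three h3 (h4 ▸ ⟨h1, h2⟩)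

theorem change {c : G} (h1 : c ∈ V) (h2 : c ∈ W) (h3 : c ≠ 1) : Amal A B V W c := by
  refine ⟨h.hA, h.hB, h.VB, h.WA, h.ne, h1, h2, h3, fun g hg => h.nz g ?_⟩
  rcases h.mem_z h1 h2 with rfl | rfl | rfl
  · exact absurd rfl h3
  · exact hg
  · exact hg.imp (fun e => by rwa [← conj_inv, inv_inj] at e)
      fun e => by rwa [← conj_inv, inv_inj] at e

theorem not_comm {a b : G} (ha : a ∈ V) (ha' : a ∉ W) (hb : b ∈ W) (hb' : b ∉ V) :
    a⁻¹ * b * a * b⁻¹ ≠ 1 := fun e => hb' (h.hA.cent b (h.WA hb) fun v hv => by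
  rw [mul_inv_eq_one, mul_assoc, inv_mul_eq_iff_eq_mul] at e
  exact (mem_centralizer_singleton_iff.1 ((h.bas ha ha').le (H := centralizer {b})
    (mem_centralizer_singleton_iff.2 (h.hB.comm _ h.zW _ hb))
    (mem_centralizer_singleton_iff.2 e.symm) hv)).symm)

theorem comm_mem {a b : G} (ha : a ∈ V) (hb : b ∈ W) :
    a⁻¹ * b * a * b⁻¹ ∈ V ∧ a⁻¹ * b * a * b⁻¹ ∈ W :=
  ⟨by simpa [mul_assoc] using mul_mem (inv_mem ha) (h.hA.nrm b (h.WA hb) a ha),
    mul_mem (by simpa using h.hB.nrm _ (inv_mem (h.VB ha)) b hb) (inv_mem hb)⟩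

theorem exists_st : ∃ s t, s * s = 1 ∧ t * t = 1 ∧ Commute s t ∧ (∀ v ∈ V, s * v * s⁻¹ = v⁻¹) ∧
    ∀ v ∈ W, t * v * t⁻¹ = v⁻¹ := by
  obtain ⟨a, ha, ha'⟩ := h.exists_not
  obtain ⟨b, hb, hb'⟩ := h.symm.exists_not
  obtain ⟨s, -, s2, hs⟩ := h.hA.exists_inv (h.bas ha ha')
  obtain ⟨t, -, t2, ht⟩ := h.hB.exists_inv (h.symm.bas hb hb')
  obtain ⟨sA, sB⟩ := h.nz s (Or.inr (hs z h.zV))
  obtain ⟨tA, tB⟩ := h.nz t (Or.inr (ht z h.zW))
  have si : s⁻¹ = s := inv_eq_of_mul_eq_one_right s2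
  have ti : t⁻¹ = t := inv_eq_of_mul_eq_one_right t2
  have h1 : s * t * s⁻¹ * t⁻¹ ∈ V := h.hA.cent _ (mul_mem (mul_mem (mul_mem sA tA) (inv_mem sA))
    (inv_mem tA)) fun v hv => by
    have h2 := h.hA.nrm _ (inv_mem tA) v hv
    have h3 := hs _ (inv_mem h2)
    rw [← mul_inv_eq_iff_eq_mul]
    calc _ = s * (t * (s⁻¹ * (t⁻¹ * v * t⁻¹⁻¹)⁻¹⁻¹ * s) * t⁻¹) * s⁻¹ := by group
      _ = s * v⁻¹ * s⁻¹ := by rw [← h3]; group
      _ = v := by rw [hs _ (inv_mem hv), inv_inv]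
  have h2 := h.hA.cube _ h1
  rw [si, ti] at h2
  refine ⟨s, t * s * t * (t * s)⁻¹, s2, by rw [conj_mul, t2]; simp, ?_, hs, fun v hv => ?_⟩
  · rw [mul_inv_rev, si, ti]
    change s * (t * s * t * (s * t)) = t * s * t * (s * t) * s
    rw [← mul_inv_eq_one, ← h2]
    simp only [mul_inv_rev, si, ti, pow_succ, pow_zero, one_mul, mul_assoc]
  · have h3 := ht _ (h.hB.nrm _ (inv_mem (mul_mem tB sB)) v hv)
    calc _ = t * s * (t * ((t * s)⁻¹ * v * (t * s)⁻¹⁻¹) * t⁻¹) * (t * s)⁻¹ := by group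
      _ = _ := by rw [h3]; group

theorem exists_fix {s t : G} (s2 : s * s = 1) (t2 : t * t = 1) (st : Commute s t)
    (hs : ∀ v ∈ V, s * v * s⁻¹ = v⁻¹) (ht : ∀ v ∈ W, t * v * t⁻¹ = v⁻¹) :
    ∃ a ∈ V, a ∉ W ∧ Commute t a := by
  obtain ⟨a, ha, ha'⟩ := h.exists_not
  obtain ⟨b, hb, hb'⟩ := h.symm.exists_not
  obtain ⟨sA, -⟩ := h.nz s (Or.inr (hs z h.zV))
  obtain ⟨tA, -⟩ := h.nz t (Or.inr (ht z h.zW))
  have h1 := h.hA.nrm t tA a ha
  have h2 : t * (a * (t * a * t⁻¹)) * t⁻¹ = a * (t * a * t⁻¹) := by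
    rw [← conj_mul, show t * (t * a * t⁻¹) * t⁻¹ = (t * t) * a * (t * t)⁻¹ by group, t2,
      one_mul, inv_one, mul_one, h.hA.comm _ ha _ h1]
  refine ⟨_, mul_mem ha h1, fun e => ?_, mul_inv_eq_iff_eq_mul.1 h2⟩
  rw [ht _ e] at h2
  have h3 := eq_one_of_sq_of_nine h.hB.card e (by rw [pow_two, mul_eq_one_iff_inv_eq, h2])
  have hB := h.bas ha ha'
  have h4 : Acts z a t (2, 0, 0, 2) := ⟨by rw [ht z h.zW, hB.el_two_zero],
    by rw [hB.el_zero_two, eq_inv_of_mul_eq_one_right h3]⟩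
  obtain rfl := h.hA.uniq hB hs sA tA (Commute.refl s) st (hB.acts_neg.2 hs) h4
  obtain ⟨h5, h6⟩ := h.comm_mem ha hb
  obtain ⟨c, hc⟩ : ∃ c, c = a⁻¹ * b * a * b⁻¹ := ⟨_, rfl⟩
  refine h.not_comm ha ha' hb hb' (eq_one_of_sq_of_nine h.hA.card h5 ?_)
  rw [← hc] at h5 h6 ⊢
  rw [pow_two, mul_eq_one_iff_eq_inv, ← hs c h5]
  calc c = b⁻¹ * (a * c * a⁻¹) * b := by
        rw [h.hA.comm _ ha _ h5, mul_inv_cancel_right, mul_assoc, ← h.hB.comm _ hb _ h6,
          inv_mul_cancel_left]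
    _ = (s * a * s⁻¹)⁻¹ * (s * b * s⁻¹) * (s * a * s⁻¹) * (s * b * s⁻¹)⁻¹ := by
        rw [hs a ha, ht b hb, hc]; group
    _ = _ := by rw [hc]; group

theorem exists_sides : ∃ z a b s t p q, Amal A B V W z ∧ a ∉ W ∧ s * s = 1 ∧ t * t = 1 ∧
    Side A V z a b s t p ∧ Side B W z b a⁻¹ t s q := by
  obtain ⟨s, t, s2, t2, st, hs, ht⟩ := h.exists_st
  obtain ⟨a, ha, ha', ta⟩ := h.exists_fix s2 t2 st hs ht
  obtain ⟨b, hb, hb', sb⟩ := h.symm.exists_fix t2 s2 st.symm ht hs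
  obtain ⟨h5, h6⟩ := h.comm_mem ha hb
  have h' := h.change h5 h6 (h.not_comm ha ha' hb hb')
  obtain ⟨c, hc⟩ : ∃ c, c = a⁻¹ * b * a * b⁻¹ := ⟨_, rfl⟩
  rw [← hc] at h' h5 h6
  obtain ⟨sA, sB⟩ := h.nz s (Or.inr (hs z h.zV))
  obtain ⟨tA, tB⟩ := h.nz t (Or.inr (ht z h.zW))
  have b1 := h'.bas ha ha'
  have b2 := h'.symm.bas hb hb'
  obtain ⟨p, pA, sp, ap⟩ := h.hA.trans_s b1 hs sA (m := (0, 1, 2, 0)) (by decide)
  obtain ⟨q, qB, tq, aq⟩ := h.hB.trans_s b2 ht tB (m := (0, 1, 2, 0)) (by decide)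
  refine ⟨c, a, b, s, t, p, q, h', ha', s2, t2,
    ⟨h.hA, b1, sA, h.WA hb, tA, pA, hs, sb, st, sp, ⟨?_, ?_⟩, ⟨?_, ?_⟩, ap⟩,
    ⟨h.hB, b2, tB, inv_mem (h.VB ha), sB, qB, ht, ta.inv_right, st.symm, tq, ⟨?_, ?_⟩, ⟨?_, ?_⟩,
      aq⟩⟩
  · rw [el_one_zero, h.hB.comm _ hb _ h6, mul_inv_cancel_right]
  · simp only [el, Fin.val_one, pow_one]
    rw [h.hA.comm _ h5 _ ha, hc]; group
  · rw [ht c h6, b1.el_two_zero]
  · rw [el_zero_one, ta.eq, mul_inv_cancel_right]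
  · rw [el_one_zero, h.hA.comm _ (inv_mem ha) _ h5, mul_inv_cancel_right]
  · simp only [el, Fin.val_one, pow_one]
    rw [hc]; group
  · rw [hs c h5, b2.el_two_zero]
  · rw [el_zero_one, sb.eq, mul_inv_cancel_right]

end Amal

/-- the generators -/
def vals (z a b s t p q : G) : ℕ → G
  | 1 => z
  | 2 => a
  | 3 => b
  | 4 => s
  | 5 => t
  | 6 => p
  | 7 => q
  | 8 => (p * q) ^ 3
  | _ => 1

section

variable {A B V W : Subgroup G} {z a b s t p q : G} (s2 : s * s = 1) (t2 : t * t = 1)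
  (h : Side A V z a b s t p) (h' : Side B W z b a⁻¹ t s q)
include s2 t2 h h'

theorem d_comm : Commute s ((p * q) ^ 3) ∧ Commute t ((p * q) ^ 3) := by
  have p1 : p * s * p⁻¹ = s := by rw [← h.sp.eq, mul_inv_cancel_right]
  have p2 : p * t * p⁻¹ = s * t := by rw [h.pt, mul_inv_cancel_right]
  have q1 : q * t * q⁻¹ = t := by rw [← h'.sp.eq, mul_inv_cancel_right]
  have q2 : q * s * q⁻¹ = t * s := by rw [h'.pt, mul_inv_cancel_right]
  have e : ∀ x, p * q * x * (p * q)⁻¹ = p * (q * x * q⁻¹) * p⁻¹ := fun x => by group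
  have e1 : p * q * s * (p * q)⁻¹ = t := by
    rw [e, q2, ← conj_mul, p1, p2, h.st.eq, mul_assoc, s2, mul_one]
  have e2 : p * q * t * (p * q)⁻¹ = s * t := by rw [e, q1, p2]
  have e3 : p * q * (s * t) * (p * q)⁻¹ = s := by
    rw [← conj_mul, e1, e2, h.st.eq, ← mul_assoc, t2, one_mul]
  have e4 : ∀ x, (p * q) ^ 3 * x * ((p * q) ^ 3)⁻¹ =
      p * q * (p * q * (p * q * x * (p * q)⁻¹) * (p * q)⁻¹) * (p * q)⁻¹ := fun x => by
    rw [pow_succ, pow_two]; group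
  exact ⟨(mul_inv_eq_iff_eq_mul.1 (by rw [e4, e1, e2, e3])).symm,
    (mul_inv_eq_iff_eq_mul.1 (by rw [e4, e2, e3, e1])).symm⟩

theorem sat1 : Sat (vals z a b s t p q) rels1 := by
  refine ⟨rfl, ?_⟩
  have si : s⁻¹ = s := inv_eq_of_mul_eq_one_right s2
  have ti : t⁻¹ = t := inv_eq_of_mul_eq_one_right t2
  have r1 := h.bas.y3
  have r2 := h'.bas.y3
  have r3 := h.bas.x3
  have r4 := h.bas.xy.eq
  have r5 := h'.bas.xy.eq
  have r6 : b * a * b⁻¹ = a * z := by rw [h.ab.2, ← r4]; simp [el]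
  have r9 : s * t * (s * t) = 1 := by rw [mul_assoc, ← mul_assoc t, ← h.st.eq, mul_assoc s, t2,
    mul_one, s2]
  have r10 := h.inv a h.bas.yV
  have r11 : s * b * s = b := by rw [h.sb.eq, mul_assoc, s2, mul_one]
  have r12 := h.ta
  have r13 := h'.inv b h'.bas.yV
  have r14 := h.inv z h.bas.xV
  have r15 := h'.inv z h'.bas.xV
  have r16 := h.p2
  have r17 := h.pz
  have r18 := h.pa
  have r19 : p * t * p⁻¹ * t * s = 1 := by
    rw [h.pt, mul_inv_cancel_right, mul_assoc s, t2, mul_one, s2]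
  have r20 : (p * b) ^ 3 * s = 1 := by rw [h.pb, s2]
  have r21 := h'.p2
  have r22 := h'.pz
  have r23 := h'.pa
  have r24 : q * s * q⁻¹ * t * s = 1 := by
    rw [h'.pt, mul_inv_cancel_right, mul_assoc, r9.symm, h.st.eq]
  have r25 : (q * a) ^ 3 = 1 := by
    rw [← h'.pb', ← mul_inv_rev, eq_inv_of_mul_eq_one_left (a := a * a) (b := a)
      (by rw [← r1, pow_succ, pow_two]), inv_inv]
  obtain ⟨d, hd⟩ : ∃ d, d = (p * q) ^ 3 := ⟨_, rfl⟩
  have r26 : (p * q) ^ 3 * d⁻¹ = 1 := by rw [hd, mul_inv_cancel]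
  have r27 : d * s * d⁻¹ * s = 1 := by
    rw [hd, ← (d_comm s2 t2 h h').1.eq, mul_inv_cancel_right, s2]
  have r28 : d * t * d⁻¹ * t = 1 := by
    rw [hd, ← (d_comm s2 t2 h h').2.eq, mul_inv_cancel_right, t2]
  rw [si] at r10 r14
  rw [ti] at r12 r13 r15
  rw [← mul_inv_eq_one] at r4 r5 r6 r10 r11 r12 r13 r14 r15 r16 r17 r18 r21 r22 r23
  simp only [rels1, List.mem_cons, List.not_mem_nil, or_false, forall_eq_or_imp, forall_eq,
    wval_cons, wval_nil, mul_one, sval, vals, ← hd]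
  clear hd
  simp only [pow_succ, pow_zero, one_mul, mul_assoc, mul_inv_rev, inv_inv] at *
  exact ⟨r1, r2, r3, r4, r5, r6, s2, t2, r9, r10, r11, r12, r13, r14, r15, r16, r17, r18, r19, r20,
    r21, r22, r23, r24, r25, r26, r27, r28⟩

theorem gen8 : Gen 8 (vals z a b s t p q) = A ⊔ B := by
  have m : ∀ i, 1 ≤ i → i ≤ 8 → vals z a b s t p q i ∈ Gen 8 (vals z a b s t p q) :=
    fun i => mem_Gen _
  refine le_antisymm (Gen_le fun i h1 h2 => ?_) (sup_le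
    (h.gen (m 1 (by norm_num) (by norm_num)) (m 2 (by norm_num) (by norm_num))
      (m 3 (by norm_num) (by norm_num)) (m 5 (by norm_num) (by norm_num))
      (m 6 (by norm_num) (by norm_num)))
    (h'.gen (m 1 (by norm_num) (by norm_num)) (m 3 (by norm_num) (by norm_num))
      (inv_mem (m 2 (by norm_num) (by norm_num))) (m 4 (by norm_num) (by norm_num))
      (m 7 (by norm_num) (by norm_num))))
  interval_cases i
  exacts [mem_sup_left (h.aff.le h.bas.xV), mem_sup_left (h.aff.le h.bas.yV), mem_sup_left h.bA,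
    mem_sup_left h.sA, mem_sup_left h.tA, mem_sup_left h.pA, mem_sup_right h'.pA,
    pow_mem (mul_mem (mem_sup_left h.pA) (mem_sup_right h'.pA)) 3]

theorem extra [Finite G] (hz : ∀ g, g * z * g⁻¹ = z → g ∈ B) :
    ∃ ex, (ex ∈ [ex1, ex2, ex3, ex4, ex5, ex8, ex9] ∨ ex = exM ∨ ex = exL) ∧
      ∀ w ∈ ex, wval (vals z a b s t p q) w = 1 := by
  obtain ⟨hds, hdt⟩ := d_comm s2 t2 h h'
  obtain ⟨d, hd⟩ : ∃ d, d = (p * q) ^ 3 := ⟨_, rfl⟩
  rw [← hd] at hds hdt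
  let K := centralizer ({s} : Set G)
  have mK : ∀ {g}, Commute s g → g ∈ K := fun e => mem_centralizer_singleton_iff.2 e.symm
  have cK : ∀ g : K, Commute s g := fun g => (mem_centralizer_singleton_iff.1 g.2).symm
  let σ : K := ⟨s, mK (Commute.refl s)⟩
  have hσ : zpowers σ ≤ center K := zpowers_le.2 (mem_center_iff.2 fun g =>
    Subtype.ext (cK g).symm)
  haveI : (zpowers σ).Normal := ⟨fun n hn g => by
    rwa [mem_center_iff.1 (hσ hn) g, mul_inv_cancel_right]⟩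
  let f := QuotientGroup.mk' (zpowers σ)
  have hs : ∀ k : ℤ, s ^ k = 1 ∨ s ^ k = s := fun k => by
    rw [← Int.emod_add_mul_ediv k 2, zpow_add, zpow_mul, zpow_two, s2, one_zpow, mul_one]
    rcases Int.emod_two_eq_zero_or_one k with e | e <;> simp [e]
  have hf : ∀ g : K, f g = 1 → g.1 = 1 ∨ g.1 * s = 1 := fun g e => by
    obtain ⟨k, rfl⟩ := mem_zpowers_iff.1 ((QuotientGroup.eq_one_iff g).1 e)
    exact (hs k).imp id fun e => by rw [show (σ ^ k).1 = s from e, s2]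
  have fσ : f σ = 1 := (QuotientGroup.eq_one_iff _).2 (mem_zpowers σ)
  have b3 := h'.bas.y3
  have b1 : b ≠ 1 := fun e => h'.bas.yx (e ▸ one_mem _)
  have hbs : ∀ x : G, x ^ 3 = 1 → x * s = 1 → False := fun x e1 e2 => by
    rw [eq_inv_of_mul_eq_one_left e2, inv_pow, inv_eq_one, pow_succ, pow_two, s2, one_mul] at e1
    exact h.s1 e1
  let β : K := ⟨b, mK h.sb⟩
  let τ : K := ⟨t, mK h.st⟩
  let π : K := ⟨p, mK h.sp⟩
  let δ : K := ⟨d, mK hds⟩
  have hβ : SC (f β) := by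
    have e3 : f β ^ 3 = 1 := by rw [← map_pow, show β ^ 3 = 1 from Subtype.ext b3, map_one]
    refine ⟨fun e => (hf _ e).elim b1 (hbs b b3), e3, fun g hg => mem_zpowers_three e3 ?_⟩
    obtain ⟨g, rfl⟩ := QuotientGroup.mk'_surjective _ g
    have h1 : g.1 * b * g.1⁻¹ = b := by
      rcases hf (β⁻¹ * (g * β * g⁻¹)) (by
          rw [map_mul, map_mul, map_mul, hg, map_inv, map_inv]; simp [f]) with e | e
      · exact (inv_mul_eq_one.1 e).symm
      · exfalso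
        have e' : g.1 * b * g.1⁻¹ * s = b := by
          rw [eq_comm, ← inv_mul_eq_one, ← mul_assoc]; exact e
        have h2 := (cK (g * β * g⁻¹)).symm.mul_pow 3
        change (g.1 * b * g.1⁻¹ * s) ^ 3 = (g.1 * b * g.1⁻¹) ^ 3 * _ at h2
        rw [e', conj_pow, b3, pow_succ, pow_two, s2] at h2
        exact h.s1 (by simpa using h2.symm)
    have h2 : g.1 ∈ B := by
      have := hz (q⁻¹ * g * q) (by
        calc _ = q⁻¹ * (g * (q * z * q⁻¹) * g.1⁻¹) * q := by group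
          _ = q⁻¹ * (q * z * q⁻¹) * q := by rw [h'.pz, h1]
          _ = z := by group)
      simpa [mul_assoc] using mul_mem (mul_mem h'.pA this) (inv_mem h'.pA)
    have h3 : ∀ k : K, k.1 ∈ zpowers b → f k ∈ zpowers (f β) := fun k hk => by
      obtain ⟨i, hi⟩ := mem_zpowers_iff.1 hk
      exact ⟨i, by rw [← show β ^ i = k from Subtype.ext hi, map_zpow]⟩
    rcases h'.cent h2 (cK g) h1 with e | e
    · exact h3 g e
    · have := h3 (σ⁻¹ * g) e
      rwa [map_mul, map_inv, fσ, inv_one, one_mul] at this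
  have hu := h.u4
  have key := ft_cases (τ := f τ) (π := f π) (δ := f δ) (υ := f (τ * π * β)) hβ
    (by rw [← map_mul, show τ * τ = 1 from Subtype.ext t2, map_one])
    (by rw [← map_inv, ← map_mul, ← map_mul, ← map_inv]
        exact congrArg f (Subtype.ext (h'.inv b h'.bas.yV)))
    (by rw [← map_mul, show π * π = σ from Subtype.ext h.p2, fσ])
    (by rw [← map_mul, show π * τ = σ * τ * π from Subtype.ext h.pt, map_mul, map_mul, fσ, one_mul])
    (by rw [← map_mul, ← map_pow, show (π * β) ^ 3 = σ from Subtype.ext h.pb, fσ])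
    (by rw [← map_mul, ← map_mul]; exact congrArg f (Subtype.ext hdt.symm))
    (by rw [← map_pow, show (τ * π * β) ^ 4 = σ from Subtype.ext hu, fσ])
    (fun e => by
      rw [← map_pow] at e
      rw [show 4 = 2 + 2 from rfl, pow_add] at hu
      rcases hf _ e with e | e
      · rw [show (t * p * b) ^ 2 = 1 from e, one_mul] at hu
        exact h.s1 hu.symm
      · rw [eq_inv_of_mul_eq_one_left (show (t * p * b) ^ 2 * s = 1 from e), ← mul_inv_rev, s2,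
          inv_one] at hu
        exact h.s1 hu.symm)
  simp only [← map_mul, ← map_pow] at key
  rcases key with e | ⟨e1, e2, e3⟩ | ⟨e1, e2⟩ | ⟨g, e⟩
  · rcases hf _ e with e | e
    · exact ⟨ex1, by simp, by simpa [ex1, sval, vals, ← hd, pow_succ, mul_assoc] using e⟩
    · exact ⟨ex2, by simp, by simpa [ex2, sval, vals, ← hd, pow_succ, mul_assoc] using e⟩
  · rcases hf _ e2 with e2 | e2
    · exact ⟨ex3, by simp, by simpa [ex3, sval, vals, ← hd, pow_succ, mul_assoc] using e2⟩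
    rcases hf _ e1 with e1 | e1 <;> rcases hf _ e3 with e3 | e3
    · exact ⟨exL, by simp, by
        simpa [exL, sval, vals, ← hd, pow_succ, mul_assoc] using And.intro e1 (And.intro e2 e3)⟩
    · exact ⟨ex4, by simp, by
        simpa [ex4, sval, vals, ← hd, pow_succ, mul_assoc] using And.intro e1 (And.intro e2 e3)⟩
    · exact ⟨exM, by simp, by
        simpa [exM, sval, vals, ← hd, pow_succ, mul_assoc] using And.intro e1 (And.intro e2 e3)⟩
    · exact ⟨ex5, by simp, by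
        simpa [ex5, sval, vals, ← hd, pow_succ, mul_assoc] using And.intro e1 (And.intro e2 e3)⟩
  · have e3 : (d * b) ^ 20 = 1 := by
      rw [show 20 = 10 + 10 from rfl, pow_add]
      rcases hf _ e2 with e | e
      · rw [show (d * b) ^ 10 = 1 from e, one_mul]
      · rw [eq_inv_of_mul_eq_one_left (show (d * b) ^ 10 * s = 1 from e), ← mul_inv_rev, s2, inv_one]
    rcases hf (δ * π * (π * δ)⁻¹) (by rw [map_mul, map_inv, e1, mul_inv_cancel]) with e | e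
    · exact ⟨ex8, by simp, by
        simpa [ex8, sval, vals, ← hd, pow_succ, mul_assoc] using And.intro e e3⟩
    · exact ⟨ex9, by simp, by simpa [ex9, sval, vals, ← hd, pow_succ, mul_assoc] using e⟩
  · exfalso
    obtain ⟨g, rfl⟩ := QuotientGroup.mk'_surjective _ g
    obtain ⟨k, hk⟩ := mem_zpowers_iff.1 e
    obtain ⟨u, hu'⟩ : ∃ u, u = t * p * b := ⟨_, rfl⟩
    rw [← hu'] at hu
    have h1 : g.1 * t * g.1⁻¹ ∈ zpowers u := by
      rcases hf (((τ * π * β) ^ k)⁻¹ * (g * τ * g⁻¹)) (by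
          rw [map_mul, map_inv, map_zpow, hk, map_mul, map_mul, map_inv, inv_mul_cancel]) with e | e
      · have e' : (u ^ k)⁻¹ * (g.1 * t * g.1⁻¹) = 1 := hu' ▸ e
        exact inv_mul_eq_one.1 e' ▸ zpow_mem (mem_zpowers u) k
      · have e' : (u ^ k)⁻¹ * (g.1 * t * g.1⁻¹) * s = 1 := hu' ▸ e
        rw [mul_eq_one_iff_eq_inv, inv_mul_eq_iff_eq_mul] at e'
        exact e' ▸ mul_mem (zpow_mem (mem_zpowers u) k) (inv_mem (hu ▸ pow_mem (mem_zpowers u) 4))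
    have h8 : orderOf u = 2 ^ 3 := orderOf_eq_prime_pow (hp := ⟨Nat.prime_two⟩) (n := 2)
      (by rw [show 2 ^ 2 = 4 from rfl, hu]; exact h.s1)
      (by rw [show 2 ^ (2 + 1) = 4 + 4 from rfl, pow_add, hu, s2])
    obtain ⟨i, hi⟩ := mem_zpowers_iff.1 h1
    have h2 : (orderOf u : ℤ) ∣ i + i := orderOf_dvd_iff_zpow_eq_one.2 (by
      rw [zpow_add, hi, conj_mul, t2]; simp)
    obtain ⟨j, rfl⟩ : (4 : ℤ) ∣ i := by rw [h8] at h2; omega
    rw [zpow_mul, show u ^ (4 : ℤ) = s from hu ▸ zpow_natCast u 4] at hi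
    rcases hs j with e | e <;> rw [e] at hi
    · exact h.t1 (by simpa using hi.symm)
    · rw [eq_mul_inv_iff_mul_eq, (cK g).eq, mul_right_inj] at hi
      exact h.ts hi.symm

end

theorem Amal.core [Finite G] {A B V W : Subgroup G} {z : G} (h : Amal A B V W z) :
    Nonempty (↥(A ⊔ B) ≃* Spor.M12) ∨ Nonempty (↥(A ⊔ B) ≃* PSL(3, ZMod 3)) := by
  obtain ⟨z, a, b, s, t, p, q, h, ha, s2, t2, h1, h2⟩ := h.exists_sides
  obtain ⟨ex, h3, h4⟩ := extra s2 t2 h1 h2 fun g hg => (h.nz g (Or.inl hg)).2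
  have h5 : Sat (vals z a b s t p q) (rels1 ++ ex) :=
    ⟨rfl, fun w hw => (List.mem_append.1 hw).elim ((sat1 s2 t2 h1 h2).2 w) (h4 w)⟩
  have h6 := gen8 s2 t2 h1 h2
  have h7 : 27 ∣ Nat.card (Gen 8 (vals z a b s t p q)) := by
    rw [h6]
    exact (show 27 ∣ Nat.card A by rw [h.hA.cardA]; norm_num).trans (card_dvd_of_le le_sup_left)
  rcases h3 with h3 | rfl | rfl
  · have h8 := bound_small h5 h3
    rw [h6] at h8
    have h9 : B = A ⊔ B := eq_of_le_of_card_ge le_sup_right (by rwa [h.hB.cardA])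
    exact absurd (h1.pz ▸ h.hB.nrm p (h9 ▸ mem_sup_left h1.pA) z h.zW) ha
  · exact Or.inl (h6 ▸ hom_M12 h5 h7)
  · exact Or.inr (h6 ▸ hom_L33 h5 h7)

end CfsgH8.Am
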