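import Cfsg.Agent.H8.M12RecC
import Cfsg.Agent.H8.NineNorm
import Cfsg.Agent.H8.AmLoc

set_option autoImplicit false

/-! Recognition of `M12` from the order statistics: the amalgam. -/

namespace CfsgH8.M12

open Subgroup CfsgH5 CfsgH6 Cfsg

variable {G : Type*} [Group G]

/-- the structure of the centralizer of a `3`-central element -/
structure Cz (S : Subgroup G) (z e : G) : Prop where
  hs : Hs S z
  card : Nat.card (Cx z) = 54
  ez : e ∈ Cx z
  e2 : e * e = 1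
  fix : S ⊓ Cx e = zpowers z

namespace Cz

variable [Finite G] {S : Subgroup G} {z e : G} (h : Cz S z e)
include h

theorem mm {g k : G} (hg : g ∈ Cx z) (hk : k ∈ Cx z) : g * k ∈ S ↔ (g ∈ S ↔ k ∈ S) := by
  have h1 := relIndex_mul_card (S_le h.hs)
  rw [h.hs.card, h.card] at h1
  exact mul_mem_iff_of_index_two (H := S.subgroupOf (Cx z)) (show S.relIndex _ = 2 by omega)
    (a := ⟨g, hg⟩) (b := ⟨k, hk⟩)

theorem eS : e ∉ S := fun he => by
  obtain ⟨s, hs, hs'⟩ := h.hs.exists_not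
  refine hs' (h.fix.le ⟨hs, mem_Cx.2 ?_⟩)
  rw [h.hs.eq_one he (eq_inv_of_mul_eq_one_left h.e2)]
  simp

theorem nS {g : G} (hg : NX z g) (s : G) (hs : s ∈ S) : g * s * g⁻¹ ∈ S := by
  have h1 : g * s * g⁻¹ ∈ Cx z := by
    rcases hg with e | e
    · rw [mem_Cx, ← e, conj_mul, conj_mul, h.hs.zc s hs]
    · rw [← Cx_inv, mem_Cx, ← e, conj_mul, conj_mul, h.hs.zc s hs]
  have h2 := inv_mem ((h.mm h1 h1).2 Iff.rfl)
  rwa [← eq_inv_of_mul_eq_one_right (show _ * _ * (g * s * g⁻¹) = 1 by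
    rw [← pow_two, ← pow_succ, conj_pow, h.hs.cube s hs]; simp)] at h2

theorem ne : NX z e := Or.inl (by rw [mem_Cx.1 h.ez, mul_inv_cancel_right])

theorem exists_tau (hr : IsConj z z⁻¹) :
    ∃ t, t * t = 1 ∧ t * e = e * t ∧ t * z * t⁻¹ = z⁻¹ := by
  classical
  haveI : Fact (Nat.Prime 2) := ⟨Nat.prime_two⟩
  obtain ⟨g, hg⟩ := isConj_iff.1 hr
  have e1 : e ≠ 1 := fun e => h.eS (e ▸ one_mem S)
  have e2 : orderOf e = 2 := orderOf_eq_prime (by rw [pow_two, h.e2]) e1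
  have h1 : SylIn 2 (zpowers e) (Cx z) := sylIn_of_not_dvd (zpowers_le.2 h.ez)
    (IsPGroup.of_card (n := 1) (by rw [Nat.card_zpowers, e2, pow_one])) (by
      have := relIndex_mul_card (zpowers_le.2 h.ez)
      rw [Nat.card_zpowers, e2, h.card] at this
      omega)
  obtain ⟨k, hk, h2⟩ := h1.frattini (g := g) (by
    ext y
    rw [mem_cj, mem_Cx, ← Cx_inv z, ← hg, mem_Cx]
    constructor
    · intro h
      calc y * (g * z * g⁻¹) = g * (g⁻¹ * y * g * z) * g⁻¹ := by group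
        _ = _ := by rw [h]; group
    · intro h
      calc g⁻¹ * y * g * z = g⁻¹ * (y * (g * z * g⁻¹)) * g := by group
        _ = _ := by rw [h]; group)
  obtain ⟨u, hu⟩ : ∃ u, u = k * g := ⟨_, rfl⟩
  have u1 : u * z * u⁻¹ = z⁻¹ := by
    calc u * z * u⁻¹ = k * (g * z * g⁻¹) * k⁻¹ := by rw [hu]; group
      _ = _ := by rw [hg, mem_Cx.1 (Cx_inv z ▸ hk :), mul_inv_cancel_right]
  have u2 : Commute u e := by
    have h3 : u * e * u⁻¹ ∈ zpowers e := h2.le (hu ▸ conj_mem_cj.2 (mem_zpowers e))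
    obtain ⟨i, hi, h4⟩ := Finset.mem_image.1 (mem_zpowers_iff_mem_range_orderOf.1 h3)
    rw [e2, Finset.mem_range] at hi
    interval_cases i
    · exact absurd (conj_eq_one_iff.1 (h4.symm.trans (pow_zero e))) e1
    · exact mul_inv_eq_iff_eq_mul.1 (h4.symm.trans (pow_one e))
  have u3 : u * u ∈ Cx z := mem_Cx.2 (mul_inv_eq_iff_eq_mul.1 (by
    calc u * u * z * (u * u)⁻¹ = u * (u * z * u⁻¹) * u⁻¹ := by group
      _ = u * z⁻¹ * u⁻¹ := by rw [u1]
      _ = (u * z * u⁻¹)⁻¹ := by group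
      _ = _ := by rw [u1, inv_inv]))
  have u4 : u * u * u * z * (u * u * u)⁻¹ = z⁻¹ := by
    calc _ = u * (u * u * z * (u * u)⁻¹) * u⁻¹ := by group
      _ = _ := by rw [mem_Cx.1 u3, mul_inv_cancel_right, u1]
  have u5 : u * u * u * (u * u * u) = (u * u) ^ 3 := by simp only [pow_succ, pow_zero]; group
  have u6 := ((u2.mul_left u2).mul_left u2)
  refine ⟨u * u * u, ?_, u6, u4⟩
  by_cases h3 : u * u ∈ S
  · rw [u5, h.hs.cube _ h3]
  exfalso
  have h4 := h.hs.cube _ ((h.mm u3 h.ez).2 (iff_of_false h3 h.eS))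
  rw [(u2.mul_left u2).mul_pow, ← u5, pow_succ e, pow_two, h.e2, one_mul,
    mul_eq_one_iff_eq_inv, inv_eq_of_mul_eq_one_right h.e2] at h4
  generalize u * u * u = t at h4 u4
  obtain ⟨a, ha, ha'⟩ := h.hs.exists_not
  have hb := h.nS (Or.inr u4) a ha
  have h5 := h.hs.inv_mod (h.nS h.ne) h.e2 h.fix ha
  have h6 : t * (t * a * t⁻¹) * t⁻¹ = e * a * e⁻¹ := by rw [← h4]; group
  have nz : ∀ v ∈ zpowers z, t * v * t⁻¹ = v⁻¹ := by
    rintro _ ⟨i, rfl⟩
    simp only [← conj_zpow, u4, inv_zpow]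
  obtain ⟨b, hb'⟩ : ∃ b, b = t * a * t⁻¹ := ⟨_, rfl⟩
  rw [← hb'] at hb h6
  obtain ⟨c, hc⟩ : ∃ c, c = a * (e * a * e⁻¹) := ⟨_, rfl⟩
  have h7 : t * b * t⁻¹ = a⁻¹ * c := by rw [h6, hc, inv_mul_cancel_left]
  rw [← hc] at h5
  have h8 : a * b = b * a := by
    have h8 := nz _ (h.hs.comm a ha b hb)
    rw [show t * (a * b * a⁻¹ * b⁻¹) * t⁻¹ = t * a * t⁻¹ * (t * b * t⁻¹) * (t * a * t⁻¹)⁻¹ *
      (t * b * t⁻¹)⁻¹ by group, h7, ← hb', show b * (a⁻¹ * c) * b⁻¹ * (a⁻¹ * c)⁻¹ =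
      b * a⁻¹ * (c * b⁻¹) * c⁻¹ * a by group, ← h.hs.comm_z h5 (inv_mem hb), ← mul_assoc,
      mul_inv_cancel_right, h.hs.comm_inv hb ha, inv_inj] at h8
    have h9 := h.hs.eq_one (h.hs.zle (h.hs.comm b hb a ha)) (h8.trans (by group))
    rw [mul_inv_eq_one, mul_inv_eq_iff_eq_mul] at h9
    exact h9.symm
  have hB := h.hs.bas ha ha'
  obtain ⟨i, j, hij⟩ := hB.surj (v := b) ⟨hb, mem_Cx.2 h8.symm⟩
  have h9 : Acts z a t (2, 0, i, j) := ⟨u4.trans hB.el_two_zero.symm, hb' ▸ hij⟩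
  have h10 := (hB.mul h9 h9).2
  rw [h4] at h10
  have h11 := hB.det_ne h9
  rw [hc, h10, show ∀ i j, a * el z a i j = el z a (0 + i) (1 + j) from fun i j => by
    rw [el_add hB.x3 hB.y3 hB.xy, el_zero_one]] at h5
  obtain ⟨k, hk⟩ : ∃ k, el z a k 0 = _ := (mem_zpowers_three hB.x3 h5).elim
    (fun e => ⟨0, (el_zero z a).trans e.symm⟩) fun e => e.elim
    (fun e => ⟨1, (el_one_zero z a).trans e.symm⟩) fun e => ⟨2, hB.el_two_zero.trans e.symm⟩
  have h12 := (hB.inj hk).2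
  clear hij h9 h10 h5 hk
  revert i j
  decide

theorem side (hG : Nse G) (hS : SylIn 3 S ⊤)
    (hy : ∀ y, orderOf y = 3 → ¬ IsConj z y → Nat.card (Cx y) = 36 ∧ inv2 (Cx y) = 4) {t : G}
    (t2 : t * t = 1) (te : t * e = e * t) (tz : t * z * t⁻¹ = z⁻¹) :
    ∃ a ∈ S, a ∉ zpowers z ∧ t * a * t⁻¹ = a ∧ e * a * e⁻¹ = a⁻¹ ∧
      Aff (normalizer ((S ⊓ Cx a : Subgroup G) : Set G)) (S ⊓ Cx a) ∧
      ∀ g, NX z g → g ∈ normalizer ((S ⊓ Cx a : Subgroup G) : Set G) := by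
  haveI : Fact (Nat.Prime 2) := ⟨Nat.prime_two⟩
  haveI : Fact (Nat.Prime 3) := ⟨Nat.prime_three⟩
  have := Fintype.ofFinite G
  have nz : ∀ v ∈ zpowers z, t * v * t⁻¹ = v → v = 1 := by
    rintro _ ⟨i, rfl⟩ e
    refine h.hs.eq_one (zpow_mem h.hs.zS i) (e.symm.trans ?_)
    simp only [← conj_zpow, tz, inv_zpow]
  obtain ⟨a, ha, a1, ta⟩ := h.hs.exists_fix (h.nS (Or.inr tz)) t2
  have ha' : a ∉ zpowers z := fun e => a1 (nz a e ta)
  have ea : e * a * e⁻¹ = a⁻¹ := eq_inv_of_mul_eq_one_right (nz _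
    (h.hs.inv_mod (h.nS h.ne) h.e2 h.fix ha) (by
      calc _ = t * a * t⁻¹ * ((t * e) * a * (t * e)⁻¹) := by group
        _ = t * a * t⁻¹ * (e * (t * a * t⁻¹) * e⁻¹) := by rw [te]; group
        _ = _ := by rw [ta]))
  have a3 := hG.ord_syl hS ha a1
  have za : z ∈ Cx a := mem_Cx.2 (h.hs.zc a ha).symm
  have hc : IsConj z a := by
    by_contra hc
    obtain ⟨h1, h2⟩ := hy a a3 hc
    obtain ⟨U, hU⟩ := exists_sylIn 2 (Cx a)
    have h3 : ∀ u ∈ U, u * u = 1 := fun u hu => by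
      obtain ⟨k, hk⟩ := hU.isPGroup ⟨u, hu⟩
      exact hG.sq_of_two a3 (hU.le hu) (congrArg Subtype.val hk)
    have h4 : 4 ≤ Nat.card U := Nat.le_of_dvd Nat.card_pos
      ((((Nat.Prime.coprime_iff_not_dvd Nat.prime_two).2 hU.not_dvd_relIndex).pow_left
        2).dvd_of_dvd_mul_left (by rw [relIndex_mul_card hU.le, h1]; norm_num))
    have h5 : Function.Bijective fun u : U => (⟨⟨u, hU.le u.2⟩, Subtype.ext (h3 u u.2)⟩ :
        {u : Cx a // u * u = 1}) := Function.Injective.bijective_of_nat_card_le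
      (fun u v e => Subtype.ext (congrArg (fun u => u.1.1) e)) (h2.le.trans h4)
    have h6 : ∀ u ∈ Cx a, u * u = 1 → u ∈ U := fun u hu e => by
      obtain ⟨v, hv⟩ := h5.2 ⟨⟨u, hu⟩, Subtype.ext e⟩
      exact (show v.1 = u from congrArg (fun u => u.1.1) hv) ▸ v.2
    have h7 : t ∈ Cx a := mem_Cx.2 (mul_inv_eq_iff_eq_mul.1 ta)
    have h8 := h3 _ (mul_mem (h6 t h7 t2) (h6 (z⁻¹ * t * z) (mul_mem (mul_mem (inv_mem za) h7) za)
      (by rw [show z⁻¹ * t * z * (z⁻¹ * t * z) = z⁻¹ * (t * t) * z by group, t2]; simp)))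
    rw [show t * (z⁻¹ * t * z) = (t * z * t⁻¹)⁻¹ * (t * t) * z by group, tz, t2, inv_inv,
      mul_one] at h8
    exact h.hs.z1 (mem_bot.1 (h.hs.mem_of_sq h.hs.zS (h.hs.mem_of_sq (mul_mem h.hs.zS h.hs.zS)
      (mem_bot.2 h8))))
  have hB := h.hs.bas ha ha'
  obtain ⟨V, hV⟩ : ∃ V, V = S ⊓ Cx a := ⟨_, rfl⟩
  have hVS : V ≤ S := hV ▸ inf_le_left
  have hVa : V ≤ Cx a := hV ▸ inf_le_right
  refine ⟨a, ha, ha', ta, ea, ?_⟩
  rw [← hV] at hB ⊢
  have nV : ∀ g, g * z * g⁻¹ ∈ V → g * a * g⁻¹ ∈ V → g ∈ normalizer (V : Set G) :=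
    fun g h1 h2 => mem_normalizer_of_conj_mem fun v hv => by
      obtain ⟨i, j, rfl⟩ := hB.surj hv
      rw [el_conj]
      exact el_mem h1 h2 i j
  have nS : S ≤ normalizer (V : Set G) := fun s hs =>
    mem_normalizer_of_conj_mem fun v hv => h.hs.nrm hVS hB.xV hs hv
  have nC : Cx z ≤ normalizer (V : Set G) := fun g hg => by
    by_cases h1 : g ∈ S
    · exact nS h1
    · exact (mul_mem_cancel_right (nV e (by
        rw [mem_Cx.1 h.ez, mul_inv_cancel_right]; exact hB.xV)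
        (ea ▸ inv_mem hB.yV))).1 (nS ((h.mm hg h.ez).2 (iff_of_false h1 h.eS)))
  have nX : ∀ g, NX z g → g ∈ normalizer (V : Set G) := fun g hg => by
    rcases hg with h1 | h1
    · exact nC (mem_Cx.2 (mul_inv_eq_iff_eq_mul.1 h1))
    · refine (mul_mem_cancel_left (nV t (tz ▸ inv_mem hB.xV) (ta.symm ▸ hB.yV))).1
        (nC (mem_Cx.2 (mul_inv_eq_iff_eq_mul.1 ?_)))
      calc _ = t * (g * z * g⁻¹) * t⁻¹ := by group
        _ = t * z⁻¹ * t⁻¹ := by rw [h1]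
        _ = (t * z * t⁻¹)⁻¹ := by group
        _ = _ := by rw [tz, inv_inv]
  have cV : ∀ g, (∀ v ∈ V, g * v = v * g) → g ∈ V := fun g hg => by
    have h1 : g ∈ Cx z := mem_Cx.2 (hg z hB.xV)
    refine hV ▸ ⟨?_, mem_Cx.2 (hg a hB.yV)⟩
    by_contra h2
    have h3 := h.hs.comm _ ((h.mm h1 h.ez).2 (iff_of_false h2 h.eS)) a ha
    rw [show g * e * a * (g * e)⁻¹ * a⁻¹ = g * (e * a * e⁻¹) * g⁻¹ * a⁻¹ by group, ea,
      hg _ (inv_mem hB.yV), mul_inv_cancel_right] at h3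
    exact ha' (inv_mem_iff.1 (h.hs.mem_of_sq (inv_mem ha) h3))
  refine ⟨⟨le_normalizer, hB.card, hB.cube, hB.comm, CfsgH6.nrm_normalizer V, fun g _ => cV g, ?_⟩, nX⟩
  have h1 := Nat.le_of_dvd (by norm_num) (card_normalizer_nine_aux hB.card hB.cube (le_antisymm
    (fun g hg => cV g fun v hv => (mem_centralizer_iff.1 hg v hv).symm)
    fun g hg => mem_centralizer_iff.2 fun v hv => hB.comm v hv g hg))
  have h2 := relIndex_mul_card (le_normalizer : V ≤ _)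
  have h3 : normalizer (S : Set G) ≤ normalizer (V : Set G) := fun g hg => nX g (by
    have h3 : Hs (cj g S) _ := h.hs.cjj g
    rw [mem_normalizer_iff_cj.1 hg] at h3
    rcases mem_zpowers_three h.hs.z3 (h.hs.cen _ h3.zS h3.zc) with e | e | e
    · exact absurd e h3.z1
    · exact Or.inl e
    · exact Or.inr e)
  have h4 := relIndex_mul_card h3
  have h5 : Cx z ≤ normalizer (S : Set G) := fun g hg => mem_normalizer_of_conj_mem
    (h.nS (Or.inl (by rw [mem_Cx.1 hg, mul_inv_cancel_right])))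
  have h6 := relIndex_mul_card h5
  have h7 : (Cx z).relIndex (normalizer (S : Set G)) ≠ 1 := fun e => h.hs.z1 (h.hs.eq_one h.hs.zS
    (by rw [← tz, mem_Cx.1 (relIndex_eq_one.1 e (mem_normalizer_of_conj_mem
      (h.nS (Or.inr tz)))), mul_inv_cancel_right]))
  have h8 : (normalizer (S : Set G)).relIndex (normalizer (V : Set G)) ≠ 1 := fun e => by
    obtain ⟨S', i1, i2, i3, -⟩ := hG.exists_hs' hS h.hs a3 (card_Cx_of_isConj hc ▸ h.card ▸
      by norm_num) hVa (hS.isPGroup.to_le hVS)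
    obtain ⟨b, hb, hab⟩ := h.hs.exists_not_comm ha ha'
    refine hab (i3.zc b ((eq_of_le_of_card_ge (fun s hs => mem_of_cube hS trivial (i3.cube s hs)
      (CfsgH6.nrm_normalizer S s (relIndex_eq_one.1 e (mem_normalizer_of_conj_mem fun v hv =>
        i3.nrm i1 hB.yV hs hv)))) (by rw [i3.card, h.hs.card])).ge hb))
  obtain ⟨P, rfl⟩ := hS.exists_sylow
  have h9 := relIndex_normalizer_modEq P nS
  rw [hB.card] at h2
  rw [h.card] at h6
  have h10 := Nat.card_pos (α := normalizer ((P : Subgroup G) : Set G))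
  have h11 : 4 * 108 ≤ Nat.card (normalizer (V : Set G)) := by
    rw [← h4]
    refine Nat.mul_le_mul ?_ (by omega)
    unfold Nat.ModEq at h9
    omega
  omega

end Cz

theorem Nse.iso [Finite G] (h : Nse G) : Nonempty (G ≃* Spor.M12) := by
  have := Fintype.ofFinite G
  obtain ⟨S, hS⟩ := exists_sylIn 3 (⊤ : Subgroup G)
  obtain ⟨z, hz⟩ := exists_hs (h.card_syl hS) (h.cube_syl hS) (h.not_comm hS)
  obtain ⟨h1, ⟨e, e1, e2, e3⟩, hy⟩ := h.nums hS hz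
  have hC : Cz S z e := ⟨hz, h1, e1, e2, e3⟩
  obtain ⟨t, t2, te, tz⟩ := hC.exists_tau (h.real hS hz)
  obtain ⟨a, ha, ha', ta, ea, hA, nA⟩ := hC.side h hS hy t2 te tz
  obtain ⟨b, hb, hb', tb, eb, hB, nB⟩ := hC.side h hS hy (t := e * t)
    (by rw [mul_assoc, ← mul_assoc t, te, mul_assoc, t2, mul_one, e2]) (by rw [mul_assoc, te]) (by
      calc _ = e * (t * z * t⁻¹) * e⁻¹ := by group
        _ = _ := by rw [tz, mem_Cx.1 (Cx_inv z ▸ e1 :), mul_inv_cancel_right])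
  have nS : ∀ s ∈ S, NX z s := fun s hs => Or.inl (by rw [hz.zc s hs, mul_inv_cancel_right])
  have h2 := Am.Amal.core ⟨hA, hB, fun s hs => nB s (nS s hs.1), fun s hs => nA s (nS s hs.1),
    fun h2 => ?_, (hz.bas ha ha').xV, (hz.bas hb hb').xV, hz.z1, fun g hg => ⟨nA g hg, nB g hg⟩⟩
  · generalize (_ ⊔ _ : Subgroup G) = H at h2
    rcases h2 with ⟨⟨f⟩⟩ | ⟨⟨f⟩⟩
    · rw [eq_top_of_card_eq H (by rw [Nat.card_congr f.toEquiv, card_M12, h.card])] at f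
      exact ⟨topEquiv.symm.trans f⟩
    · have := card_subgroup_dvd_card H
      rw [Nat.card_congr f.toEquiv, Am.card_psl33, h.card] at this
      omega
  · have hB := hz.bas ha ha'
    obtain ⟨i, j, h3⟩ := hB.surj (h2.ge (hz.bas hb hb').yV)
    have h4 := hB.conj_el (hB.mul (m := (1, 0, 0, 2)) (n := (2, 0, 0, 1))
      ⟨by rw [mem_Cx.1 e1, mul_inv_cancel_right, el_one_zero], ea.trans hB.el_zero_two.symm⟩
      ⟨tz.trans hB.el_two_zero.symm, ta.trans (el_zero_one z a).symm⟩) i j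
    rw [← h3, tb, h3] at h4
    obtain ⟨h5, h6⟩ := hB.inj h4
    obtain ⟨rfl, rfl⟩ : i = 0 ∧ j = 0 := by
      clear h3 h4
      revert i j
      decide
    exact hb' (h3 ▸ (el_zero z a).symm ▸ one_mem _)

end CfsgH8.M12
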