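import Cfsg.Agent.H8.M11Loc
import Cfsg.Agent.H8.Count2
import Cfsg.Agent.H6.BaerSuzuki

set_option autoImplicit false

/-! Recognition of `M11` from the numbers of elements of each order. -/

namespace CfsgH8.M11

open Subgroup CfsgH6 Cfsg

variable {G : Type*} [Group G]

/-- the order statistics of `M11` -/
structure Nse (G : Type*) [Group G] : Prop where
  card : Nat.card G = 7920
  n2 : nord G 2 = 165
  n3 : nord G 3 = 440
  n4 : nord G 4 = 990
  n6 : nord G 6 = 1320
  n8 : nord G 8 = 1980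
  n11 : nord G 11 = 1440
  ord : ∀ g : G, orderOf g ∈ ({1, 2, 3, 4, 5, 6, 8, 11} : Finset ℕ)

theorem nse_of_eq [Finite G] (hc : Nat.card G = 7920)
    (h : {c : ℕ | 0 < c ∧ ∃ n : ℕ, c = Nat.card {g : G // orderOf g = n}} =
      {1, 165, 440, 990, 1584, 1320, 1980, 1440}) : Nse G := by
  obtain ⟨h1, h2, h3⟩ := nse_basic (G := G) {1, 165, 440, 990, 1584, 1320, 1980, 1440}
    (by rw [h]; simp) (by rw [hc]; rfl)
  simp only [Finset.mem_insert, Finset.mem_singleton] at h1
  have f : ∀ p k, p.Prime → p ^ k ∣ 7920 → p ^ k ∣ ∑ i ∈ Finset.range (k + 1), nord G (p ^ i) :=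
    fun p k hp hk => by
      rw [← Nat.sum_divisors_prime_pow hp]
      exact frobenius_pow hp (hc ▸ hk)
  have n1 : nord G 1 = 1 := nord_one
  have f2 := f 2 1 (by norm_num) (by norm_num)
  have f4 := f 2 2 (by norm_num) (by norm_num)
  have f8 := f 2 3 (by norm_num) (by norm_num)
  have f16 := f 2 4 (by norm_num) (by norm_num)
  have f3 := f 3 1 (by norm_num) (by norm_num)
  have f9 := f 3 2 (by norm_num) (by norm_num)
  have f5 := f 5 1 (by norm_num) (by norm_num)
  have f11 := f 11 1 (by norm_num) (by norm_num)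
  simp only [Finset.sum_range_succ, Finset.sum_range_zero] at f2 f4 f8 f16 f3 f9 f5 f11
  norm_num [n1] at f2 f4 f8 f16 f3 f9 f5 f11
  have n2 : nord G 2 = 165 := by
    have := h1 2
    have := h3 1 2
    omega
  have n3 : nord G 3 = 440 := by have := h1 3; omega
  have n5 : nord G 5 = 1584 := by have := h1 5; omega
  have n11 : nord G 11 = 1440 := by have := h1 11; omega
  have n4 : nord G 4 = 990 := by have := h1 4; omega
  have n8 : nord G 8 = 1980 := by have := h1 8; omega
  have n16 : nord G 16 = 0 := by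
    have := h1 16
    have := h3 5 16
    have := h3 11 16
    omega
  have n9 : nord G 9 = 0 := by
    have := h1 9
    have := h3 5 9
    have := h3 11 9
    have := h3 4 9
    have := h3 8 9
    omega
  obtain ⟨n, hn⟩ := h2 1320 (by simp)
  have h4 : ∀ d, 0 < nord G d → d ∈ ({1, 2, 3, 4, 5, 8, 11, n} : Finset ℕ) := by
    intro d hd
    simp only [Finset.mem_insert, Finset.mem_singleton]
    rcases h1 d with e | e | e | e | e | e | e | e | e
    · omega
    · simp [h3 d 1 hd (e.trans n1.symm)]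
    · simp [h3 d 2 hd (e.trans n2.symm)]
    · simp [h3 d 3 hd (e.trans n3.symm)]
    · simp [h3 d 4 hd (e.trans n4.symm)]
    · simp [h3 d 5 hd (e.trans n5.symm)]
    · simp [h3 d n hd (e.trans hn.symm)]
    · simp [h3 d 8 hd (e.trans n8.symm)]
    · simp [h3 d 11 hd (e.trans n11.symm)]
  have h5 : n ∈ ({1, 2, 3, 4, 5, 8, 11, 6, 9, 16, 10, 15, 22, 33, 55} : Finset ℕ) := by
    have h6 : ∀ d ∈ n.divisors, d ∈ ({1, 2, 3, 4, 5, 8, 11, n} : Finset ℕ) := fun d hd =>
      h4 d (nord_pos_of_dvd (n := n) (by omega) (Nat.dvd_of_mem_divisors hd))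
    have h7 : n ∈ (7920 : ℕ).divisors := by
      obtain ⟨g, hg⟩ := (nord_pos_iff (G := G) (n := n)).1 (by omega)
      exact Nat.mem_divisors.2 ⟨by rw [← hg, ← hc]; exact orderOf_dvd_natCard g, by norm_num⟩
    exact (by decide +kernel : ∀ n ∈ (7920 : ℕ).divisors,
      (∀ d ∈ n.divisors, d ∈ ({1, 2, 3, 4, 5, 8, 11, n} : Finset ℕ)) →
      n ∈ ({1, 2, 3, 4, 5, 8, 11, 6, 9, 16, 10, 15, 22, 33, 55} : Finset ℕ)) n h7 h6
  have := Fact.mk (show Nat.Prime 5 by norm_num)
  have := Fact.mk (show Nat.Prime 11 by norm_num)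
  have s5 := nord_eq_sylow (G := G) (p := 5) (by rw [hc]; norm_num) (by rw [hc]; norm_num)
  have s11 := nord_eq_sylow (G := G) (p := 11) (by rw [hc]; norm_num) (by rw [hc]; norm_num)
  have d5 := card_sylow_dvd_nord (G := G) (p := 5) (n := n) (h2 := by rw [hc]; norm_num)
  have d11 := card_sylow_dvd_nord (G := G) (p := 11) (n := n) (h2 := by rw [hc]; norm_num)
  rw [show Nat.card (Sylow 5 G) = 396 by omega, hn] at d5
  rw [show Nat.card (Sylow 11 G) = 144 by omega, hn] at d11
  obtain rfl : n = 6 := by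
    simp only [Finset.mem_insert, Finset.mem_singleton] at h5
    rcases h5 with rfl | rfl | rfl | rfl | rfl | rfl | rfl | rfl | rfl | rfl | rfl | rfl | rfl |
      rfl | rfl <;> omega
  refine ⟨hc, n2, n3, n4, hn, n8, n11, fun g => ?_⟩
  have := h4 _ (nord_pos_iff.2 ⟨g, rfl⟩)
  simp only [Finset.mem_insert, Finset.mem_singleton] at this ⊢
  omega

set_option synthInstance.maxSize 1000 in
theorem s4_exists : ∀ c : S4, c ^ 4 = 1 → c ^ 2 ≠ 1 → ∃ τ : S4, τ * τ = 1 ∧ τ * c * τ = c ^ 3 ∧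
    (∃ g : S4, g * c ^ 2 * g⁻¹ = τ * c) ∧ ∀ σ : S4, σ * σ = 1 → σ ≠ 1 →
    ∃ g : S4, g * c ^ 2 * g⁻¹ = σ ∨ g * τ * g⁻¹ = σ := by decide +kernel

theorem s4_card : Nat.card {σ : S4 // σ * σ = 1 ∧ σ ≠ 1} = 9 := by
  rw [Nat.card_eq_fintype_card]; decide +kernel

namespace Nse

variable [Finite G] (h : Nse G)
include h

theorem no_index_two (N : Subgroup G) : N.index ≠ 2 := by
  intro hN
  have := Fact.mk (show Nat.Prime 11 by norm_num)
  have h1 := N.card_mul_index
  rw [hN, h.card] at h1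
  have h2 : Nat.card N = 3960 := by omega
  have h3 := nord_eq_sylow (G := N) (p := 11) (by rw [h2]; norm_num) (by rw [h2]; norm_num)
  have h4 : nord N 11 = nord G 11 := by
    refine Nat.card_congr ⟨fun g => ⟨g.1.1, (orderOf_coe _).trans g.2⟩, fun g => ⟨⟨g.1, ?_⟩,
      (orderOf_mk _ _).trans g.2⟩, fun _ => rfl, fun _ => rfl⟩
    have h5 : g.1 ^ 11 = 1 := orderOf_dvd_iff_pow_eq_one.1 g.2.dvd
    have h6 := pow_mem (sq_mem_of_index_two hN g.1) 6
    rwa [← pow_mul, show 2 * 6 = 11 + 1 from rfl, pow_succ, h5, one_mul] at h6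
  obtain ⟨P⟩ : Nonempty (Sylow 11 N) := inferInstance
  have h5 := P.card_dvd_index.trans (index_dvd_card _)
  rw [h4, h.n11] at h3
  rw [h2, show Nat.card (Sylow 11 N) = 144 by omega] at h5
  omega

theorem not_ord {g : G} {n : ℕ} (hg : orderOf g = n)
    (hn : n ∉ ({1, 2, 3, 4, 5, 6, 8, 11} : Finset ℕ) := by decide) : False := hn (hg ▸ h.ord g)

theorem one_class {a : G} (ha : orderOf a = 8) (t : G) (ht : orderOf t = 2) : IsConj (a ^ 4) t := by
  classical
  have h1 := (zpowers a).card_mul_index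
  rw [Nat.card_zpowers, ha, h.card] at h1
  have h2 : t * t = 1 := by rw [← pow_two, ← ht, pow_orderOf_eq_one]
  by_contra hc
  obtain ⟨N, hN, -⟩ := thompson_transfer (S₀ := zpowers a) (m := 495) (by omega) (by decide) h2
    fun g hg => hc (by
      have h3 : orderOf (g * t * g⁻¹) = 2 := by rw [← MulAut.conj_apply, MulEquiv.orderOf_eq, ht]
      obtain ⟨i, hi⟩ := (mem_zpowers_iff_mem_range_orderOf.1 hg |> Finset.mem_image.1)
      rw [ha, Finset.mem_range] at hi
      rw [← hi.2, orderOf_pow' _ (by rintro rfl; simp [← hi.2] at h3), ha] at h3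
      obtain rfl : i = 4 := by
        have := hi.1
        interval_cases i <;> simp_all
      exact (isConj_iff.2 ⟨g, hi.2.symm⟩).symm)
  exact h.no_index_two N hN

theorem sq_eq_one_of_comm {k x : G} (hx : orderOf x = 3) (hk : ∃ n, k ^ 2 ^ n = 1)
    (hc : Commute k x) : k * k = 1 := by
  obtain ⟨n, hn⟩ := hk
  have h1 := orderOf_dvd_of_pow_eq_one hn
  have h2 := hc.orderOf_mul_eq_mul_orderOf_of_coprime
    (Nat.Coprime.coprime_dvd_left h1 (by rw [hx]; exact Nat.Coprime.pow_left n (by norm_num)))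
  have h3 := h.ord (k * x)
  rw [h2, hx] at h3
  simp only [Finset.mem_insert, Finset.mem_singleton] at h3
  rw [← pow_two, ← orderOf_dvd_iff_pow_eq_one]
  have : orderOf k = 1 ∨ orderOf k = 2 := by omega
  rcases this with e | e <;> simp [e]

theorem exists_loc : ∃ (z a s : G) (φ : centralizer ({z} : Set G) →* S4), Loc z a s φ ∧
    (∀ t, orderOf t = 2 → IsConj z t) ∧ Nat.card (centralizer ({z} : Set G)) = 48 := by
  have := Fact.mk Nat.prime_three
  obtain ⟨a, ha⟩ := (nord_pos_iff (G := G) (n := 8)).1 (by rw [h.n8]; norm_num)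
  obtain ⟨z, hz⟩ : ∃ z, z = a ^ 4 := ⟨_, rfl⟩
  have z2 : orderOf z = 2 := by rw [hz, orderOf_pow' _ (by norm_num), ha]; rfl
  have z1 : z ≠ 1 := by rintro rfl; simp at z2
  have zz : z * z = 1 := by rw [← pow_two, ← z2, pow_orderOf_eq_one]
  have hcl : ∀ t, orderOf t = orderOf z → IsConj z t := fun t ht =>
    hz ▸ h.one_class ha t (ht.trans z2)
  have hK : Nat.card (centralizer ({z} : Set G)) = 48 := by
    have h1 := nord_eq_index hcl
    have h2 := (centralizer ({z} : Set G)).card_mul_index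
    rw [← h1, z2, h.n2, h.card] at h2
    omega
  have aK : a ∈ centralizer ({z} : Set G) :=
    mem_centralizer_singleton_iff.2 (by rw [hz, ← pow_succ, ← pow_succ'])
  have zK : z ∈ centralizer ({z} : Set G) := mem_centralizer_singleton_iff.2 rfl
  have k3 : nord (centralizer ({z} : Set G)) 3 = 8 := by
    have h1 := nord_mul_eq hcl (e := 3) (by norm_num)
    rw [z2, h.n2, h.n6] at h1
    have h2 : Nat.card {g : G // orderOf g = 2 * 3 ∧ g ^ 3 = z} =
        nord (centralizer ({z} : Set G)) 3 := by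
      refine Nat.card_congr ⟨fun g => ⟨⟨g.1 * z, ?_⟩, ?_⟩, fun k => ⟨k.1.1 * z, ?_, ?_⟩,
        fun g => by simp [mul_assoc, zz], fun g => by simp [mul_assoc, zz]⟩
      · obtain ⟨g, -, rfl⟩ := g
        exact mem_centralizer_singleton_iff.2 (by group)
      · obtain ⟨g, h3, rfl⟩ := g
        rw [orderOf_mk, ← pow_succ', orderOf_pow' _ (by norm_num), h3]; rfl
      · have hc : Commute k.1.1 z := mem_centralizer_singleton_iff.1 k.1.2
        rw [hc.orderOf_mul_eq_mul_orderOf_of_coprime (by rw [orderOf_coe, k.2, z2]; norm_num),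
          orderOf_coe, k.2, z2]
      · have hc : Commute k.1.1 z := mem_centralizer_singleton_iff.1 k.1.2
        have h3 : k.1.1 ^ 3 = 1 := orderOf_dvd_iff_pow_eq_one.1 ((orderOf_coe _).trans k.2).dvd
        rw [hc.mul_pow, h3, one_mul, pow_succ, pow_two, zz, one_mul]
    omega
  have k4 : Nat.card {g : G // orderOf g = 2 * 2 ∧ g ^ 2 = z} = 6 := by
    have h1 := nord_mul_eq hcl (e := 2) (by norm_num)
    rw [z2, h.n2, h.n4] at h1
    omega
  generalize hKK : centralizer ({z} : Set G) = K at hK aK zK k3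
  have hKc : ∀ k ∈ K, k * z = z * k := fun k hk => mem_centralizer_singleton_iff.1 (hKK ▸ hk)
  have s3 : Nat.card (Sylow 3 K) = 4 := by
    have := nord_eq_sylow (G := K) (p := 3) (by rw [hK]; norm_num) (by rw [hK]; norm_num)
    omega
  let e : Sylow 3 K ≃ Fin 4 := Finite.equivFinOfCardEq s3
  let φ : K →* S4 := (e.permCongrHom : _ →* S4).comp (MulAction.toPermHom K (Sylow 3 K))
  have hφ : ∀ k, φ k = 1 ↔ ∀ P : Sylow 3 K, k • P = P := fun k => by
    change e.permCongrHom _ = 1 ↔ _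
    rw [map_eq_one_iff _ e.permCongrHom.injective, Equiv.ext_iff]
    rfl
  have h3 : ∀ x : K, x ^ 3 = 1 → φ x = 1 → x = 1 := by
    intro x hx hx'
    by_contra hx1
    have h4 : orderOf x = 3 := orderOf_eq_prime hx hx1
    have h5 : ∀ P : Sylow 3 K, zpowers x = P := fun P => by
      refine eq_of_le_of_card_ge ((IsPGroup.of_card (p := 3) (G := zpowers x) (n := 1)
        (by rw [Nat.card_zpowers, h4, pow_one])).sylow_mem_fixedPoints_iff.1 fun y => ?_) ?_
      · exact (hφ y).1 ((zpowers_le (H := φ.ker)).2 hx' y.2) P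
      · rw [Nat.card_zpowers, h4, P.card_eq_multiplicity, hK]
        decide +kernel
    have : Subsingleton (Sylow 3 K) := ⟨fun P Q => Sylow.ext ((h5 P).symm.trans (h5 Q))⟩
    have := Finite.card_le_one_iff_subsingleton.2 this
    omega
  obtain ⟨x, hx⟩ := (nord_pos_iff (G := K) (n := 3)).1 (by omega)
  have x3 : x ^ 3 = 1 := by rw [← hx, pow_orderOf_eq_one]
  have x1 : x ≠ 1 := by rintro rfl; simp at hx
  have h4 : ∀ k : K, φ k = 1 → k * k = 1 := by
    intro k hk
    have h5 : k ^ 2 ^ 4 = 1 := h3 _ (by rw [← pow_mul, ← pow_card_eq_one' (x := k), hK]; rfl)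
      (by rw [map_pow, hk, one_pow])
    obtain ⟨P, hP⟩ := (IsPGroup.of_card (p := 3) (G := zpowers x) (n := 1)
      (by rw [Nat.card_zpowers, hx, pow_one])).exists_le_sylow
    have h6 : k * x * k⁻¹ * x⁻¹ ∈ (P : Subgroup K) := mul_mem
      ((mem_normalizer_iff.1 (Sylow.smul_eq_iff_mem_normalizer.1 ((hφ k).1 hk P)) x).1
        (hP (mem_zpowers x))) (inv_mem (hP (mem_zpowers x)))
    have h7 : Nat.card P = 3 := by
      rw [P.card_eq_multiplicity, hK]
      decide +kernel
    have h8 := h3 _ (by rw [← h7]; exact congrArg Subtype.val (pow_card_eq_one' (x := (⟨_, h6⟩ : P))))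
      (by simp [hk])
    rw [mul_inv_eq_one, mul_inv_eq_iff_eq_mul] at h8
    exact Subtype.ext (h.sq_eq_one_of_comm ((orderOf_coe x).trans hx)
      ⟨4, congrArg Subtype.val h5⟩ (congrArg Subtype.val h8))
  have hφz : φ ⟨z, zK⟩ = 1 := (hφ _).2 fun P => Sylow.smul_eq_iff_mem_normalizer.2
    (mem_normalizer_fintype fun m hm => by
      rwa [show (⟨z, zK⟩ : K) * m = m * ⟨z, zK⟩ from Subtype.ext (hKc _ m.2).symm,
        mul_inv_cancel_right])
  have c4 : φ ⟨a, aK⟩ ^ 4 = 1 := by
    rw [← map_pow, ← hφz]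
    exact congrArg φ (Subtype.ext hz.symm)
  have c2 : φ ⟨a, aK⟩ ^ 2 ≠ 1 := by
    rw [← map_pow]
    intro h5
    have h6 : a ^ 2 * a ^ 2 = 1 := congrArg Subtype.val (h4 _ h5)
    exact z1 (by rw [hz, ← h6, ← pow_add])
  have hr : φ.range = ⊤ := s4_top ⟨_, rfl⟩ ⟨x, rfl⟩ c4 c2 (by rw [← map_pow, x3, map_one])
    fun h5 => x1 (h3 x x3 h5)
  have hker : ∀ k, φ k = 1 ↔ k.1 = 1 ∨ k.1 = z := by
    have h5 := φ.ker.card_mul_index
    rw [index_ker, hr, card_top, Nat.card_perm, Nat.card_fin, hK] at h5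
    have h6 : Nat.card φ.ker = 2 := by
      rw [show Nat.factorial 4 = 24 from rfl] at h5
      omega
    intro k
    constructor
    · intro hk
      obtain ⟨y, -, hy⟩ := (Nat.card_eq_two_iff' (1 : φ.ker)).1 h6
      by_cases h7 : k.1 = 1
      · exact Or.inl h7
      · exact Or.inr (congrArg (fun y : φ.ker => y.1.1) ((hy ⟨k, hk⟩ fun e => h7
          (congrArg (fun y : φ.ker => y.1.1) e)).trans (hy ⟨_, hφz⟩ fun e => z1
          (congrArg (fun y : φ.ker => y.1.1) e)).symm))
    · rintro (e | e)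
      · rw [show k = 1 from Subtype.ext e, map_one]
      · rw [show k = ⟨z, zK⟩ from Subtype.ext e, hφz]
  have hs := MonoidHom.range_eq_top.1 hr
  have lift : ∀ k k' : K, φ k = φ k' → k'.1 * k'.1 = z → k.1 * k.1 = z := by
    intro k k' e e'
    have : φ (k'⁻¹ * k) = 1 := by rw [map_mul, map_inv, e, inv_mul_cancel]
    rcases (hker _).1 this with e | e
    · rw [← show k'.1 = k.1 from inv_mul_eq_one.1 e, e']
    · rw [show k.1 = k'.1 * z from inv_mul_eq_iff_eq_mul.1 e, mul_assoc, ← mul_assoc z,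
        ← hKc _ k'.2, mul_assoc, zz, mul_one, e']
  have lift2 : ∀ k k' : K, ∀ g, g * φ k' * g⁻¹ = φ k → k'.1 * k'.1 = z → k.1 * k.1 = z := by
    intro k k' g e e'
    obtain ⟨g, rfl⟩ := hs g
    refine lift k (g * k' * g⁻¹) (by rw [← e]; simp) ?_
    change g.1 * k'.1 * g.1⁻¹ * (g.1 * k'.1 * g.1⁻¹) = z
    rw [conj_mul, e', hKc _ g.2, mul_inv_cancel_right]
  have a2 : (⟨a, aK⟩ ^ 2 : K).1 * (⟨a, aK⟩ ^ 2 : K).1 = z := by
    change a ^ 2 * a ^ 2 = z
    rw [hz, ← pow_add]
  obtain ⟨τ, t1, t2, ⟨g, t3⟩, t4⟩ := s4_exists _ c4 c2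
  obtain ⟨s, rfl⟩ := hs τ
  rw [← map_pow] at t3 t4
  have s2 : s.1 * s.1 = 1 := by
    refine ((hker (s * s)).1 (by rw [map_mul, t1])).resolve_right fun e => ?_
    have h5 : ∀ u : {g : G // orderOf g = 2 * 2 ∧ g ^ 2 = z}, u.1 ∈ K := fun u => by
      obtain ⟨u, -, rfl⟩ := u
      exact hKK ▸ mem_centralizer_singleton_iff.2 (by group)
    have h6 := Nat.card_le_card_of_surjective
      (fun u : {g : G // orderOf g = 2 * 2 ∧ g ^ 2 = z} => (⟨φ ⟨u.1, h5 u⟩, by
        rw [← map_mul, hker, ← pow_two]; exact Or.inr u.2.2, fun e => by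
          have h7 := u.2.1
          rcases (hker _).1 e with e | e
          · rw [show u.1 = 1 from e] at h7; simp at h7
          · rw [show u.1 = z from e, z2] at h7; simp at h7⟩ : {σ : S4 // σ * σ = 1 ∧ σ ≠ 1})) (by
        rintro ⟨σ, h7, h8⟩
        obtain ⟨k, rfl⟩ := hs σ
        have h9 : k.1 * k.1 = z := by
          obtain ⟨g, hg | hg⟩ := t4 _ h7 h8
          · exact lift2 _ _ g hg a2
          · exact lift2 _ _ g hg e
        refine ⟨⟨k.1, ?_, by rw [pow_two, h9]⟩, rfl⟩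
        exact orderOf_eq_prime_pow (p := 2) (n := 1) (by rw [pow_one, pow_two, h9]; exact z1)
          (by rw [show 2 ^ (1 + 1) = 2 * 2 from rfl, pow_mul, pow_two k.1, h9, pow_two, zz]))
    rw [k4, s4_card] at h6
    omega
  subst hKK
  refine ⟨z, a, s, φ, ⟨hz.symm, zz, z1, s2, ?_, hs, hker⟩, fun t ht => hcl t (ht.trans z2.symm), hK⟩
  have h5 : s.1 * a * (s.1 * a) = z := lift2 (s * ⟨a, aK⟩) _ g (by rw [t3, map_mul]) a2
  replace h5 := h5.trans hz
  rw [pow_succ, ← mul_assoc] at h5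
  exact mul_right_cancel h5

theorem cent_three {z a s : G} {φ : centralizer ({z} : Set G) →* S4} (hl : Loc z a s φ)
    (hc : ∀ t, orderOf t = 2 → IsConj z t) {x : G} (hx : orderOf x = 3) :
    Nat.card (centralizer ({x} : Set G)) ∣ 18 := by
  have := Fact.mk Nat.prime_two
  obtain ⟨S⟩ : Nonempty (Sylow 2 (centralizer ({x} : Set G))) := inferInstance
  have h1 : ∀ u : (S : Subgroup (centralizer ({x} : Set G))), u.1.1 * u.1.1 = 1 := fun u => by
    obtain ⟨n, hn⟩ := S.2 u
    exact h.sq_eq_one_of_comm hx ⟨n, congrArg (fun u => u.1.1) hn⟩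
      (mem_centralizer_singleton_iff.1 u.1.2)
  have h2 : ∀ u u' : (S : Subgroup (centralizer ({x} : Set G))), u ≠ 1 → u' ≠ 1 → u = u' := by
    intro u u' hu hu'
    by_contra hne
    have hu1 : u.1.1 ≠ 1 := fun e => hu (Subtype.ext (Subtype.ext e))
    obtain ⟨g, hg⟩ := isConj_iff.1 (hc u.1.1 (orderOf_eq_prime (by rw [pow_two, h1]) hu1)).symm
    have h3 : u.1.1 * u'.1.1 = u'.1.1 * u.1.1 := by
      have h4 : u.1.1 * u'.1.1 * (u.1.1 * u'.1.1) = 1 := h1 (u * u')
      rw [eq_inv_of_mul_eq_one_left h4, mul_inv_rev, inv_eq_of_mul_eq_one_right (h1 u),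
        inv_eq_of_mul_eq_one_right (h1 u')]
    obtain ⟨k, hk1, hk2⟩ := hl.conj_s (t := g * u'.1.1 * g⁻¹) (by rw [conj_mul, h1]; simp)
      (fun e => hu' (Subtype.ext (Subtype.ext (by simpa using e))))
      (fun e => hne (Subtype.ext (Subtype.ext (by rw [← hg] at e; simpa using e.symm))))
      (by rw [← hg, conj_mul, conj_mul, h3])
    have c1 : x * u.1.1 = u.1.1 * x := (mem_centralizer_singleton_iff.1 u.1.2).symm
    have c2 : x * u'.1.1 = u'.1.1 * x := (mem_centralizer_singleton_iff.1 u'.1.2).symm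
    have e1 : z = k⁻¹ * (g * u.1.1 * g⁻¹) * k := by rw [hg, mul_assoc, ← hk1]; group
    have e2 : s = k⁻¹ * (g * u'.1.1 * g⁻¹) * k := by rw [← hk2]; group
    have h4 : orderOf (k⁻¹ * g * x * (k⁻¹ * g)⁻¹) = 3 := by
      rw [← MulAut.conj_apply, MulEquiv.orderOf_eq, hx]
    have h5 : (k⁻¹ * g * x * (k⁻¹ * g)⁻¹) ^ 2 = 1 := by
      rcases hl.cent_V (k := k⁻¹ * g * x * (k⁻¹ * g)⁻¹) (by
        rw [e1]
        calc _ = k⁻¹ * g * (x * u.1.1) * (k⁻¹ * g)⁻¹ := by group
          _ = _ := by rw [c1]; group) (by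
        rw [e2]
        calc _ = k⁻¹ * g * (x * u'.1.1) * (k⁻¹ * g)⁻¹ := by group
          _ = _ := by rw [c2]; group) with e | e | e | e <;> rw [e, pow_two]
      · simp
      · exact hl.z2
      · exact hl.s2
      · rw [mul_assoc, ← mul_assoc z, ← hl.sz, mul_assoc, hl.z2, mul_one, hl.s2]
    have := orderOf_dvd_of_pow_eq_one h5
    rw [h4] at this
    omega
  have h3 : Nat.card S ≤ 2 := by
    have h3 := card_add_card_not fun u : (S : Subgroup (centralizer ({x} : Set G))) => u = 1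
    have : Subsingleton {u : (S : Subgroup (centralizer ({x} : Set G))) // ¬ u = 1} :=
      ⟨fun u u' => Subtype.ext (h2 _ _ u.2 u'.2)⟩
    have := Finite.card_le_one_iff_subsingleton.2 this
    rw [Nat.card_unique] at h3
    omega
  have h4 : ∀ p, p = 5 ∨ p = 11 → ¬ p ∣ Nat.card (centralizer ({x} : Set G)) := by
    intro p hp hd
    have := Fact.mk (show p.Prime by rcases hp with rfl | rfl <;> norm_num)
    obtain ⟨y, hy⟩ := exists_prime_orderOf_dvd_card' p hd
    have hc : Commute y.1 x := mem_centralizer_singleton_iff.1 y.2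
    have h5 := hc.orderOf_mul_eq_mul_orderOf_of_coprime
      (by rw [orderOf_coe, hy, hx]; rcases hp with rfl | rfl <;> norm_num)
    rw [orderOf_coe, hy, hx] at h5
    rcases hp with rfl | rfl <;> exact h.not_ord h5
  have h5 : ¬ 4 ∣ Nat.card (centralizer ({x} : Set G)) := fun hd => by
    have := Nat.le_of_dvd Nat.card_pos (S.pow_dvd_card_of_pow_dvd_card (n := 2) hd)
    omega
  have h6 := Nat.mem_divisors.2 ⟨h.card ▸ card_subgroup_dvd_card (centralizer ({x} : Set G)),
    by norm_num⟩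
  have h7 := h4 5 (Or.inl rfl)
  have h8 := h4 11 (Or.inr rfl)
  exact (by decide +kernel : ∀ n ∈ (7920 : ℕ).divisors, ¬ 4 ∣ n → ¬ 5 ∣ n → ¬ 11 ∣ n → n ∣ 18)
    _ h6 h5 h7 h8

theorem iso : Nonempty (G ≃* Spor.M11) := by
  have := Fact.mk Nat.prime_three
  have := Fact.mk Nat.prime_two
  obtain ⟨z, a, s, φ, hl, hc, -⟩ := h.exists_loc
  have h1 : ∀ P : Sylow 3 G, Nat.card P = 9 := fun P => by
    rw [P.card_eq_multiplicity, h.card]
    decide +kernel
  have h2 : ∀ P : Sylow 3 G, ∀ x ∈ (P : Subgroup G), x ^ 3 = 1 := by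
    intro P x hx
    have h3 := (P : Subgroup G).orderOf_dvd_natCard hx
    have h4 := h.ord x
    rw [h1] at h3
    rw [← orderOf_dvd_iff_pow_eq_one]
    simp only [Finset.mem_insert, Finset.mem_singleton] at h4
    rcases h4 with e | e | e | e | e | e | e | e <;> rw [e] at h3 ⊢ <;> omega
  have h3 : ∀ P : Sylow 3 G, ∀ x ∈ (P : Subgroup G), ∀ y ∈ (P : Subgroup G), x * y = y * x :=
    fun P x hx y hy => congrArg Subtype.val
      ((IsPGroup.commGroupOfCardEqPrimeSq (p := 3) (h1 P)).mul_comm ⟨x, hx⟩ ⟨y, hy⟩)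
  have h4 : Nat.card (Sylow 3 G) = 55 := by
    have := nord_eq_of_TI h1 h2 fun P Q x hP hQ hx => by
      have h4 := h.cent_three hl hc (orderOf_eq_prime (h2 P x hP) hx)
      have h5 : ∀ P : Sylow 3 G, x ∈ (P : Subgroup G) →
          (P : Subgroup G) ≤ centralizer ({x} : Set G) := fun P hP y hy =>
        mem_centralizer_singleton_iff.2 (h3 P y hy x hP)
      have h6 := card_mul_index ((P : Subgroup G).subgroupOf (centralizer ({x} : Set G)))
      rw [Nat.card_congr (subgroupOfEquivOfLe (h5 P hP)).toEquiv, h1] at h6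
      have h7 := Nat.le_of_dvd (by norm_num) h4
      have h8 := relIndex_le_of_le_right (H := (P : Subgroup G)) (h5 Q hQ) index_ne_zero_of_finite
      have h9 : (P : Subgroup G).relIndex Q ∣ 9 := h1 Q ▸ index_dvd_card _
      have h10 : (P : Subgroup G).relIndex Q = 1 := by
        change 9 * (P : Subgroup G).relIndex _ = _ at h6
        have : (P : Subgroup G).relIndex Q ≤ 2 := by omega
        generalize (P : Subgroup G).relIndex Q = n at *
        interval_cases n <;> simp_all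
      exact Sylow.ext (Q.3 P.2 (relIndex_eq_one.1 h10))
    rw [h.n3] at this
    omega
  have a8 : orderOf a = 2 ^ 3 := orderOf_eq_prime_pow (n := 2) (fun e => hl.z1 (hl.a4.symm.trans e))
    hl.a8
  have s2 : orderOf s = 2 := orderOf_eq_prime (by rw [pow_two, hl.s2]) hl.s1
  have hT : IsPGroup 2 (zpowers s ⊔ zpowers a : Subgroup G) :=
    (IsPGroup.of_card (n := 1) (by rw [Nat.card_zpowers, s2, pow_one])).to_sup_of_normal_right'
      (IsPGroup.of_card (n := 3) (by rw [Nat.card_zpowers, a8])) (zpowers_le.2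
        (mem_normalizer_fintype fun m hm => by
          obtain ⟨i, rfl⟩ := mem_zpowers_iff.1 hm
          rw [← conj_zpow, hl.si, hl.sa]
          exact zpow_mem (pow_mem (mem_zpowers a) 3) i))
  obtain ⟨M, hM⟩ := hT.nonempty_fixed_point_of_prime_not_dvd_card (Sylow 3 G) (by omega)
  rw [sylow_mem_fixedPoints_iff, sup_le_iff, zpowers_le, zpowers_le] at hM
  obtain ⟨val, p1, p2, p3, p4, p5, p6, -⟩ := hl.concl (h1 M) (h2 M) (h3 M)
    (fun m => (mem_normalizer_iff.1 hM.2 m).1) (fun m => (mem_normalizer_iff.1 hM.1 m).1) (hc s s2)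
  have h5 := M.card_eq_index_normalizer
  have h6 := (normalizer ((M : Subgroup G) : Set G)).card_mul_index
  rw [h4] at h5
  rw [h.card, show (normalizer ((M : Subgroup G) : Set G)).index = 55 from h5.symm] at h6
  have h7 : Gen 4 val = normalizer ((M : Subgroup G) : Set G) := by
    refine eq_of_le_of_card_ge p5 ?_
    have h7 : zpowers s ⊔ zpowers a ≤ Gen 4 val := sup_le (zpowers_le.2 p3) (zpowers_le.2 p2)
    obtain ⟨n, hn⟩ := hT.exists_card_eq
    have h8 := card_lt_of_lt (X := zpowers a) (Y := zpowers s ⊔ zpowers a)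
      (lt_of_le_of_ne le_sup_right fun e => by
        obtain ⟨i, hi⟩ := mem_zpowers_iff.1 (e.ge (le_sup_left (b := zpowers a) (mem_zpowers s)))
        have h8 := hl.a2s
        rw [← hi, ← zpow_natCast, ← zpow_add, add_comm, zpow_add, mul_inv_cancel_right] at h8
        exact hl.z1 (by simpa using h8))
    rw [Nat.card_zpowers, a8, hn, Nat.pow_lt_pow_iff_right (by norm_num)] at h8
    have h9 : 2 ^ 4 * 9 ∣ Nat.card (Gen 4 val) := Nat.Coprime.mul_dvd_of_dvd_of_dvd (by norm_num)
      ((pow_dvd_pow 2 h8).trans (hn ▸ card_dvd_of_le h7)) (h1 M ▸ card_dvd_of_le p4)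
    have := Nat.le_of_dvd Nat.card_pos h9
    omega
  have h8 : Gen 4 val ≤ Gen 6 val := Gen_le fun i h1 h2 => mem_Gen val h1 (by omega)
  have h9 : Gen 6 val = ⊤ := by
    have h9 := relIndex_normalizer_modEq M (p4.trans h8)
    have h10 := relIndex_mul_index (h7 ▸ h8)
    rw [show (normalizer ((M : Subgroup G) : Set G)).index = 55 from h5.symm] at h10
    have h11 := Nat.mem_divisors.2 ⟨Dvd.intro _ h10, by norm_num⟩
    have h12 : (normalizer ((M : Subgroup G) : Set G)).relIndex (Gen 6 val) ≠ 1 := by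
      rw [ne_eq, relIndex_eq_one]
      intro h12
      obtain ⟨x, hx⟩ := hl.surj (Equiv.swap 0 1 * Equiv.swap 1 2)
      have h13 : (x ^ 4) ^ 3 = 1 := by
        rcases (hl.ker (x ^ 3)).1 (by rw [map_pow, hx]; decide +kernel) with e | e
        · rw [← pow_mul, mul_comm, pow_mul, show x ^ 3 = 1 from Subtype.ext e, one_pow]
        · apply Subtype.ext
          change (x.1 ^ 4) ^ 3 = 1
          rw [← pow_mul, mul_comm, pow_mul, show x.1 ^ 3 = z from e, show 4 = 2 * 2 from rfl,
            pow_mul, pow_two z, hl.z2, one_pow]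
      have h14 : (x ^ 4).1 ∈ (M : Subgroup G) := by
        refine zpowers_le.1 ((IsPGroup.sylow_mem_fixedPoints_iff ?_).1
          ((sylow_mem_fixedPoints_iff _).2 (zpowers_le.2 (h12 (p6 (x ^ 4).2)))))
        exact IsPGroup.iff_orderOf.2 fun y => (Nat.dvd_prime_pow Nat.prime_three (m := 1)).1
          (((orderOf_dvd_natCard y).trans (by
            rw [Nat.card_zpowers, pow_one]
            exact orderOf_dvd_of_pow_eq_one (congrArg Subtype.val h13)))) |>.imp fun _ h => h.2
      have h15 := hl.inverts (h1 M) (h2 M) (h3 M) (fun m => (mem_normalizer_iff.1 hM.2 m).1) _ h14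
      rw [← mem_centralizer_singleton_iff.1 (x ^ 4).2, mul_inv_cancel_right] at h15
      have h16 : x ^ 4 = 1 := Subtype.ext (eq_one_of_sq_of_nine (h1 M) h14
        (by rw [pow_two, mul_eq_one_iff_eq_inv]; exact h15))
      have h17 := congrArg φ h16
      rw [map_pow, hx, map_one] at h17
      revert h17
      decide +kernel
    rw [← index_eq_one]
    generalize (normalizer ((M : Subgroup G) : Set G)).relIndex (Gen 6 val) = n at *
    have : n = 55 := (by decide +kernel : ∀ n ∈ (55 : ℕ).divisors, n ≡ 1 [MOD 3] → n ≠ 1 → n = 55)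
      n h11 h9 h12
    rw [this] at h10
    omega
  rcases p1 with p1 | p1
  · exact iso_of_sat p1 h9 h.card.ge
  · have := boundL p1
    rw [h9, card_top, h7, h.card] at this
    omega

end Nse

end CfsgH8.M11
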