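import Cfsg.Agent.H4.B1c
import Cfsg.Agent.H8.M12RecD

/-! A group with the `11`-block data of `M12`: elements of order `5` and involutions. -/

set_option autoImplicit false
set_option linter.unusedSectionVars false

namespace CfsgB0

open Cfsg CfsgL CfsgH5 CfsgH6 CfsgFT CfsgH8 Subgroup

universe u

variable {G : Type u} [Group G] [Finite G] {a b c d f : IrrCharacter G}

theorem iv_one (χ : IrrCharacter G) : iv 1 χ = dg χ := iv_eq (by rw [dg_cast]; simp)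

theorem iv_conj (χ : IrrCharacter G) (g x : G) : iv (g * x * g⁻¹) χ = iv x χ := by
  rw [iv, iv, char_isClass (irr_isChar χ.2)]

theorem iv_isConj (χ : IrrCharacter G) {x y : G} (h : IsConj x y) : iv y χ = iv x χ := by
  obtain ⟨g, rfl⟩ := isConj_iff.1 h
  exact iv_conj χ g x

theorem iv_inv (χ : IrrCharacter G) (x : G) : iv x⁻¹ χ = iv x χ := by
  rw [iv, iv, char_apply_inv (irr_isChar χ.2), Complex.conj_re]

theorem iv_vanish {χ : IrrCharacter G} {p m : ℕ} (hp : p.Prime) (hm : Nat.card G = dg χ * m)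
    (hpm : ¬ p ∣ m) {g : G} (hg : p ∣ orderOf g) : iv g χ = 0 :=
  iv_eq (by rw [CfsgH2.defect_zero_vanish χ.2 hp (dg_cast χ) hm hpm hg]; simp)

theorem card_C1_isConj {x y : G} (h : IsConj x y) : Nat.card (C1 y) = Nat.card (C1 x) :=
  (M12.card_Cx_of_isConj h).symm

theorem eq_of_invol {H : Subgroup G} {m : ℕ} (hc : Nat.card H = 2 * m) (hm : ¬ 2 ∣ m) {s t : G}
    (hs : s ∈ H) (ht : t ∈ H) (os : orderOf s = 2) (ot : orderOf t = 2) (h : s * t = t * s) :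
    s = t := by
  by_contra e
  have h1 : t ∉ zpowers s := fun h1 => by
    rcases mem_zpowers_order_two (Mat.mul_self_of_ord os) h1 with h2 | h2
    · exact Mat.ne_one_of_ord (n := 0) ot h2
    · exact e h2.symm
  have h2 := Mat.card_sup_inv (Mat.mul_self_of_ord ot) h1
    (C_le_N _ (by rw [C_zpowers]; exact mem_C1.2 h.symm))
  have h3 := card_dvd_of_le (sup_le (zpowers_le.2 hs) (zpowers_le.2 ht))
  rw [h2, Nat.card_zpowers, os, hc] at h3
  exact hm (Nat.dvd_of_mul_dvd_mul_left two_pos h3)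

namespace D12

variable (h : D12 G a b c d f)
include h

theorem n11_of {g : G} (e : orderOf g ≠ 11) : ¬ 11 ∣ orderOf g := fun f => e (h.x11 g f).1

theorem cong (p : ℕ) [Fact p.Prime] {u y : G} (k : ℕ) (hu : u ^ p ^ k = 1) (hc : Commute u y)
    (h1 : orderOf (u * y) ≠ 11) (h2 : orderOf y ≠ 11) :
    (p : ℤ) ∣ iv (u * y) a - iv y a ∧ (p : ℤ) ∣ iv (u * y) b - iv y b ∧
      (p : ℤ) ∣ iv (u * y) c - iv y c ∧ (p : ℤ) ∣ iv (u * y) d - iv y d ∧
      (p : ℤ) ∣ iv (u * y) f - iv y f := by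
  have A : ∀ χ ∈ [a, b, c, d, f], (p : ℤ) ∣ iv (u * y) χ - iv y χ := fun χ hχ =>
    int_congr hu hc (h.int χ hχ _ (h.n11_of h1)) (h.int χ hχ _ (h.n11_of h2))
  exact ⟨A a (by simp), A b (by simp), A c (by simp), A d (by simp), A f (by simp)⟩

theorem cong1 (p : ℕ) [Fact p.Prime] {u : G} (k : ℕ) (hu : u ^ p ^ k = 1)
    (h1 : orderOf u ≠ 11) : (p : ℤ) ∣ iv u a - 16 ∧ (p : ℤ) ∣ iv u b - 45 ∧
      (p : ℤ) ∣ iv u c - 54 ∧ (p : ℤ) ∣ iv u d - 120 ∧ (p : ℤ) ∣ iv u f - 144 := by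
  have := h.cong p k hu (Commute.one_right u) (by rwa [mul_one]) (by simp)
  obtain ⟨h2, h3, h4, h5, h6⟩ := h.deg
  simpa only [mul_one, iv_one, h2, h3, h4, h5, h6, Nat.cast_ofNat] using this

theorem z5 {g : G} (hg : 5 ∣ orderOf g) : iv g b = 0 ∧ iv g d = 0 :=
  ⟨iv_vanish (m := 2112) Nat.prime_five (by rw [h.card, h.deg.2.1]) (by norm_num) hg,
    iv_vanish (m := 792) Nat.prime_five (by rw [h.card, h.deg.2.2.2.1]) (by norm_num) hg⟩

theorem z3 {g : G} (hg : 3 ∣ orderOf g) : iv g c = 0 :=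
  iv_vanish (m := 1760) Nat.prime_three (by rw [h.card, h.deg.2.2.1]) (by norm_num) hg

theorem five' (y : G) (hy : orderOf y = 5) : Nat.card (C1 y) = 10 ∧ iv y a = 1 ∧ iv y b = 0 ∧
    iv y c = -1 ∧ iv y d = 0 ∧ iv y f = -1 := by
  have : Fact (Nat.Prime 5) := ⟨Nat.prime_five⟩
  have : Fact (Nat.Prime 3) := ⟨Nat.prime_three⟩
  obtain ⟨hb, hd⟩ := h.z5 (g := y) (by rw [hy])
  obtain ⟨h1, -, h2, -, h3⟩ := h.cong1 5 (u := y) 1 (by rw [pow_one, ← hy, pow_orderOf_eq_one])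
    (by omega)
  have h4 := h.rel y (by rw [hy]; norm_num)
  have h5 := h.sq y (by rw [hy]; norm_num)
  rw [hb, hd] at h4 h5
  push_cast at h1 h2 h3
  rcases (h.five y hy).2 with e | e
  · rw [e] at h5
    push_cast at h5
    have b1 : -3 ≤ iv y a ∧ iv y a ≤ 3 := ⟨by nlinarith, by nlinarith⟩
    have b2 : -3 ≤ iv y c ∧ iv y c ≤ 3 := ⟨by nlinarith, by nlinarith⟩
    have b3 : -3 ≤ iv y f ∧ iv y f ≤ 3 := ⟨by nlinarith, by nlinarith⟩
    exact ⟨e, by omega, hb, by omega, hd, by omega⟩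
  · exfalso
    obtain ⟨w, hw, ow⟩ := Mat.exists_ord (K := C1 y) Nat.prime_three (by rw [e]; norm_num)
    have o := Mat.orderOf_mul_C1 hw (by rw [ow, hy]; norm_num)
    rw [ow, hy] at o
    obtain ⟨-, -, h6, -⟩ := h.cong 3 (u := w) (y := y) 1
      (by rw [pow_one, ← ow, pow_orderOf_eq_one]) (mem_C1.1 hw) (by omega) (by omega)
    rw [h.z3 (g := w * y) (by rw [o]; norm_num)] at h6
    rw [e] at h5
    push_cast at h5 h6
    have b2 : -8 ≤ iv y c ∧ iv y c ≤ 8 := ⟨by nlinarith, by nlinarith⟩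
    have e2 : iv y c = -6 := by omega
    rw [e2] at h4 h5
    have b1 : -3 ≤ iv y a ∧ iv y a ≤ 3 := ⟨by nlinarith, by nlinarith⟩
    have e1 : iv y a = 1 := by omega
    have e3 : iv y f = -6 := by omega
    rw [e1, e3] at h5
    omega

theorem conj5 {y z : G} (hy : orderOf y = 5) (hz : orderOf z = 5) : IsConj y z := by
  have : Fact (Nat.Prime 5) := ⟨Nat.prime_five⟩
  have P : ∀ {y : G}, orderOf y = 5 → P1 5 y := fun hy => ⟨hy, by rw [h.card]; norm_num⟩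
  obtain ⟨g, -, hg⟩ := ((P hy).syl (mem_top y)).conj ((P hz).syl (mem_top z))
  rw [cj_zpowers] at hg
  obtain ⟨i, hi⟩ := (mem_powers_iff_mem_zpowers.2 (hg ▸ mem_zpowers z) :
    z ∈ Submonoid.powers (g * y * g⁻¹))
  have h1 : ¬ 5 ∣ i := by
    rintro ⟨j, rfl⟩
    change _ ^ _ = _ at hi
    rw [conj_pow, pow_mul, ← hy, pow_orderOf_eq_one, one_pow, mul_one, mul_inv_cancel] at hi
    rw [← hi, orderOf_one] at hz
    omega
  refine ((h.five y hy).1 i h1).trans (isConj_iff.2 ⟨g, ?_⟩)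
  rw [← conj_pow]; exact hi

theorem n5 : nord G 5 = 9504 := by
  have : Fact (Nat.Prime 5) := ⟨Nat.prime_five⟩
  obtain ⟨y, hy⟩ := exists_prime_orderOf_dvd_card' (G := G) 5 (by rw [h.card]; norm_num)
  have h1 := nord_eq_index (x := y) fun t ht => h.conj5 hy (ht.trans hy)
  have h2 := (C1 y).card_mul_index
  rw [(h.five' y hy).1, h.card] at h2
  rw [hy] at h1
  change _ = (C1 y).index at h1
  omega

/-- the values at an involution commuting with an element of order `5` -/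
theorem inv5 {u y : G} (hu : orderOf u = 2) (hy : orderOf y = 5) (hc : y ∈ C1 u) :
    Nat.card (C1 u) = 240 ∧ Nat.card (C1 (y * u)) = 10 ∧ ∃ s : ℤ, (s = 1 ∨ s = -1) ∧
      (iv u a = 4 * s ∧ iv u b = 5 ∧ iv u c = 6 ∧ iv u d = 0 ∧ iv u f = 4 * s) ∧
      iv (y * u) b = 0 ∧ iv (y * u) c = 1 ∧ iv (y * u) d = 0 ∧ iv (y * u) f = -s := by
  have : Fact (Nat.Prime 5) := ⟨Nat.prime_five⟩
  obtain ⟨c5, v1, v2, v3, v4, v5⟩ := h.five' y hy
  have y5 : y ^ 5 = 1 := by rw [← hy, pow_orderOf_eq_one]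
  have u2 := Mat.mul_self_of_ord hu
  have cm : Commute y u := mem_C1.1 hc
  have o := Mat.orderOf_mul_C1 hc (by rw [hu, hy]; norm_num)
  rw [hu, hy] at o
  have hN : Nat.card (N (zpowers y)) = 40 := by
    have := Mat.card_N_zpowers Nat.prime_five (by rw [h.card]; norm_num) hy
    rw [h.n5, h.card] at this
    omega
  have hle : N (zpowers y) ≤ C1 u := fun g hg => by
    have h1 : g * u * g⁻¹ ∈ C1 y := by
      rw [← C_zpowers]
      exact conj_mem_of_mem_N ((nrm_N_C _).le_N hg) (by rw [C_zpowers]; exact mem_C1_comm.1 hc)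
    have h2 : orderOf (g * u * g⁻¹) = 2 := hu ▸ (MulAut.conj g).orderOf_eq u
    have h3 : C1 y = zpowers (y * u) := (eq_of_le_of_card_eq (zpowers_le.2 (mul_mem
      (self_mem_C1 y) (mem_C1_comm.1 hc))) (by rw [Nat.card_zpowers, o, c5])).symm
    refine mem_C1_iff_conj.2 (eq_of_invol (m := 5) c5 (by norm_num) h1 (mem_C1_comm.1 hc) h2 hu ?_)
    exact (ab_zpowers (y * u)).comm (h3 ▸ h1) (h3 ▸ mem_C1_comm.1 hc)
  have hS : SylIn 5 (zpowers y) (C1 u) :=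
    (P1.mk hy (by rw [h.card]; norm_num) : P1 5 y).syl hc
  have h1 := Mat.sylIn_modEq Nat.prime_five hS
  have h2 := card_mul_relIndex hle
  have c10 : Nat.card (C1 (y * u)) = 10 := by
    have h3 : y = (y * u) ^ 6 := by
      rw [cm.mul_pow, show 6 = 5 + 1 from rfl, pow_succ y, y5, one_mul,
        show 5 + 1 = 2 * 3 from rfl, pow_mul, pow_two, u2, one_pow, mul_one]
    have h4 : C1 (y * u) ≤ C1 y := by
      conv_rhs => rw [h3]
      exact C1_le_C1_pow _ _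
    have h5 := card_dvd_of_le h4
    have h6 := card_dvd_of_le (zpowers_le.2 (self_mem_C1 (y * u)))
    rw [Nat.card_zpowers, o] at h6
    rw [c5] at h5
    exact Nat.dvd_antisymm h5 h6
  obtain ⟨hb, hd⟩ := h.z5 (g := y * u) (by rw [o]; norm_num)
  obtain ⟨k1, -, k2, -, k3⟩ := h.cong 5 (u := y) (y := u) 1 (by rw [pow_one, y5]) cm (by omega)
    (by omega)
  obtain ⟨l1, -, l2, -, l3⟩ := h.cong 2 (u := u) (y := y) 1 (by rw [pow_one, pow_two, u2])
    cm.symm (by rw [← cm.eq]; omega) (by omega)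
  rw [← cm.eq] at l1 l2 l3
  have h5 := h.sq (y * u) (by rw [o]; norm_num)
  rw [hb, hd, c10] at h5
  push_cast at h5 k1 k2 k3 l1 l2 l3
  have b1 : -2 ≤ iv (y * u) a ∧ iv (y * u) a ≤ 2 := ⟨by nlinarith, by nlinarith⟩
  have b2 : -3 ≤ iv (y * u) c ∧ iv (y * u) c ≤ 3 := ⟨by nlinarith, by nlinarith⟩
  have b3 : -3 ≤ iv (y * u) f ∧ iv (y * u) f ≤ 3 := ⟨by nlinarith, by nlinarith⟩
  have h6 := h.inv u hu
  rw [hN] at h2
  unfold Nat.ModEq at h1
  simp only [List.mem_cons, Prod.mk.injEq, List.not_mem_nil, or_false] at h6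
  rcases h6 with ⟨e, -⟩ | ⟨e, -⟩ | ⟨e, -⟩ | ⟨e, e1, e2, e3, e4, e5⟩ | ⟨e, e1, e2, e3, e4, e5⟩ |
    ⟨e, e1, e2, e3, e4, e5⟩
  · omega
  · omega
  · omega
  · exact ⟨e, c10, 1, Or.inl rfl, ⟨by omega, e2, e3, e4, by omega⟩, hb, by omega, hd, by omega⟩
  · exact ⟨e, c10, -1, Or.inr rfl, ⟨by omega, e2, e3, e4, by omega⟩, hb, by omega, hd, by omega⟩
  · omega

theorem c240 (u : G) (hu : orderOf u = 2) (h5 : 5 ∣ Nat.card (C1 u)) : Nat.card (C1 u) = 240 := by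
  obtain ⟨y, hc, hy⟩ := Mat.exists_ord Nat.prime_five h5
  exact (h.inv5 hu hy hc).1

end D12

end CfsgB0
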