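import Cfsg.Agent.H8.M12OrdB

/-! A group with the `11`-block data of `M12` has the element counts of `M12`. -/

set_option autoImplicit false
set_option linter.unusedSectionVars false

namespace CfsgB0

open Finset Cfsg CfsgL CfsgH5 CfsgH6 CfsgFT CfsgSZ CfsgH8 Subgroup

universe u

variable {G : Type u} [Group G] [Finite G] {a b c d f : IrrCharacter G}

theorem mem_RR [Fintype G] {g : G} : g ∈ RR G ↔
    orderOf g ≠ 1 ∧ orderOf g ≠ 2 ∧ orderOf g ≠ 5 ∧ orderOf g ≠ 10 ∧ orderOf g ≠ 11 := by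
  simp [RR]

theorem two_val {m : ℤ} (h : m ≠ 1) : 0 ≤ m * (m - 2) ∧ (m * (m - 2) = 0 → m = 0 ∨ m = 2) :=
  ⟨by rcases (show m ≤ 0 ∨ 2 ≤ m by omega) with e | e <;> nlinarith,
    fun e => (mul_eq_zero.1 e).imp id fun e => by omega⟩

theorem arith12 {A B C D F : ℤ} (rel : 1 + B + F = A + C + D) (hc : C = 0 ∨ C = 2)
    (h4 : C - 2 * F - 2 * B = 0 ∨ C - 2 * F - 2 * B = 2)
    (h3 : 2 * D + 3 * A + F = 0 ∨ 2 * D + 3 * A + F = 2) {Q : ℤ}
    (hQ : Q = 2 * (2 * D + 3 * A + F) * (C - 2 * F - 2 * B + C) - (3 * A + F) * F) :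
    (2 ∣ D → 2 ∣ F → 0 ≤ Q ∧ (Q = 0 → A = 0 ∧ F = 0 ∧ D = 0)) ∧
    (C = 0 → 3 ∣ B → 3 ∣ D → 3 ∣ F → 0 ≤ Q ∧
      (Q = 0 → (A = -2 ∧ F = 0 ∧ D = 3 ∧ B = 0) ∨ (A = 1 ∧ F = -3 ∧ D = 0 ∧ B = 3))) ∧
    (C = 0 → 3 ∣ B → 3 ∣ D - 1 → 3 ∣ F → 3 ∣ A → 0 ≤ Q ∧ (Q = 0 → A = 0 ∧ F = 0 ∧ D = 1)) := by
  refine ⟨fun h1 h2 => ?_, fun h0 h1 h2 h5 => ?_, fun h0 h1 h2 h5 h6 => ?_⟩
  · have e : C - 2 * F - 2 * B + C = 2 := by omega
    rw [e] at hQ
    rcases h3 with h3 | h3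
    · have e1 : A = -F := by omega
      have e2 : Q = 2 * (F * F) := by rw [hQ, h3, e1]; ring
      refine ⟨by nlinarith [mul_self_nonneg F], fun e3 => ?_⟩
      have : F = 0 := mul_self_eq_zero.1 (by omega)
      omega
    · have e1 : A = 2 - F := by omega
      have e2 : Q = 2 * (F * F) - 6 * F + 8 := by rw [hQ, h3, e1]; ring
      have : 0 < Q := by nlinarith [mul_self_nonneg (2 * F - 3)]
      exact ⟨this.le, fun e3 => by omega⟩
  · have e : 2 * D + 3 * A + F = 0 := by omega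
    have e1 : A = -2 - F := by omega
    have e2 : Q = 2 * (F * (F + 3)) := by rw [hQ, e, e1]; ring
    refine ⟨by rcases (show F ≤ -3 ∨ 0 ≤ F by omega) with e | e <;> nlinarith, fun e3 => ?_⟩
    rcases mul_eq_zero.1 (show F * (F + 3) = 0 by omega) with e4 | e4 <;> omega
  · have e : C - 2 * F - 2 * B + C = 0 := by omega
    have e1 : A = -F := by omega
    have e2 : Q = 2 * (F * F) := by rw [hQ, e, e1]; ring
    refine ⟨by nlinarith [mul_self_nonneg F], fun e3 => ?_⟩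
    have : F = 0 := mul_self_eq_zero.1 (by omega)
    omega

theorem arithW {n m : ℕ} {s A B D F X1 X2 X3 X4 : ℤ} (hs : s = 1 ∨ s = -1) (h1 : n = 396 * m)
    (h2 : 3 ∣ 1 + m) (h3 : 2 ∣ m) (h4 : 5 ∣ m) (p1 : 3 ∣ A - 4 * s) (p3 : 3 ∣ D)
    (p4 : 3 ∣ F - 4 * s) (rel : 1 + B + F = A + D) (s1 : 0 ≤ X1) (s2 : 0 ≤ X2) (s3 : 0 ≤ X3)
    (m1 : n * A ^ 2 + X1 = 17600) (m2 : n * (D * D) + X2 = 31680) (m3 : n * (F * F) + X3 = 31680)
    (m4 : n * F + X4 = 7920 * (s - 1)) (e : X3 = 0 → X4 = 0) :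
    n = 7920 ∧ B = -1 ∧ D = 0 ∧ F = s := by
  have a2 : 1 ≤ A ^ 2 := by
    rcases (show A ≤ -1 ∨ 1 ≤ A by omega) with e | e <;> nlinarith
  have a3 : (n : ℤ) ≤ 17600 := by nlinarith [Int.natCast_nonneg n]
  obtain rfl : n = 7920 := by omega
  push_cast at m1 m2 m3 m4
  have a4 : -1 ≤ A ∧ A ≤ 1 := ⟨by nlinarith, by nlinarith⟩
  have a5 : -2 ≤ D ∧ D ≤ 2 := ⟨by nlinarith, by nlinarith⟩
  have a6 : -2 ≤ F ∧ F ≤ 2 := ⟨by nlinarith, by nlinarith⟩
  have a7 : F = s := by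
    by_contra e'
    have e1 : F = -2 * s := by omega
    have e2 : F * F = 4 := by rw [e1]; rcases hs with rfl | rfl <;> rfl
    omega
  omega

theorem dvd1728 : ∀ n < 1729, n ∣ 1728 → ¬ 12 ∣ n → ¬ 18 ∣ n → n ∣ 64 ∨ n ∣ 27 ∨ n = 6 := by
  decide +kernel

namespace D12

variable (h : D12 G a b c d f)
include h

theorem relR [Fintype G] {g : G} (hg : g ∈ RR G) :
    1 + iv g b + iv g f = iv g a + iv g c + iv g d := h.rel g (h.n11_of (mem_RR.1 hg).2.2.2.2)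

theorem dvdR [Fintype G] {g : G} (hg : g ∈ RR G) : orderOf g ∣ 1728 := by
  obtain ⟨-, -, h1, h2, h3⟩ := mem_RR.1 hg
  have h4 := orderOf_dvd_natCard g
  rw [h.card, show 95040 = 1728 * 5 * 11 from rfl] at h4
  refine Nat.Coprime.dvd_of_dvd_mul_right ?_ (Nat.Coprime.dvd_of_dvd_mul_right ?_ h4)
  · exact ((Nat.Prime.coprime_iff_not_dvd Nat.prime_five).2 fun e => by
      have := h.ord5 e; omega).symm
  · exact ((Nat.Prime.coprime_iff_not_dvd (by norm_num)).2 (h.n11_of h3)).symm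

theorem no18 (g : G) : ¬ 18 ∣ orderOf g := fun e => by
  obtain ⟨k, hk⟩ := exists_pow_ord ((show 2 ∣ 18 by norm_num).trans e)
  have h1 := e.trans ((C1 (g ^ k)).orderOf_dvd_natCard (mem_C1.2 (Commute.self_pow g k)))
  rcases h.cinv hk with ⟨h2, -⟩ | h2 <;> omega

theorem par [Fintype G] {g : G} (hg : g ∈ RR G) (e : orderOf g ∣ 64) :
    2 ∣ iv g c ∧ 2 ∣ iv g d ∧ 2 ∣ iv g f ∧ 2 ∣ iv g a := by
  have := h.cong1 2 6 (orderOf_dvd_iff_pow_eq_one.1 e) (mem_RR.1 hg).2.2.2.2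
  omega

theorem par3 [Fintype G] {g : G} (hg : g ∈ RR G) (e : orderOf g ∣ 27) :
    iv g c = 0 ∧ 3 ∣ iv g b ∧ 3 ∣ iv g d ∧ 3 ∣ iv g f := by
  have := h.cong1 3 3 (orderOf_dvd_iff_pow_eq_one.1 e) (mem_RR.1 hg).2.2.2.2
  refine ⟨h.z3 ?_, by omega⟩
  obtain ⟨i, -, hi⟩ := (Nat.dvd_prime_pow Nat.prime_three (m := 3)).1 e
  rw [hi]
  exact dvd_pow_self 3 fun e => (mem_RR.1 hg).1 (by rw [hi, e]; rfl)

theorem par6 {g : G} (hg : orderOf g = 6) : iv g c = 0 ∧ 3 ∣ iv g a - iv (g ^ 3) a ∧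
    3 ∣ iv g b - iv (g ^ 3) b ∧ 3 ∣ iv g d - iv (g ^ 3) d ∧ 3 ∣ iv g f - iv (g ^ 3) f := by
  obtain ⟨h1, h2, h3⟩ := ord6 hg
  have := h.cong 3 (u := g ^ 4) (y := g ^ 3) 1 (pow_of_ord h2) (Commute.pow_pow_self g 4 3)
    (by rw [h3]; omega) (by omega)
  rw [h3] at this
  exact ⟨h.z3 (by rw [hg]; norm_num), by omega⟩

variable {u y : G} (hu : orderOf u = 2) (hy : orderOf y = 5) (hc : y ∈ C1 u)
include hu hy hc

theorem c02 [Fintype G] {g : G} (hg : g ∈ RR G) : iv g c = 0 ∨ iv g c = 2 := by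
  obtain ⟨-, -, s, hs, ⟨-, -, -, -, u4⟩, -⟩ := h.inv5 hu hy hc
  have h1 := h.momR hu hy hc u4 hs 0 0 (-2) 0 0 0 1 0 0 0 0 0 0 0 0
  have A : ∀ g ∈ RR G, iv g c ≠ 1 := fun g hg => by
    by_cases e : 3 ∣ orderOf g
    · rw [h.z3 e]; norm_num
    · have := h.par hg (Nat.Coprime.dvd_of_dvd_mul_right (n := 3 ^ 3) (Nat.Coprime.pow_right 3
        ((Nat.Prime.coprime_iff_not_dvd Nat.prime_three).2 e).symm) (h.dvdR hg))
      omega
  rw [sum_congr rfl (g := fun g => iv g c * (iv g c - 2)) fun g _ => by simp only [qd]; ring]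
    at h1
  exact (two_val (A g hg)).2 ((sum_eq_zero_iff_of_nonneg fun g hg => (two_val (A g hg)).1).1
    (h1.trans (by ring)) g hg)

theorem no12 (g : G) : ¬ 12 ∣ orderOf g := fun e => by
  have := Fintype.ofFinite G
  obtain ⟨k, hk⟩ := exists_pow_ord e
  generalize g ^ k = x at hk
  obtain ⟨o4, o3⟩ := split_pq (p := 4) (q := 3) (by norm_num) (by norm_num) hk
  have o2 : orderOf ((x ^ 3) ^ 2) = 2 := by rw [orderOf_pow, o4]; rfl
  have h1 := four_val h.perf (pow_of_ord o4) (h.val (χ := c) (by simp) _)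
    (h.val (χ := c) (by simp) _)
  have h2 : iv ((x ^ 3) ^ 2) c = 6 := by
    rcases h.cinv o2 with e | e
    · exact e.2.2.2.1
    · obtain ⟨-, -, s, -, ⟨-, -, u3, -⟩, -⟩ := h.inv5 hu hy hc
      rw [iv_isConj _ ((h.conj_u hu hy hc _).1 ⟨o2, e⟩), u3]
  have h3 := h.c02 hu hy hc (g := x ^ 3) (mem_RR.2 (by omega))
  have o7 : orderOf (x ^ 4 * x ^ 3) = 12 := by rw [← pow_add, orderOf_pow, hk]; rfl
  have h4 := (h.cong 3 (u := x ^ 4) (y := x ^ 3) 1 (pow_of_ord o3) (Commute.pow_pow_self x 4 3)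
    (by omega) (by omega)).2.2.1
  rw [h.z3 (g := x ^ 4 * x ^ 3) (by rw [o7]; norm_num)] at h4
  rw [h2, h.deg.2.2.1] at h1
  omega

theorem ordR [Fintype G] {g : G} (hg : g ∈ RR G) :
    orderOf g ∣ 64 ∨ orderOf g ∣ 27 ∨ orderOf g = 6 :=
  dvd1728 _ (Nat.lt_succ_of_le (Nat.le_of_dvd (by norm_num) (h.dvdR hg))) (h.dvdR hg)
    (h.no12 hu hy hc g) (h.no18 g)

theorem cardW [Fintype G] : (univ.filter (WW (G := G))).card = 396 * nord (C1 u) 3 := by
  classical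
  rw [card_eq_sum_card_fiberwise (f := fun g : G => g ^ 3) (t := univ.filter (IsConj u))
    fun g hg => by
      have := (mem_filter.1 hg).2
      simpa using (h.conj_u hu hy hc _).1 ⟨(ord6 this.1).1, this.2⟩]
  have h1 := (C1 u).card_mul_index
  rw [(h.inv5 hu hy hc).1, h.card] at h1
  rw [show 396 = (C1 u).index by omega,
    ← sum_class (fun x => nord (C1 x) 3) (fun x g => nord_cent_conj x g 3)]
  refine sum_congr rfl fun x hx => ?_
  obtain ⟨h2, h3⟩ := (h.conj_u hu hy hc x).2 (mem_filter.1 hx).2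
  rw [← card_fiber6 h2, Nat.card_eq_fintype_card, Fintype.card_subtype, filter_filter]
  exact congrArg _ (filter_congr fun g _ => ⟨fun e => ⟨e.1.1, e.2⟩, fun e => ⟨⟨e.1, e.2 ▸ h3⟩, e.2⟩⟩)

theorem valW {w : G} (hw : w ∈ C1 u) (ow : orderOf w = 3) {g : G} (hg : WW g)
    (χ : IrrCharacter G) : iv g χ = iv (w * u) χ := by
  obtain ⟨h1, h2, h3⟩ := ord6 hg.1
  obtain ⟨k, hk⟩ := isConj_iff.1 ((h.conj_u hu hy hc _).1 ⟨h1, hg.2⟩).symm
  have S : ∀ {w : G}, w ∈ C1 u → orderOf w = 3 → SylIn 3 (zpowers w) (C1 u) := fun hw ow =>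
    Mat.sylIn_of_card (k := 1) (m := 80) Nat.prime_three (zpowers_le.2 hw)
      (by rw [Nat.card_zpowers, ow]; rfl) (by rw [(h.inv5 hu hy hc).1]; rfl) (by norm_num)
  have h4 : k * g ^ 4 * k⁻¹ ∈ C1 u := by
    rw [← hk, ← cj_C1]
    exact mem_cj'.2 ⟨_, mem_C1.2 (Commute.pow_pow_self g 4 3), rfl⟩
  have h5 : orderOf (k * g ^ 4 * k⁻¹) = 3 := h2 ▸ (MulAut.conj k).orderOf_eq _
  obtain ⟨m, hm, e⟩ := (S h4 h5).conj (S hw ow)
  rw [cj_zpowers] at e
  have h6 : m * (k * g * k⁻¹) * m⁻¹ = m * (k * g ^ 4 * k⁻¹) * m⁻¹ * u := by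
    rw [← mem_C1_iff_conj.1 hm, ← hk]
    conv_lhs => rw [← h3]
    group
  rw [← iv_conj χ k, ← iv_conj χ m, h6]
  rcases mem_zpowers_three (pow_of_ord ow) (e ▸ mem_zpowers _) with e | e | e
  · rw [← (MulAut.conj m).orderOf_eq, MulAut.conj_apply, e, orderOf_one] at h5
    omega
  · rw [e]
  · rw [e, ← iv_inv, mul_inv_rev, inv_inv, inv_eq_of_mul_eq_one_left (Mat.mul_self_of_ord hu),
      mem_C1.1 hw]

theorem n3u : 3 ∣ 1 + nord (C1 u) 3 ∧ 2 ∣ nord (C1 u) 3 ∧ 5 ∣ nord (C1 u) 3 := by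
  have c1 := (h.inv5 hu hy hc).1
  have h2 := frobenius_pow (G := C1 u) Nat.prime_three (k := 1) (by rw [c1]; norm_num)
  rw [pow_one, Nat.prime_three.divisors, sum_pair (by norm_num), nord_one] at h2
  refine ⟨h2, totient_dvd_nord (G := C1 u) 3, dvd_nord_of_index fun v hv => ?_⟩
  have h5 := (C1 v).card_mul_index
  rw [c1] at h5
  refine ((Nat.prime_five.dvd_mul).1 (by rw [h5]; norm_num)).resolve_left ?_
  refine Mat.not_dvd_card_C1 Nat.prime_five le_rfl (by rw [hv]; norm_num) fun g e => ?_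
  rw [← Subgroup.orderOf_coe, hv] at e
  have := h.ord5 (g := (g : G)) (by rw [e]; norm_num)
  omega

/-- the moments on the remaining elements -/
theorem momR' [Fintype G] : (univ.filter (WW (G := G))).card = 7920 ∧
    ∀ k0 k1 k2 k3 k4 q1 q2 q3 q4 r1 r2 r3 r4 r5 r6 : ℤ,
    ∑ g ∈ (RR G).filter (fun g => ¬ WW g), qd k0 k1 k2 k3 k4 q1 q2 q3 q4 r1 r2 r3 r4 r5 r6
      (iv g b) (iv g c) (iv g d) (iv g f) = 49940 * k0 - 9900 * k1 + 11880 * k2 + 21120 * k3 -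
      7920 * k4 + 53460 * q1 + 23760 * q2 + 31680 * q3 + 23760 * q4 + 11880 * r1 - 23760 * r3 := by
  obtain ⟨c1, -, s, hs, ⟨u0, u1, -, u3, u4⟩, -⟩ := h.inv5 hu hy hc
  obtain ⟨w, hw, ow⟩ := Mat.exists_ord (K := C1 u) Nat.prime_three (by rw [c1]; norm_num)
  have o6 : orderOf (w * u) = 6 := by
    rw [Mat.orderOf_mul_C1 hw (by rw [hu, ow]; norm_num), hu, ow]
  have e3 : (w * u) ^ 3 = u := by
    rw [Commute.mul_pow (mem_C1.1 hw), pow_of_ord ow, one_mul, pow_succ, pow_two,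
      Mat.mul_self_of_ord hu, one_mul]
  obtain ⟨p0, p1, p2, p3, p4⟩ := h.par6 o6
  rw [e3] at p1 p2 p3 p4
  have rel := h.relR (g := w * u) (mem_RR.2 (by omega))
  have S : ∀ Q : ℤ → ℤ → ℤ → ℤ → ℤ, ∑ g ∈ RR G, Q (iv g b) (iv g c) (iv g d) (iv g f) =
      (univ.filter (WW (G := G))).card * Q (iv (w * u) b) 0 (iv (w * u) d) (iv (w * u) f) +
      ∑ g ∈ (RR G).filter (fun g => ¬ WW g), Q (iv g b) (iv g c) (iv g d) (iv g f) := fun Q => by
    rw [← sum_filter_add_sum_filter_not (RR G) WW, ← nsmul_eq_mul, ← sum_const, ← p0]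
    congr 1
    refine sum_congr ?_ fun g hg => by simp only [h.valW hu hy hc hw ow (mem_filter.1 hg).2]
    ext g
    simp only [mem_filter, mem_univ, true_and, mem_RR, and_iff_right_iff_imp]
    omega
  have M := h.momR hu hy hc u4 hs
  have h1 := h.cardW hu hy hc
  obtain ⟨h2, h3, h4⟩ := h.n3u hu hy hc
  have m1 := (S _).symm.trans (M 1 2 (-2) (-2) 2 1 1 1 1 (-2) (-2) 2 2 (-2) (-2))
  have m2 := (S _).symm.trans (M 0 0 0 0 0 0 0 1 0 0 0 0 0 0 0)
  have m3 := (S _).symm.trans (M 0 0 0 0 0 0 0 0 1 0 0 0 0 0 0)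
  have m4 := (S _).symm.trans (M 0 0 0 0 1 0 0 0 0 0 0 0 0 0 0)
  rw [p0, add_zero] at rel
  rw [sum_congr rfl (g := fun g => (1 + iv g b + iv g f - iv g c - iv g d) ^ 2) fun g _ => by
    simp only [qd]; ring, show qd 1 2 (-2) (-2) 2 1 1 1 1 (-2) (-2) 2 2 (-2) (-2) (iv (w * u) b) 0
      (iv (w * u) d) (iv (w * u) f) = iv (w * u) a ^ 2 by
        rw [eq_sub_of_add_eq rel.symm, qd]; ring] at m1
  simp only [qd, zero_mul, add_zero, zero_add, one_mul, mul_zero, mul_one, sub_zero] at m2 m3 m4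
  rw [u0] at p1
  rw [u3, sub_zero] at p3
  rw [u4] at p4
  obtain ⟨a1, a2, a3, a4⟩ := arithW hs h1 h2 h3 h4 p1 p3 p4 rel
    (sum_nonneg fun g _ => sq_nonneg _) (sum_nonneg fun g _ => mul_self_nonneg _)
    (sum_nonneg fun g _ => mul_self_nonneg _) (m1.trans (by ring)) m2 m3 m4
    fun e => sum_eq_zero fun g hg => mul_self_eq_zero.1 ((sum_eq_zero_iff_of_nonneg fun g _ =>
      mul_self_nonneg (iv g f)).1 e g hg)
  refine ⟨a1, fun k0 k1 k2 k3 k4 q1 q2 q3 q4 r1 r2 r3 r4 r5 r6 => ?_⟩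
  have m := (S _).symm.trans (M k0 k1 k2 k3 k4 q1 q2 q3 q4 r1 r2 r3 r4 r5 r6)
  rw [← eq_sub_iff_add_eq', a1, a2, a3, a4] at m
  rw [m]
  rcases hs with rfl | rfl <;> simp only [qd] <;> ring

omit hu hy hc in
/-- the element counts -/
theorem nse : M12.Nse G := by
  classical
  have := Fintype.ofFinite G
  obtain ⟨y, hy⟩ := exists_prime_orderOf_dvd_card' (G := G) (hp := ⟨Nat.prime_five⟩) 5
    (by rw [h.card]; norm_num)
  obtain ⟨u, hc, hu⟩ := Mat.exists_ord (K := C1 y) Nat.prime_two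
    (by rw [(h.five' y hy).1]; norm_num)
  rw [mem_C1_comm] at hc
  obtain ⟨cW, M⟩ := h.momR' hu hy hc
  set R := (RR G).filter fun g => ¬ WW g with hR
  have mR : ∀ g ∈ R, g ∈ RR G := fun g hg => (mem_filter.1 hg).1
  have t6 : ∀ g ∈ R, orderOf g = 6 → iv g c = 0 ∧ 3 ∣ iv g b ∧ 3 ∣ iv g d - 1 ∧ 3 ∣ iv g f ∧
      3 ∣ iv g a := fun g hg e => by
    have h1 := h.par6 e
    have h2 := (h.cinv (ord6 e).1).resolve_right fun f => (mem_filter.1 hg).2 ⟨e, f⟩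
    omega
  have Z : ∀ {F : G → ℤ}, (∀ g ∈ R, F g ≠ 1) → ∑ g ∈ R, F g * (F g - 2) = 0 →
      ∀ g ∈ R, F g = 0 ∨ F g = 2 := fun A e g hg => (two_val (A g hg)).2
    ((sum_eq_zero_iff_of_nonneg fun g hg => (two_val (A g hg)).1).1 e g hg)
  have E : ∀ {F : G → ℤ} {k0 k1 k2 k3 k4 q1 q2 q3 q4 r1 r2 r3 r4 r5 r6 : ℤ}, (∀ g, iv g a =
      1 + iv g b + iv g f - iv g c - iv g d → F g = qd k0 k1 k2 k3 k4 q1 q2 q3 q4
        r1 r2 r3 r4 r5 r6 (iv g b) (iv g c) (iv g d) (iv g f)) → ∑ g ∈ R, F g =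
      49940 * k0 - 9900 * k1 + 11880 * k2 + 21120 * k3 - 7920 * k4 + 53460 * q1 + 23760 * q2 +
        31680 * q3 + 23760 * q4 + 11880 * r1 - 23760 * r3 := fun e => by
    rw [← M]
    exact sum_congr rfl fun g hg => e g (by have := h.relR (mR g hg); omega)
  have z4 := Z (F := fun g => iv g c - 2 * iv g f - 2 * iv g b)
    (fun g hg => by have := h.c02 hu hy hc (mR g hg); omega)
    ((E (k0 := 0) (k1 := 4) (k2 := -2) (k3 := 0) (k4 := 4) (q1 := 4) (q2 := 1) (q3 := 0) (q4 := 4)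
      (r1 := -4) (r2 := 0) (r3 := 8) (r4 := 0) (r5 := -4) (r6 := 0)
      fun g _ => by simp only [qd]; ring).trans rfl)
  have z3 := Z (F := fun g => 2 * iv g d + 3 * iv g a + iv g f)
    (fun g hg => by
      rcases h.ordR hu hy hc (mR g hg) with e | e | e
      · have := h.par (mR g hg) e; omega
      · have := h.par3 (mR g hg) e; omega
      · have := t6 g hg e; omega)
    ((E (k0 := 3) (k1 := 12) (k2 := -12) (k3 := -4) (k4 := 16) (q1 := 9) (q2 := 9) (q3 := 1)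
      (q4 := 16) (r1 := -18) (r2 := -6) (r3 := 24) (r4 := 6) (r5 := -24) (r6 := -8)
      fun g e => by simp only [qd, e]; ring).trans rfl)
  have Ar := fun g (hg : g ∈ R) =>
    arith12 (h.relR (mR g hg)) (h.c02 hu hy hc (mR g hg)) (z4 g hg) (z3 g hg) rfl
  have q5 := (E (F := fun g => 2 * (2 * iv g d + 3 * iv g a + iv g f) * (iv g c - 2 * iv g f -
      2 * iv g b + iv g c) - (3 * iv g a + iv g f) * iv g f)
    (k0 := 0) (k1 := -12) (k2 := 12) (k3 := 0) (k4 := -15) (q1 := -12) (q2 := -12) (q3 := 0)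
    (q4 := -20) (r1 := 24) (r2 := 4) (r3 := -31) (r4 := -4) (r5 := 31) (r6 := 7)
    fun g e => by simp only [qd, e]; ring).trans (show _ = 0 by norm_num)
  rw [sum_eq_zero_iff_of_nonneg fun g hg => by
    rcases h.ordR hu hy hc (mR g hg) with e | e | e
    · obtain ⟨-, h1, h2, -⟩ := h.par (mR g hg) e
      exact ((Ar g hg).1 h1 h2).1
    · obtain ⟨h1, h2, h3, h4⟩ := h.par3 (mR g hg) e
      exact ((Ar g hg).2.1 h1 h2 h3 h4).1
    · obtain ⟨h1, h2, h3, h4, h5⟩ := t6 g hg e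
      exact ((Ar g hg).2.2 h1 h2 h3 h4 h5).1] at q5
  have T : ∀ g ∈ R, (¬ 3 ∣ orderOf g ∧ iv g a = 0 ∧ iv g f = 0 ∧ iv g d = 0) ∨
      ((¬ 2 ∣ orderOf g ∧ (3 ∣ orderOf g ∨ orderOf g = 1)) ∧ ((iv g a = -2 ∧ iv g f = 0 ∧ iv g d = 3 ∧ iv g b = 0) ∨
        (iv g a = 1 ∧ iv g f = -3 ∧ iv g d = 0 ∧ iv g b = 3))) ∨
      (orderOf g = 6 ∧ iv g a = 0 ∧ iv g f = 0 ∧ iv g d = 1) := fun g hg => by
    rcases h.ordR hu hy hc (mR g hg) with e | e | e
    · obtain ⟨-, h1, h2, -⟩ := h.par (mR g hg) e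
      exact Or.inl ⟨fun f => absurd (f.trans e) (by norm_num), ((Ar g hg).1 h1 h2).2 (q5 g hg)⟩
    · obtain ⟨h1, h2, h3, h4⟩ := h.par3 (mR g hg) e
      refine Or.inr (Or.inl ⟨⟨fun f => absurd (f.trans e) (by norm_num), ?_⟩,
        ((Ar g hg).2.1 h1 h2 h3 h4).2 (q5 g hg)⟩)
      have := Nat.le_of_dvd (by norm_num) e
      generalize orderOf g = n at *
      interval_cases n <;> omega
    · obtain ⟨h1, h2, h3, h4, h5⟩ := t6 g hg e
      exact Or.inr (Or.inr ⟨e, ((Ar g hg).2.2 h1 h2 h3 h4 h5).2 (q5 g hg)⟩)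
  have l1 := E (F := fun g => -(iv g a + iv g f)) (k0 := -1) (k1 := -1) (k2 := 1) (k3 := 1)
    (k4 := -2) (q1 := 0) (q2 := 0) (q3 := 0) (q4 := 0) (r1 := 0) (r2 := 0) (r3 := 0) (r4 := 0)
    (r5 := 0) (r6 := 0) fun g e => by simp only [qd, e]; ring
  have l2 := E (F := fun g => 2 * iv g d + 3 * iv g a + iv g f) (k0 := 3) (k1 := 3) (k2 := -3)
    (k3 := -1) (k4 := 4) (q1 := 0) (q2 := 0) (q3 := 0) (q4 := 0) (r1 := 0) (r2 := 0) (r3 := 0)
    (r4 := 0) (r5 := 0) (r6 := 0) fun g e => by simp only [qd, e]; ring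
  have l3 := E (F := fun g => -iv g f) (k0 := 0) (k1 := 0) (k2 := 0) (k3 := 0)
    (k4 := -1) (q1 := 0) (q2 := 0) (q3 := 0) (q4 := 0) (r1 := 0) (r2 := 0) (r3 := 0) (r4 := 0)
    (r5 := 0) (r6 := 0) fun g e => by simp only [qd]; ring
  have l4 := E (F := fun g => -(3 * iv g a + iv g f)) (k0 := -3) (k1 := -3) (k2 := 3) (k3 := 3)
    (k4 := -4) (q1 := 0) (q2 := 0) (q3 := 0) (q4 := 0) (r1 := 0) (r2 := 0) (r3 := 0) (r4 := 0)
    (r5 := 0) (r6 := 0) fun g e => by simp only [qd, e]; ring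
  have o3 : ∀ g ∈ R, orderOf g ∣ 27 → orderOf g = 3 := fun g hg e => by
    by_contra e3
    have o9 : 9 ∣ orderOf g := by
      have := Nat.le_of_dvd (by norm_num) e
      have := (mem_RR.1 (mR g hg)).1
      generalize orderOf g = n at *
      interval_cases n <;> omega
    have co : ∀ p : ℕ, p.Prime → p ≠ 3 → p.Coprime (orderOf g) := fun p hp h3 =>
      (Nat.Coprime.pow_right 3 ((Nat.coprime_primes hp Nat.prime_three).2 h3)).coprime_dvd_right e
    have c2 : ¬ 2 ∣ Nat.card (C1 g) := Mat.not_dvd_card_C1 Nat.prime_two le_rfl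
      (co 2 Nat.prime_two (by norm_num)) fun x e' => h.no18 x (e' ▸ Nat.mul_dvd_mul_left 2 o9)
    have c5 : ¬ 5 ∣ Nat.card (C1 g) := Mat.not_dvd_card_C1 Nat.prime_five le_rfl
      (co 5 Nat.prime_five (by norm_num)) fun x e' => by
        have := h.ord5 (g := x) (e' ▸ dvd_mul_right _ _)
        omega
    have n11 := h.n11_of (mem_RR.1 (mR g hg)).2.2.2.2
    have c11 := h.c11 g (fun e => (mem_RR.1 (mR g hg)).1 (by rw [e, orderOf_one])) n11
    have c27 : Nat.card (C1 g) ∣ 27 := by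
      have h4 := (C1 g).card_subgroup_dvd_card
      rw [h.card, show 95040 = 27 * 2 ^ 6 * 5 * 11 from rfl] at h4
      exact Nat.Coprime.dvd_of_dvd_mul_right (Nat.Coprime.pow_right 6
        ((Nat.Prime.coprime_iff_not_dvd Nat.prime_two).2 c2).symm)
        (Nat.Coprime.dvd_of_dvd_mul_right ((Nat.Prime.coprime_iff_not_dvd Nat.prime_five).2 c5).symm
        (Nat.Coprime.dvd_of_dvd_mul_right
          ((Nat.Prime.coprime_iff_not_dvd (by norm_num)).2 c11).symm h4))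
    have i1 := (C1 g).card_mul_index
    have i2 := Nat.le_of_dvd (by norm_num) c27
    have i3 : 3520 ≤ (C1 g).index := by rw [h.card] at i1; nlinarith
    have B : ∀ F : G → ℤ, (∀ x ∈ R, 0 ≤ F x) → (∀ x, IsConj g x → F x = F g) →
        3520 * F g ≤ ∑ x ∈ R, F x := fun F h1 h2 => by
      refine le_trans ?_ (sum_le_sum_of_subset_of_nonneg (s := univ.filter (IsConj g))
        (fun x hx => ?_) fun x hx _ => h1 x hx)
      · rw [sum_congr rfl fun x hx => h2 x (mem_filter.1 hx).2, sum_const, nsmul_eq_mul,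
          ← Fintype.card_subtype, ← Nat.card_eq_fintype_card, card_isConj_eq]
        exact mul_le_mul_of_nonneg_right (by exact_mod_cast i3) (h1 g hg)
      · have h3 := ord_isConj (mem_filter.1 hx).2
        refine mem_filter.2 ⟨mem_RR.2 (h3 ▸ mem_RR.1 (mR g hg)), fun e => ?_⟩
        have := e.1
        omega
    have b3 := B (fun g => -iv g f) (fun x hx => by have := T x hx; omega)
      fun x hx => by simp only [iv_isConj _ hx]
    have b4 := B (fun g => -(3 * iv g a + iv g f)) (fun x hx => by have := T x hx; omega)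
      fun x hx => by simp only [iv_isConj _ hx]
    have := T g hg
    rw [l3] at b3
    rw [l4] at b4
    omega
  have o36 : ∀ g ∈ RR G, 3 ∣ orderOf g → orderOf g = 3 ∨ orderOf g = 6 := fun g h1 hg => by
    by_cases e : orderOf g = 6
    · exact Or.inr e
    · refine Or.inl (o3 g (mem_filter.2 ⟨h1, fun f => e f.1⟩) ?_)
      have := h.ordR hu hy hc h1
      refine (this.resolve_left fun f => ?_).resolve_right e
      exact absurd (hg.trans f) (by norm_num)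
  have cnt : ∀ {F : G → ℤ} {n : ℕ}, (∀ g ∈ R, F g = if orderOf g = n then 2 else 0) →
      ∑ g ∈ R, F g = 2 * (R.filter fun g => orderOf g = n).card := fun e => by
    rw [sum_congr rfl e, ← sum_filter, sum_const, nsmul_eq_mul, mul_comm]
  rw [cnt (n := 3) fun g hg => by
    have := T g hg
    have := o36 g (mR g hg)
    have := (mem_RR.1 (mR g hg)).1
    split_ifs <;> omega] at l1
  rw [cnt (n := 6) fun g hg => by
    have := T g hg
    split_ifs <;> omega] at l2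
  refine ⟨h.card, ?_, ?_, fun g hg => ?_⟩
  · rw [nord, Nat.card_eq_fintype_card, Fintype.card_subtype,
      show (univ.filter fun g : G => orderOf g = 3) = R.filter fun g => orderOf g = 3 by
        ext g
        simp only [hR, mem_filter, mem_univ, true_and, mem_RR]
        omega]
    omega
  · rw [nord, Nat.card_eq_fintype_card, Fintype.card_subtype,
      ← card_filter_add_card_filter_not WW,
      show (univ.filter fun g : G => orderOf g = 6).filter WW = univ.filter WW by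
        ext g
        simp only [mem_filter, mem_univ, true_and]
        omega,
      show ((univ.filter fun g : G => orderOf g = 6).filter fun g => ¬ WW g) =
          R.filter fun g => orderOf g = 6 by
        ext g
        simp only [hR, mem_filter, mem_univ, true_and, mem_RR]
        omega]
    omega
  · exact o36 g (mem_RR.2 (by omega)) hg

end D12

end CfsgB0
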