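import Cfsg.Agent.H4.B0h
import Cfsg.Agent.H4.MinNormal
import Cfsg.Agent.H5.NseAlt2
import Cfsg.Agent.H8.M11Pres
import Cfsg.Agent.H8.MatLocA

/-! `M11` has trivial Schur multiplier and is complete; groups of order `|M12|` over `M11`. -/

set_option autoImplicit false
set_option maxRecDepth 100000

namespace CfsgH8

open Subgroup CfsgH5 CfsgH6 CfsgFT CfsgH9 Cfsg
open scoped commutatorElement

universe u

namespace Sec

theorem comm_closure_le {G : Type*} [Group G] {Z : Subgroup G} {S : Set G}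
    (hn : ∀ s ∈ S, s ∈ N Z) (hc : ∀ s ∈ S, ∀ t ∈ S, ⁅s, t⁆ ∈ Z) :
    ⁅closure S, closure S⁆ ≤ Z := by
  have hle : closure S ≤ N Z := (closure_le _).2 hn
  have A : ∀ t : G, (∀ s ∈ S, ⁅s, t⁆ ∈ Z) → ∀ g ∈ closure S, ⁅g, t⁆ ∈ Z := by
    intro t ht g hg
    induction hg using closure_induction with
    | mem s hs => exact ht s hs
    | one => simp
    | mul x y hx hy h1 h2 =>
      have e : ⁅x * y, t⁆ = x * ⁅y, t⁆ * x⁻¹ * ⁅x, t⁆ := by
        simp only [commutatorElement_def]; group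
      rw [e]
      exact mul_mem (conj_mem_of_mem_N (hle hx) h2) h1
    | inv x hx h1 =>
      have e : ⁅x⁻¹, t⁆ = x⁻¹ * ⁅x, t⁆⁻¹ * x⁻¹⁻¹ := by
        simp only [commutatorElement_def]; group
      rw [e]
      exact conj_mem_of_mem_N (inv_mem (hle hx)) (inv_mem h1)
  refine commutator_le.2 fun g hg h hh => A h (fun s hs => ?_) g hg
  rw [← inv_mem_iff, commutatorElement_inv]
  exact A s (fun t ht => hc t ht s hs) h hh

theorem pow_index_mem {K : Type*} [Group K] [Finite K] (hK : commutator K = ⊤) (H : Subgroup K)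
    {n : K} (hn : ∀ k, n * k = k * n) : n ^ H.index ∈ ⁅H, H⁆ := by
  have key : ∀ (k : ℕ) (g₀ : K), g₀⁻¹ * n ^ k * g₀ ∈ H → g₀⁻¹ * n ^ k * g₀ = n ^ k := by
    intro k g _
    rw [mul_assoc, (Commute.pow_left (hn g) k).eq, inv_mul_cancel_left]
  have h1 := MonoidHom.transfer_eq_pow (Abelianization.of : H →* Abelianization H) n key
  have h2 : MonoidHom.transfer (Abelianization.of : H →* Abelianization H) n = 1 :=
    Abelianization.commutator_subset_ker _ (hK ▸ mem_top n)
  rw [h2, eq_comm, ← MonoidHom.mem_ker, Abelianization.ker_of] at h1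
  have h3 : D H = _ := D_eq_map_commutator H
  change _ ∈ D H
  rw [h3]
  exact ⟨_, h1, rfl⟩

theorem aut_inner {G : Type*} [Group G] [Finite G] {m : ℕ} (d : Fin m → G)
    (hd : Function.Injective d) (P : ℕ → Prop)
    (hD : ∀ g, g ∈ Set.range d ↔ g ≠ 1 ∧ P (Nat.card (Subgroup.centralizer {g})))
    (hC : ∀ g, (∀ i, Commute g (d i)) → g = 1) (b : ℕ → ℕ → Bool)
    (hb : ∀ i j : Fin m, b i j = true ↔ Commute (d i) (d j))
    (hA : Nat.card (relAut m b) ≤ Nat.card G) (φ : MulAut G) : ∃ g, ∀ x, φ x = g * x * g⁻¹ := by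
  have hcj : ∀ (k : MulAut G) (x y : G), Commute x y ↔ Commute (k x) (k y) :=
    fun k x y => ⟨fun h => h.map _, fun h => by simpa using h.map k.symm⟩
  have h1 : ∀ (k : MulAut G) (i : Fin m), ∃ j, d j = k (d i) := by
    intro k i
    obtain ⟨h2, h3⟩ := (hD (d i)).1 ⟨i, rfl⟩
    refine (hD _).2 ⟨by rwa [Ne, MulEquiv.map_eq_one_iff], ?_⟩
    have := card_centralizer_eq k.toEquiv (hcj k) (d i)
    rw [← this] at h3
    exact h3
  choose τ hτ using h1
  let τ' : MulAut G →* Function.End (Fin m) :=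
    { toFun := τ
      map_one' := by
        funext i
        apply hd
        rw [hτ]; rfl
      map_mul' := fun k l => by
        funext i
        apply hd
        change _ = d (τ k (τ l i))
        rw [hτ, hτ, hτ]; rfl }
  have h2 : Function.Injective τ'.toHomPerm := by
    rw [injective_iff_map_eq_one]
    intro k hk
    have h3 : ∀ i, k (d i) = d i := fun i => by
      have h4 : τ k i = i := DFunLike.congr_fun hk i
      rw [← hτ, h4]
    ext x
    have h4 : x⁻¹ * k x = 1 := hC _ fun i => by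
      have h5 := h3 (τ (MulAut.conj x) i)
      rw [hτ, MulAut.conj_apply, map_mul, map_mul, map_inv, h3] at h5
      change _ * _ = _ * _
      calc x⁻¹ * k x * d i = x⁻¹ * (k x * d i * (k x)⁻¹) * k x := by group
        _ = _ := by rw [h5]; group
    exact (inv_mul_eq_one.1 h4).symm
  have h3 : τ'.toHomPerm.range ≤ relAut m b := by
    rintro _ ⟨k, rfl⟩ i j
    change b (τ k i) (τ k j) = b i j
    rw [Bool.eq_iff_iff, hb, hb, hτ, hτ, ← hcj]
  have h4 : Function.Injective (MulAut.conj : G →* MulAut G) := by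
    rw [injective_iff_map_eq_one]
    intro g hg
    refine hC g fun i => ?_
    have := DFunLike.congr_fun hg (d i)
    rw [MulAut.conj_apply, MulAut.one_apply, mul_inv_eq_iff_eq_mul] at this
    exact this
  have : Finite (MulAut G) := Finite.of_injective _ h2
  have h5 : Nat.card (MulAut G) ≤ Nat.card G := by
    rw [Nat.card_congr (MonoidHom.ofInjective h2).toEquiv]
    exact (card_le_of_le h3).trans hA
  obtain ⟨g, rfl⟩ := (h4.bijective_of_nat_card_le h5).2 φ
  exact ⟨g, fun _ => rfl⟩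

open M11C in
theorem m11_complete : (∀ g : Spor.M11, (∀ x, g * x = x * g) → g = 1) ∧
    ∀ φ : MulAut Spor.M11, ∃ g, ∀ x, φ x = g * x * g⁻¹ := by
  obtain ⟨z, hz, e⟩ := exists_z
  have hz1 : z ≠ 1 := by
    rintro rfl
    rw [MM.enc_one] at e
    revert e
    decide +kernel
  have hz2 : z ^ 2 = 1 := by
    apply MM.enc_inj
    rw [pow_two, MM.enc_mul, e, MM.enc_one]
    decide +kernel
  obtain ⟨hc, D, hD1, hD2, hD3, hD4⟩ := Model.commGraph_data _ cmm_iff (by decide)
    (gen_top ▸ c_chain0) c_chain1 (by decide +kernel) hz1 hz2 hz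
    (Model.gen_le_centralizer _ cmm_iff (by rw [e]; exact c_cz)) (c_hd e)
    (by decide +kernel) c_hI c_hI2 (by rw [e]; exact c_h16) (by norm_num) (by norm_num) c_hC
  refine ⟨fun g hg => hD4 g fun i => hg _, aut_inner D hD1 (fun n => 16 ∣ n) hD3 hD4 c_b
    (fun i j => ?_) (c_aut.trans (by rw [hc]))⟩
  rw [c_b, ← hD2, ← hD2, cmm_iff]

open M11C M11 in
theorem m11_elts : ∃ a s x y : Spor.M11, a ^ 8 = 1 ∧ a ^ 4 ≠ 1 ∧ s * s = 1 ∧
    s * a = a ^ 3 * s ∧ x ^ 3 = 1 ∧ x ≠ 1 ∧ a * x = y * a ∧ a * y = x * y * a ∧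
    x * y = y * x := by
  obtain ⟨a, -, ha⟩ := c_chain0.1 (mi.get 2)
  obtain ⟨s, -, hs⟩ := c_chain0.1 (mi.get 4)
  obtain ⟨x, -, hx⟩ := c_chain0.1 (mi.get 6)
  obtain ⟨y, -, hy⟩ := c_chain0.1 (mi.get 8)
  refine ⟨a, s, x, y, ?_, fun h => ?_, ?_, ?_, ?_, fun h => ?_, ?_, ?_, ?_⟩
  any_goals
    apply MM.enc_inj
    simp only [pow_succ, pow_zero, one_mul, MM.enc_mul, MM.enc_one, ha, hs, hx, hy]
    decide +kernel
  all_goals
    have h' := congrArg MM.enc h
    simp only [pow_succ, pow_zero, one_mul, MM.enc_mul, MM.enc_one, ha, hx] at h'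
    revert h'
    decide +kernel

theorem index_dvd {K : Type*} [Group K] [Finite K] {π : K →* Spor.M11}
    (hπ : Function.Surjective π) {H : Subgroup K} (hk : π.ker ≤ H) {T : Subgroup Spor.M11}
    (hT : T ≤ H.map π) {c m : ℕ} (hc : Nat.card T = c) (hm : c * m = 7920) : H.index ∣ m := by
  rw [← index_map_eq H hπ hk]
  have h1 := T.card_mul_index
  rw [hc, M11.card_M11, ← hm] at h1
  have h2 : c ≠ 0 := by rintro rfl; omega
  rw [← Nat.eq_of_mul_eq_mul_left (Nat.pos_of_ne_zero h2) h1]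
  exact index_dvd_of_le hT

/-- the Schur multiplier of `M11` has no `2`- and no `3`-part -/
theorem pow55 {K : Type*} [Group K] [Finite K] (hK : commutator K = ⊤) {π : K →* Spor.M11}
    (hπ : Function.Surjective π) (hc : ∀ n ∈ π.ker, ∀ k, n * k = k * n) {n : K}
    (hn : n ∈ π.ker) : n ^ 495 = 1 ∧ n ^ 880 = 1 := by
  obtain ⟨a, s, x, y, a8, a4, s2, sa, x3, x1, ax, ay, xy⟩ := m11_elts
  obtain ⟨A, rfl⟩ := hπ a
  obtain ⟨S, rfl⟩ := hπ s
  obtain ⟨X, rfl⟩ := hπ x
  obtain ⟨Y, rfl⟩ := hπ y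
  have rel : ∀ {g h : K}, π g = π h → ∃ z, (∀ k, Commute z k) ∧ π z = 1 ∧ g = h * z :=
    fun {g h} e => by
      have h1 : h⁻¹ * g ∈ π.ker := by rw [MonoidHom.mem_ker, map_mul, map_inv, e, inv_mul_cancel]
      exact ⟨h⁻¹ * g, hc _ h1, h1, by group⟩
  have oa : orderOf (π A) = 8 :=
    orderOf_eq_prime_pow (p := 2) (n := 2) a4 a8
  constructor
  · obtain ⟨z, hz, pz, ez⟩ := rel (g := S * A * S⁻¹) (h := A ^ 3) (by
      simp only [map_mul, map_inv, map_pow, sa, mul_inv_cancel_right])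
    have hS : ∀ k, S * S * k = k * (S * S) := hc _ (by rw [MonoidHom.mem_ker, map_mul, s2])
    have cz : ∀ g : K, g * z * g⁻¹ = z := fun g => by rw [← (hz g).eq, mul_inv_cancel_right]
    have e1 : ∀ i : ℕ, S * A ^ i * S⁻¹ = A ^ (3 * i) * z ^ i := fun i => by
      rw [← conj_pow, ez, (hz (A ^ 3)).symm.mul_pow, pow_mul]
    have e2 : ∀ i j : ℕ, S * (A ^ i * z ^ j) * S⁻¹ = A ^ (3 * i) * z ^ (i + j) := fun i j => by
      rw [pow_add, ← mul_assoc (A ^ (3 * i)), ← e1, mul_assoc (S * A ^ i),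
        ← ((hz S⁻¹).pow_left j).eq]
      group
    have e3 : ∀ i : ℕ, (A ^ 2 * z) ^ i = A ^ (2 * i) * z ^ i := fun i => by
      rw [(hz (A ^ 2)).symm.mul_pow, pow_mul]
    have c4 : (A ^ 2 * z) ^ 4 = 1 := by
      have h1 : S * (S * A * S⁻¹) * S⁻¹ = A := by
        calc _ = S * S * A * (S * S)⁻¹ := by group
          _ = A := by rw [hS, mul_inv_cancel_right]
      have h2 := e2 3 1
      rw [pow_one, ← ez, h1] at h2
      rw [e3]
      calc _ = A⁻¹ * (A ^ (3 * 3) * z ^ (3 + 1)) := by group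
        _ = 1 := by rw [← h2, inv_mul_cancel]
    have hD : ⁅closure ({A, S} ∪ (π.ker : Set K)), closure ({A, S} ∪ (π.ker : Set K))⁆ ≤
        zpowers (A ^ 2 * z) := by
      have k1 : ⁅S, A⁆ = A ^ 2 * z := by
        rw [commutatorElement_def, ez, mul_assoc, (hz A⁻¹).eq]; group
      refine comm_closure_le ?_ ?_
      · intro g hg
        refine mem_N.2 ?_
        rw [cj_zpowers]
        rcases hg with (rfl | rfl) | hg
        · congr 1
          calc _ = g ^ 2 * (g * z * g⁻¹) := by group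
            _ = _ := by rw [cz]
        · have h1 := e2 2 1
          rw [pow_one, ← e3 3] at h1
          rw [h1]
          refine le_antisymm (zpowers_le.2 (pow_mem (mem_zpowers _) 3)) (zpowers_le.2 ?_)
          have h2 : A ^ 2 * z = ((A ^ 2 * z) ^ 3) ^ 3 := by
            rw [← pow_mul, show 3 * 3 = 4 * 2 + 1 from rfl, pow_succ _ (4 * 2), pow_mul, c4,
              one_pow, one_mul]
          exact h2 ▸ pow_mem (h2 ▸ mem_zpowers _) 3
        · rw [hc g hg, mul_inv_cancel_right]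
      · rintro g ((rfl | rfl) | hg) h ((rfl | rfl) | hh)
        · simp
        · rw [← inv_mem_iff, commutatorElement_inv, k1]; exact mem_zpowers _
        · rw [commutatorElement_eq_one_iff_mul_comm.2 (hc h hh _).symm]; exact one_mem _
        · rw [k1]; exact mem_zpowers _
        · simp
        · rw [commutatorElement_eq_one_iff_mul_comm.2 (hc h hh _).symm]; exact one_mem _
        all_goals rw [commutatorElement_eq_one_iff_mul_comm.2 (hc g hg _)]; exact one_mem _
    obtain ⟨k, hk⟩ := mem_zpowers_iff.1 (hD (pow_index_mem hK _ (hc n hn)))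
    have h1 : (π A ^ 2) ^ k = 1 := by
      have := congrArg π hk
      rwa [map_zpow, map_mul, pz, mul_one, map_pow, map_pow, MonoidHom.mem_ker.1 hn,
        one_pow] at this
    have h2 : orderOf (π A ^ 2) = 4 := by rw [orderOf_pow, oa]; rfl
    obtain ⟨j, rfl⟩ := orderOf_dvd_iff_zpow_eq_one.2 h1
    rw [h2, zpow_mul, zpow_natCast, c4, one_zpow] at hk
    have hs : π S ∉ zpowers (π A) := fun h => by
      have h3 : π S * π A = π A * π S := (ab_zpowers _).comm h (mem_zpowers _)
      rw [sa, mul_left_inj] at h3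
      apply a4
      calc _ = (π A ^ 3 * (π A)⁻¹) ^ 2 := by group
        _ = 1 := by rw [h3]; group
    have hN : π S ∈ N (zpowers (π A)) := mem_N_of_cj_le (by
      rw [cj_zpowers, sa, mul_inv_cancel_right]
      exact zpowers_le.2 (pow_mem (mem_zpowers _) 3))
    have h3 := Mat.card_sup_inv s2 hs hN
    rw [Nat.card_zpowers, oa] at h3
    obtain ⟨r, hr⟩ := index_dvd hπ (H := closure ({A, S} ∪ (π.ker : Set K)))
      (fun g hg => subset_closure (Or.inr hg))
      (sup_le (zpowers_le.2 (mem_map_of_mem _ (subset_closure (Or.inl (Or.inl rfl)))))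
        (zpowers_le.2 (mem_map_of_mem _ (subset_closure (Or.inl (Or.inr rfl)))))) h3 (m := 495) rfl
    rw [hr, pow_mul, ← hk, one_pow]
  · obtain ⟨w, hw, -, ew⟩ := rel (g := X * Y) (h := Y * X) (by simp only [map_mul, xy])
    obtain ⟨p, hp, -, ep⟩ := rel (g := A * X * A⁻¹) (h := Y) (by
      simp only [map_mul, map_inv, ax, mul_inv_cancel_right])
    obtain ⟨q, hq, -, eq⟩ := rel (g := A * Y * A⁻¹) (h := X * Y) (by
      simp only [map_mul, map_inv, ay, mul_inv_cancel_right])
    have hX : ∀ k, X ^ 3 * k = k * X ^ 3 := hc _ (by rw [MonoidHom.mem_ker, map_pow, x3])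
    have w2 : w * w = 1 := by
      have h1 : A * X * A⁻¹ * (A * Y * A⁻¹) = A * Y * A⁻¹ * (A * X * A⁻¹) * w := by
        calc _ = A * (X * Y) * A⁻¹ := by group
          _ = A * (Y * X) * (w * A⁻¹) := by rw [ew]; group
          _ = _ := by rw [(hw A⁻¹).eq]; group
      rw [ep, eq] at h1
      have h2 : Y * p * (X * Y * q) = Y * X * Y * (p * q) := by
        rw [mul_assoc Y p, (hp _).eq, (hp q).eq]; group
      have h3 : X * Y * q * (Y * p) * w = Y * X * Y * (w * w) * (p * q) := by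
        calc _ = X * Y * (q * (Y * p * w)) := by group
          _ = Y * X * (w * Y) * (p * w) * q := by rw [(hq _).eq, ew]; group
          _ = _ := by rw [(hw Y).eq, ← (hw p).eq]; group
      rw [h2, h3, mul_left_inj, left_eq_mul] at h1
      exact h1
    have w3 : w ^ 3 = 1 := by
      have h1 : X * Y * X⁻¹ = Y * w := by rw [ew, mul_assoc, (hw _).eq]; group
      have h2 : ∀ i : ℕ, X * (Y * w ^ i) * X⁻¹ = Y * w ^ (i + 1) := fun i => by
        calc _ = X * Y * (w ^ i * X⁻¹) := by group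
          _ = X * Y * X⁻¹ * w ^ i := by rw [((hw X⁻¹).pow_left i).eq]; group
          _ = _ := by rw [h1]; group
      have h3 : X * (X * (X * Y * X⁻¹) * X⁻¹) * X⁻¹ = Y := by
        calc _ = X ^ 3 * Y * (X ^ 3)⁻¹ := by
              simp only [pow_succ, pow_zero, one_mul, mul_inv_rev, mul_assoc]
          _ = Y := by rw [hX, mul_inv_cancel_right]
      rw [h1, ← pow_one w, h2, h2, mul_eq_left] at h3
      exact h3
    have w1 : w = 1 := by rw [pow_succ, pow_two, w2, one_mul] at w3; exact w3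
    rw [w1, mul_one] at ew
    have hD : ⁅closure ({X, Y} ∪ (π.ker : Set K)), closure ({X, Y} ∪ (π.ker : Set K))⁆ ≤ ⊥ := by
      refine comm_closure_le (fun g _ => by rw [N_bot]; trivial) ?_
      rintro g ((rfl | rfl) | hg) h ((rfl | rfl) | hh) <;>
        rw [mem_bot, commutatorElement_eq_one_iff_mul_comm]
      · exact ew
      · exact (hc h hh _).symm
      · exact ew.symm
      · exact (hc h hh _).symm
      all_goals exact hc g hg _
    have hk := mem_bot.1 (hD (pow_index_mem hK _ (hc n hn)))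
    have ox : orderOf (π X) = 3 := Mat.orderOf_three x3 x1
    have ey : π Y = π A * π X * (π A)⁻¹ := by rw [ax, mul_inv_cancel_right]
    have oy : orderOf (π Y) = 3 := by
      rw [ey, ← ox]; exact (MulAut.conj (π A)).orderOf_eq _
    have hi : zpowers (π X) ⊓ zpowers (π Y) = ⊥ := by
      by_contra h
      have h1 : zpowers (π X) ⊓ zpowers (π Y) = zpowers (π X) :=
        eq_of_le_of_card_eq inf_le_left (by
          have h2 := card_dvd_of_le (inf_le_left : zpowers (π X) ⊓ zpowers (π Y) ≤ _)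
          rw [Nat.card_zpowers, ox] at h2 ⊢
          exact ((Nat.dvd_prime Nat.prime_three).1 h2).resolve_left (mt card_eq_one_iff.1 h))
      have h2 : zpowers (π X) = zpowers (π Y) :=
        eq_of_le_of_card_eq (h1 ▸ inf_le_right) (by rw [Nat.card_zpowers, Nat.card_zpowers, ox, oy])
      obtain ⟨k, hk⟩ := mem_zpowers_iff.1 (h2 ▸ mem_zpowers (π Y) : π Y ∈ zpowers (π X))
      have h3 : π A * π Y * (π A)⁻¹ = π Y ^ k := by
        conv_lhs => rw [← hk, ← conj_zpow, ← ey]
      rw [ay, mul_inv_cancel_right, ← hk, ← zpow_mul, ← zpow_one_add, zpow_eq_zpow_iff_modEq,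
        ox] at h3
      have h4 : k % 3 = 0 ∨ k % 3 = 1 ∨ k % 3 = 2 := by omega
      unfold Int.ModEq at h3
      rcases h4 with h4 | h4 | h4 <;> simp [Int.add_emod, Int.mul_emod, h4] at h3
    have h3 := card_sup_of_inf_eq_bot (Or.inl (nrm_of_le_C (A := zpowers (π X))
      (X := zpowers (π Y)) (by rw [C_zpowers]; exact zpowers_le.2 (mem_C1.2 xy)))) hi
    rw [Nat.card_zpowers, Nat.card_zpowers, ox, oy] at h3
    obtain ⟨r, hr⟩ := index_dvd hπ (H := closure ({X, Y} ∪ (π.ker : Set K)))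
      (fun g hg => subset_closure (Or.inr hg))
      (sup_le (zpowers_le.2 (mem_map_of_mem _ (subset_closure (Or.inl (Or.inl rfl)))))
        (zpowers_le.2 (mem_map_of_mem _ (subset_closure (Or.inl (Or.inr rfl)))))) h3 (m := 880) rfl
    rw [hr, pow_mul, hk, one_pow]

theorem alt4_of_rho {H : Type u} [Group H] [Finite H] (hc : Nat.card H = 12)
    (h3 : CfsgB0.Rho H 3) : Nonempty (H ≃* alternatingGroup (Fin 4)) := by
  have : Fact (Nat.Prime 3) := ⟨Nat.prime_three⟩
  obtain ⟨f, hf⟩ := exists_prime_orderOf_dvd_card' (G := H) 3 (by rw [hc]; norm_num)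
  have h1 := Mat.card_N_zpowers Nat.prime_three (by rw [hc]; norm_num) hf
  have h2 : Nat.card (zpowers f) = 3 := by rw [Nat.card_zpowers, hf]
  have hS : SylIn 3 (zpowers f) ⊤ := Mat.sylIn_of_card (k := 1) (m := 4) Nat.prime_three le_top
    (by rw [h2]; rfl) (by rw [card_top, hc]; rfl) (by norm_num)
  have h4 := Mat.sylIn_modEq Nat.prime_three hS
  have h5 := card_mul_relIndex (le_top (a := N (zpowers f)))
  rw [card_top, hc] at h5
  have h6 : (N (zpowers f)).relIndex ⊤ ≠ 1 := fun e =>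
    CfsgB0.ito Nat.prime_three hS (nrm_of_le_N (relIndex_eq_one.1 e)) (ab_zpowers f) h3
  have h7 := card_dvd_of_le (le_N (zpowers f))
  rw [h2] at h7
  refine NseAlt.alt4_of_card hc ?_
  rw [hc] at h1
  generalize (N (zpowers f)).relIndex ⊤ = r at *
  obtain ⟨c, hc⟩ := h7
  rw [hc] at h1 h5
  have h8 : r ≤ 4 := by
    rcases c with _ | c
    · omega
    · nlinarith
  unfold Nat.ModEq at h4
  have h9 : r = 4 := by omega
  subst h9
  have : c = 1 := by omega
  subst this
  omega

end Sec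

open Sec in
theorem prod_of_section {G : Type u} [Group G] [Finite G] (hG : Nat.card G = 95040)
    {K N : Subgroup G} [K.Normal] (hNK : N ≤ K) (hN : ∀ n ∈ N, ∀ k ∈ K, n * k = k * n)
    [(N.subgroupOf K).Normal] (hK : commutator K = ⊤) (e : (K ⧸ N.subgroupOf K) ≃* Spor.M11)
    (h33 : CfsgB0.Rho G 33) (hM : ¬ CfsgB0.Rho Spor.M11 33) :
    Nonempty (G ≃* alternatingGroup (Fin 4) × Spor.M11) := by
  let π : K →* Spor.M11 := e.toMonoidHom.comp (QuotientGroup.mk' _)
  have hπ : Function.Surjective π := e.surjective.comp (QuotientGroup.mk'_surjective _)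
  have hker : ∀ n ∈ π.ker, ∀ k, n * k = k * n := fun n hn k => by
    have h1 : e (QuotientGroup.mk n) = 1 := hn
    rw [MulEquiv.map_eq_one_iff, QuotientGroup.eq_one_iff] at h1
    exact Subtype.ext (hN n h1 k k.2)
  have h1 : Nat.card π.ker * 7920 = Nat.card K := by
    rw [← π.ker.card_mul_index, index_ker, MonoidHom.range_eq_top.2 hπ, card_top, M11.card_M11]
  have h2 : Nat.card π.ker ∣ 12 := by
    have := K.card_subgroup_dvd_card
    rw [hG, ← h1] at this
    exact Nat.dvd_of_mul_dvd_mul_right (by norm_num : 0 < 7920) this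
  have hinj : Function.Injective π := by
    rw [injective_iff_map_eq_one]
    intro n hn
    obtain ⟨h3, h4⟩ := pow55 hK hπ hker hn
    have h5 := (π.ker.orderOf_dvd_natCard (x := n) hn).trans h2
    exact orderOf_eq_one_iff.1 (Nat.eq_one_of_dvd_one (Nat.dvd_gcd (Nat.dvd_gcd
      (orderOf_dvd_of_pow_eq_one h3) (orderOf_dvd_of_pow_eq_one h4)) h5))
  let f : K ≃* Spor.M11 := MulEquiv.ofBijective π ⟨hinj, hπ⟩
  have hD : DP K (C K) ⊤ := by
    refine ⟨le_rfl, eq_bot_iff.2 fun g hg => ?_, eq_top_iff.2 fun g _ => ?_⟩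
    · have h3 := m11_complete.1 (f ⟨g, hg.1⟩) fun x => by
        obtain ⟨y, rfl⟩ := f.surjective x
        rw [← map_mul, ← map_mul]
        exact congrArg f (Subtype.ext (hg.2 y y.2).symm)
      rw [MulEquiv.map_eq_one_iff] at h3
      exact congrArg Subtype.val h3
    · obtain ⟨m, hm⟩ := m11_complete.2 (f.symm.trans ((MulAut.conjNormal g).trans f))
      obtain ⟨k, rfl⟩ := f.surjective m
      have h3 : (k : G)⁻¹ * g ∈ C K := fun y hy => by
        have h4 := hm (f ⟨y, hy⟩)
        rw [← map_inv, ← map_mul, ← map_mul] at h4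
        simp only [MulEquiv.trans_apply, MulEquiv.symm_apply_apply] at h4
        have h5 : g * y * g⁻¹ = k * y * (k : G)⁻¹ := congrArg Subtype.val (f.injective h4)
        calc y * ((k : G)⁻¹ * g) = (k : G)⁻¹ * (k * y * (k : G)⁻¹) * g := by group
          _ = _ := by rw [← h5]; group
      rw [← mul_inv_cancel_left (k : G) g]
      exact mul_mem (mem_sup_left k.2) (mem_sup_right h3)
  have hC : Nat.card (C K) = 12 := by
    have := hD.card
    rw [card_top, hG, Nat.card_congr f.toEquiv, M11.card_M11] at this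
    omega
  have h3 : CfsgB0.Rho (C K) 3 := by
    obtain ⟨_, h0, h4⟩ := h33
    obtain ⟨χ, h5, rfl⟩ := CfsgB0.mem_cd_top.1 h0
    obtain ⟨θ, φ, h6, h7, rfl⟩ := h5.exists_dprod hD
    rw [h6.char.deg_dprod h7.char hD.inf] at h4
    refine ⟨_, CfsgB0.mem_cd_sub.2 ⟨φ, h7, rfl⟩, by_contra fun h8 => hM ?_⟩
    refine CfsgB0.Rho.of_surj (H := K) ⟨_, CfsgB0.mem_cd_sub.2 ⟨θ, h6, rfl⟩, ?_⟩
      f.symm.toMonoidHom f.symm.surjective
    have h9 := h7.deg_dvd_card
    rw [hC] at h9
    refine Nat.Coprime.dvd_of_dvd_mul_right ?_ h4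
    have h10 := Nat.le_of_dvd (by norm_num) h9
    generalize deg φ = d at *
    revert h8 h9
    interval_cases d <;> decide
  obtain ⟨e1⟩ := alt4_of_rho hC h3
  obtain ⟨e2⟩ := CfsgH4.nonempty_sup_mulEquiv_prod (C K) K (disjoint_iff.2 hD.symm.inf)
    fun a ha b hb => (ha b hb).symm
  exact ⟨topEquiv.symm.trans ((MulEquiv.subgroupCongr hD.symm.sup.symm).trans
    (e2.trans (e1.prodCongr f)))⟩

end CfsgH8
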