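import Cfsg.Agent.H8.V3TIb

/-! S3424: the doubly transitive action on the Sylow `r`-subgroups. -/

set_option autoImplicit false
set_option linter.unusedSectionVars false

namespace CfsgV3

open Finset Cfsg CfsgL CfsgH5 CfsgH6 CfsgFT CfsgSZ CfsgH8 CfsgB0 CfsgU3 Subgroup MulAction

universe u

variable {q r d m : ℕ} {G : Type u} [Group G] [Finite G] {a s h : IrrCharacter G}

namespace DU

variable (D : DU G q r d m a s h)
include D

theorem phi' {g : G} (h1 : g ≠ 1) {P P' : Subgroup G} (e : Nat.card P = q ^ 3)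
    (e' : Nat.card P' = q ^ 3) (m : g ∈ P) (m' : g ∈ P') : ZZ q r a ∩ P = ZZ q r a ∩ P' := by
  by_cases f : g ∈ ZZ q r a
  · exact D.phiA f e e' m m'
  obtain ⟨j, hj⟩ := D.par.pw
  haveI := Fact.mk D.par.pr
  obtain ⟨i, -, hi⟩ := (Nat.dvd_prime_pow D.par.pr).mp
    ((D.val0 (RE.of_mem (D.pg e) m h1) f).2.trans (by rw [hj, ← pow_mul]))
  obtain ⟨T, t1, t2⟩ := D.exP' (IsPGroup.of_card hi)
  obtain ⟨y, y1, y2, y3⟩ := D.exZ e
  obtain ⟨z, z1, z2, z3⟩ := D.exZ e'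
  rw [D.phiA y1 e t2 y2 (t1 (mem_C1.mpr (mem_C1.mp (y3 m)).symm)),
    D.phiA z1 e' t2 z2 (t1 (mem_C1.mpr (mem_C1.mp (z3 m')).symm))]

theorem tiP {g : G} (h1 : g ≠ 1) {P P' : Subgroup G} (e : Nat.card P = q ^ 3)
    (e' : Nat.card P' = q ^ 3) (m : g ∈ P) (m' : g ∈ P') : P = P' := by
  have e1 := ti_dc {y | RE r y} (ZZ q r a) (Cm q)
  have e2 : ∑ᶠ x ∈ {y | RE r y}, {y ∈ ZZ q r a | Cm q x y}.ncard = _ :=
    ti_eq (m := q - 1) fun x hx => by
    obtain ⟨T, t1, t2⟩ := D.exP1 hx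
    rw [← D.kP t1]
    congr 1
    ext y
    refine ⟨fun ⟨y1, T', t3, t4, t5⟩ => ?_, fun f => ⟨f.1, T, t1, t2, f.2⟩⟩
    rw [D.phi' hx.1 t1 t3 t2 t4]
    exact ⟨y1, t5⟩
  have k : ∀ (y : G) (T : Subgroup G), Nat.card T = q ^ 3 → y ∈ T → (T \ {1} : Set G).ncard = q ^ 3 - 1 ∧
      (T \ {1} : Set G) ⊆ {x ∈ {y | RE r y} | Cm q x y} := fun y T t1 t2 =>
    ⟨by rw [Set.ncard_diff_singleton_of_mem T.one_mem, ← t1]; rfl,
      fun x hx => ⟨RE.of_mem (D.pg t1) hx.1 hx.2, T, t1, hx.1, t2⟩⟩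
  have e3 := (ti_le (A := ZZ q r a) (f := fun y => {x ∈ {y | RE r y} | Cm q x y}.ncard)
    (m := q ^ 3 - 1) fun y hy => by
      obtain ⟨T, t1, t2⟩ := D.exP1 hy.1
      rw [← (k y T t1 t2).1]
      exact Set.ncard_le_ncard (k y T t1 t2).2).2 (by rw [← e1, e2, D.cardZ.1, D.cardZ.2]; ring)
  obtain ⟨z, z1, z2, -⟩ := D.exZ e
  have z3 : z ∈ P' := ((D.phi' h1 e e' m m').le ⟨z1, z2⟩).2
  have k2 : ∀ T : Subgroup G, Nat.card T = q ^ 3 → z ∈ T → (T \ {1} : Set G) = _ := fun T t1 t2 =>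
    Set.eq_of_subset_of_ncard_le (k z T t1 t2).2 ((e3 z z1).trans (k z T t1 t2).1.symm).le
  ext x
  by_cases f : x = 1
  · simp [f]
  · simpa [f] using Set.ext_iff.mp ((k2 P e z2).trans (k2 P' e' z3).symm) x

theorem oneZ {z : G} (hz : z ∈ ZZ q r a) (e : q ^ 3 + 1 ∣ (C1 z).index) :
    (∀ z', z' ∈ ZZ q r a ↔ IsConj z z') ∧ d * Nat.card (C1 z) = q ^ 3 * (q + 1) := by
  obtain ⟨n, n1, n2⟩ := D.cZ hz
  have n3 := D.cZ_le hz n2
  have q3 := D.par.q3
  have n0 : 0 < n := Nat.pos_of_ne_zero fun f => by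
    rw [f, mul_zero] at n1; exact absurd n1 (by positivity)
  obtain rfl : d = n := by
    obtain ⟨k, hk⟩ := e
    rw [hk, D.cardZ.1, mul_left_comm, mul_left_comm n] at n2
    have n4 := Nat.eq_of_mul_eq_mul_left (Nat.succ_pos _) n2
    rcases D.par.d_cases with ⟨rfl, -⟩ | ⟨rfl, f⟩
    · omega
    · have : 3 ∣ n := ((Nat.Prime.dvd_mul Nat.prime_three).mp (Dvd.intro _ n4)).resolve_right
        (by omega)
      omega
  have c8 : {g | IsConj z g} = ZZ q r a := Set.eq_of_subset_of_ncard_le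
    (fun g hg => ZZ_conj hz hg) (by
      rw [← Nat.eq_of_mul_eq_mul_left n0 n2, ← card_isConj_eq]; rfl)
  exact ⟨fun z' => by rw [← c8]; rfl, by rw [mul_comm, n1]⟩

theorem inv_s (hr : r ≠ 2) {t : G} (ht : orderOf t = 2) : iv t s = q := by
  have e1 : ¬ TT m t := fun f =>
    Nat.not_even_iff_odd.mpr D.par.m_odd (even_iff_two_dvd.mpr (ht ▸ orderOf_dvd_of_pow_eq_one f.2))
  have e0 : ¬ RE r t := fun f =>
    hr ((Nat.prime_dvd_prime_iff_eq D.par.pr Nat.prime_two).mp (ht ▸ (D.re_dvd f).1))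
  have e2 := D.nre_val (fun f => by simp [f] at ht) e1 e0
  have e3 := D.nre_h (fun f => by simp [f] at ht) e1 e0
  have e4 := D.inv t ht
  rw [sc, e3, show iv t a = 1 - iv t s by omega, D.par.ti_ord] at e4
  generalize iv t s = x at e4
  push_cast [D.par.ti_cast] at e4
  have q3 : (3 : ℤ) ≤ q := by exact_mod_cast D.par.q3
  have m7 : (7 : ℤ) ≤ m := by exact_mod_cast D.par.seven
  have : (m * (q + 1) ^ 2 : ℤ) * ((x - q) * ((q ^ 2 + q - 1) * (x + q - 2) + (2 * q - 2))) = 0 := by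
    linear_combination -e4
  rcases mul_eq_zero.mp ((mul_eq_zero.mp this).resolve_left (by positivity)) with f | f
  · omega
  · rcases le_or_gt 0 (x + q - 2) with f' | f' <;> nlinarith

theorem cen3 (hd : d = 3) {g : G} (hg : orderOf g = 3) (e : iv g s = -1) :
    Nat.card (C1 g) ≤ (q + 1) ^ 2 := by
  have g1 : g ≠ 1 := fun f => by simp [f] at hg
  have e1 : ¬ TT m g := fun f => D.par.not_three (hg ▸ orderOf_dvd_of_pow_eq_one f.2)
  have e0 : ¬ RE r g := fun f => D.par.r_ne hd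
    ((Nat.prime_dvd_prime_iff_eq D.par.pr Nat.prime_three).mp (hg ▸ (D.re_dvd f).1))
  have e2 : iv g a = 2 := by have := D.nre_val g1 e1 e0; omega
  obtain ⟨k, hk⟩ := D.str g g e1 e1
  rw [sc, e, e2, D.nre_h g1 e1 e0, D.par.ti_ord] at hk
  have e3 := D.cls_dvd g1 e1 (χ := s) (by simp) (n := (q - 1) * (q + 1) ^ 2) (by
    rw [D.deg.2.1, ord]; ring)
  have e4 := D.cls_dvd g1 e1 (χ := a) (by simp) (n := q ^ 2 * (q + 1) ^ 2) (by
    rw [D.deg.1, ord]; ring)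
  rw [e, mul_neg, mul_one, dvd_neg, Int.natCast_dvd_natCast] at e3
  replace e4 : Nat.card (C1 g) ∣ q ^ 2 * ((q + 1) ^ 2 * 2) := by
    rw [e2] at e4
    rw [← mul_assoc]
    exact_mod_cast e4
  obtain ⟨j, hj⟩ := D.par.pw
  have e5 : (Nat.card (C1 g)).Coprime (q ^ 2) := by
    rw [hj]
    exact (((Nat.Prime.coprime_iff_not_dvd D.par.pr).mpr fun f =>
      D.par.not_dvd_r ((f.trans e3).mul_left _)).symm.pow_right _).pow_right _
  obtain ⟨l, hl⟩ := e5.dvd_of_dvd_mul_left e4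
  rcases l with _ | _ | l
  · exact absurd hl (by positivity)
  swap
  · nlinarith
  exfalso
  rw [zero_add, mul_one] at hl
  have e6 := (Nat.isCoprime_iff_coprime.mpr (D.cp g g1 e1)).mul_left
    (Nat.isCoprime_iff_coprime.mpr (D.cp g g1 e1))
  have e7 : (Nat.card (C1 g) : ℤ) * Nat.card (C1 g) ∣ (q + 1) ^ 4 * (q ^ 2 - 3 * q + 1) :=
    e6.dvd_of_dvd_mul_left ⟨k, by
      push_cast [D.par.ti_cast] at hk
      linear_combination -hk⟩
  rw [← hl, show (((q + 1) ^ 2 * 2 : ℕ) : ℤ) * ((q + 1) ^ 2 * 2 : ℕ) = (q + 1) ^ 4 * 4 by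
    push_cast; ring] at e7
  obtain ⟨u, hu⟩ := Int.dvd_of_mul_dvd_mul_left (by positivity) e7
  obtain ⟨v, hv⟩ := Int.even_mul_succ_self (q : ℤ)
  have : (1 : ℤ) = 4 * u + 4 * q - (v + v) := by linear_combination hu - hv
  omega

theorem ti : ∃ (Ω : Type u) (_ : MulAction G Ω) (Q : Ω → Subgroup G)
    (Zs : Set G), TI G Ω q r d m Q Zs := by
  have b7 := D.par.q3
  haveI := Fact.mk D.par.pr
  have cQ : ∀ P : Sylow r G, Nat.card P = q ^ 3 := fun P => by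
    obtain ⟨T, t1, t2⟩ := D.exP' P.isPGroup'
    rw [← t2, P.is_maximal' (D.pg t2) t1]
  have fix : ∀ P : Sylow r G, ∀ x ∈ (P : Subgroup G), x • P = P := fun P x hx =>
    Sylow.smul_eq_iff_mem_normalizer.mpr (le_normalizer hx)
  have reg : ∀ P : Sylow r G, ∀ x ∈ (P : Subgroup G), ∀ o, o ≠ P → x • o = o → x = 1 :=
    fun P x hx o ne e => by
      by_contra f
      refine ne (Sylow.ext (D.tiP f (cQ o) (cQ P) ?_ hx))
      have := (RE.of_mem P.isPGroup' hx f).isPGroup.inf_normalizer_sylow o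
      exact (this.le ⟨mem_zpowers x, Sylow.smul_eq_iff_mem_normalizer.mp e⟩).2
  have cj : ∀ (g : G) (P : Sylow r G), ∀ x ∈ (P : Subgroup G), g * x * g⁻¹ ∈ (g • P : Sylow r G) :=
    fun g P x hx => smul_mem_pointwise_smul x (MulAut.conj g) _ hx
  have cΩ : Nat.card (Sylow r G) = q ^ 3 + 1 := by
    have e1 := ti_dc (ZZ q r a) (Set.univ : Set (Sylow r G)) fun z P => z ∈ (P : Subgroup G)
    rw [ti_eq (m := 1) fun z hz => by
      obtain ⟨P, hP⟩ := hz.1.isPGroup.exists_le_sylow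
      exact Set.ncard_eq_one.mpr ⟨P, Set.eq_singleton_iff_unique_mem.mpr ⟨⟨trivial, hP (mem_zpowers z)⟩,
        fun P' f => Sylow.ext (D.tiP hz.1.1 (cQ _) (cQ _) f.2 (hP (mem_zpowers z)))⟩⟩,
      ti_eq (m := q - 1) (f := fun P : Sylow r G => {x ∈ ZZ q r a | x ∈ (P : Subgroup G)}.ncard)
        fun P _ => D.kP (cQ P), D.cardZ.1, mul_one, Set.ncard_univ] at e1
    exact (Nat.eq_of_mul_eq_mul_right (by omega) e1).symm
  have oZ : ∀ z ∈ ZZ q r a, q ^ 3 + 1 ∣ (C1 z).index := fun z hz => by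
    obtain ⟨P, hP⟩ := hz.1.isPGroup.exists_le_sylow
    rw [← cΩ, ← index_stabilizer_of_transitive G P]
    refine index_dvd_of_le fun g hg => Sylow.ext (D.tiP hz.1.1 (cQ _) (cQ _) ?_ (hP (mem_zpowers z)))
    have := cj g P z (hP (mem_zpowers z))
    rwa [mem_C1_iff_conj.mp hg] at this
  haveI : Nontrivial (Sylow r G) := Finite.one_lt_card_iff_nontrivial.mp (by
    rw [cΩ]; exact Nat.lt_add_of_pos_left (by positivity))
  obtain ⟨i, o, ne⟩ := exists_pair_ne (Sylow r G)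
  have e1 := ti_irr ne (exists_smul_eq G i) fun c d f => by
    obtain ⟨g, rfl⟩ := exists_smul_eq G i c
    obtain ⟨x, x1, x2⟩ := ti_tr ne.symm (cΩ.trans (by rw [cQ i])) (fix i)
      (fun x hx => reg i x hx o ne.symm) (w := g⁻¹ • d) fun e => f (by rw [← e, smul_inv_smul])
    exact ⟨g * x, by rw [mul_smul, fix i x x1], by rw [mul_smul, x2, smul_inv_smul]⟩
  have e2 : ∀ t : G, (Nat.card (fixedBy (Sylow r G) t) : ℤ) - 1 = iv t s := fun t => by
    have : (Nat.card (fixedBy (Sylow r G) t) : ℂ) - 1 = s.1 t :=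
      congrFun (congrArg Subtype.val (D.uniq ⟨_, e1⟩ (dg_eq (by simp [cΩ])))) t
    rw [D.val_s] at this
    exact Int.cast_injective (α := ℂ) (by push_cast; exact this)
  refine ⟨Sylow r G, inferInstance, fun P => P, ZZ q r a, D.par, D.card, cΩ, cQ,
    cj, fix, reg, fun i o => exists_smul_eq G i o, fun f => f.1.1 rfl,
    fun z hz => (D.oneZ hz (oZ z hz)).1, fun z hz => (D.oneZ hz (oZ z hz)).2, fun P => D.kP (cQ P),
    fun P x hx h1 f => (D.val0 (RE.of_mem P.isPGroup' hx h1) f).2,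
    fun P R l e => (D.eqZ P.isPGroup' l e).ge.trans Set.inter_subset_right, fun hr t ht => ?_,
    fun hd g hg f => D.cen3 hd hg ?_⟩
  · have := e2 t
    rw [D.inv_s hr ht, sub_eq_iff_eq_add] at this
    exact_mod_cast this
  · rw [← e2, show fixedBy (Sylow r G) g = ∅ from Set.eq_empty_of_forall_notMem f]
    simp

end DU

end CfsgV3
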