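import Cfsg.Agent.H7.W3Par
import Cfsg.Agent.H8.MatLocA

/-! S3422, piece (PR): the case `q` prime. -/

set_option autoImplicit false
set_option linter.unusedSectionVars false

namespace CfsgW3

open Cfsg CfsgH5 CfsgH6 CfsgFT Subgroup
open CfsgU3 (RE)

universe u

variable {r d m e : ℕ} {G : Type u} [Group G] [Finite G] {Zs : Set G}

theorem pr_le (hr : r.Prime) {X P : Subgroup G} (hP : Nat.card P = r ^ 3) (h : X ≤ P) (h1 : X ≠ P) :
    Nat.card X ∣ r ^ 2 := by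
  obtain ⟨j, hj, e⟩ := (Nat.dvd_prime_pow hr).mp (hP ▸ card_dvd_of_le h)
  have : j ≠ 3 := fun f => h1 (eq_of_le_of_card_eq h (by rw [e, f, hP]))
  rw [e]
  exact pow_dvd_pow r (by omega)

theorem pr_cls (hr : r.Prime) {P : Subgroup G} (hP : Nat.card P = r ^ 3) (hZ : Nat.card (Z P) = r)
    {w z : G} (hw : w ∈ P) (hw' : w ∉ Z P) (hz : z ∈ Z P) : ∃ g ∈ P, g * w * g⁻¹ = w * z := by
  haveI := Fact.mk hr
  haveI : ((Z P).subgroupOf P).Normal := (nrm_of_le_C (le_C_comm.mp (Z_le_C P))).normal_subgroupOf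
  have e1 : Nat.card (P ⧸ (Z P).subgroupOf P) = r ^ 2 :=
    relIndex_eq_of_mul (Z_le P) (by rw [hZ, hP]; ring)
  have e2 := IsPGroup.isMulCommutative_of_card_eq_prime_sq e1
  have sub : {y | ∃ g ∈ P, g * w * g⁻¹ = y} ⊆ (w * ·) '' (Z P : Set G) := by
    rintro _ ⟨g, hg, rfl⟩
    refine ⟨w⁻¹ * (g * w * g⁻¹), ?_, by simp⟩
    have : ((⟨w, hw⟩ : P) : P ⧸ (Z P).subgroupOf P) = (⟨g, hg⟩ * ⟨w, hw⟩ * ⟨g, hg⟩⁻¹ : P) := by
      rw [QuotientGroup.mk_mul, QuotientGroup.mk_mul, e2.is_comm.comm (QuotientGroup.mk ⟨g, hg⟩),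
        QuotientGroup.mk_inv, mul_inv_cancel_right]
    exact mem_subgroupOf.mp (QuotientGroup.eq.mp this)
  have e3 := CfsgU3.ti_cls P w
  have e4 := Nat.le_of_dvd (pow_pos hr.pos 2) (pr_le hr hP (inf_le_right (a := C1 w)) fun f =>
    hw' ⟨hw, fun x hx => mem_C1.mp (f.ge hx).1⟩)
  have e5 := Set.eq_of_subset_of_ncard_le sub (by
    rw [Set.ncard_image_of_injective _ (mul_right_injective w), ← Nat.card_coe_set_eq]
    change Nat.card (Z P) ≤ _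
    rw [hZ]
    refine Nat.le_of_mul_le_mul_left ?_ (pow_pos hr.pos 2)
    rw [← pow_succ, ← hP, ← e3]
    exact Nat.mul_le_mul_right _ e4)
  exact (e5.ge ⟨z, hz, rfl⟩ : w * z ∈ {y | ∃ g ∈ P, g * w * g⁻¹ = y})

namespace VZ

variable (V : VZ G r r d m e Zs)
include V

theorem pr_clo (h3 : 3 ≤ r) {z : G} (hz : z ∈ Zs) :
    ∃ P : Subgroup G, Nat.card P = r ^ 3 ∧ P ≤ C1 z ∧ ∀ x ∈ C1 z, RE r x → x ∈ P := by
  have hr := V.par.pr
  obtain ⟨n, n1, n2⟩ := V.cz z hz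
  have n0 : n ≠ 0 := by
    rintro rfl
    exact (Nat.mul_pos (by positivity) (by omega : 0 < r - 1)).ne' n2.symm
  have n3 : ¬ r ∣ n := fun f => by
    have := Nat.le_of_dvd (Nat.pos_of_ne_zero n0) f
    have := V.par.d_le
    exact V.par.r_ne (by omega) (by omega)
  obtain ⟨c, hc⟩ : r ^ 3 ∣ Nat.card (C1 z) :=
    (((Nat.Prime.coprime_iff_not_dvd hr).mpr n3).pow_left 3).dvd_of_dvd_mul_right
      (n2 ▸ dvd_mul_right _ _)
  have c1 : c ∣ r - 1 := ⟨n, Nat.eq_of_mul_eq_mul_left (pow_pos hr.pos 3) (by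
    rw [← n2, hc, mul_assoc])⟩
  obtain ⟨S, hS⟩ := exists_sylIn r (C1 z)
  have s1 := CfsgH8.Mat.card_of_sylIn hr hS hc fun f => V.par.not_dvd_pred (f.trans c1)
  have s2 := CfsgH8.Mat.sylIn_modEq hr hS
  have s3 : (N S).relIndex (C1 z) ≤ r - 1 := Nat.le_of_dvd (by omega)
    ((relIndex_dvd_of_le_left _ (le_N S)).trans
      (relIndex_eq_of_mul hS.le (by rw [s1, hc]) ▸ c1))
  have s4 : (N S).relIndex (C1 z) = 1 := Nat.ModEq.eq_of_lt_of_lt s2 (by omega) (by omega)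
  rw [relIndex_eq_one] at s4
  exact ⟨S, s1, hS.le, fun x hx f => hS.le_of_nrm' hr (zpowers_le.mpr hx) f.isPGroup
    (nrm_iff.mpr ((zpowers_le.mpr hx).trans s4)) (mem_zpowers x)⟩

theorem fl (h3 : 3 ≤ r) : ∃ E, FL G r r Zs E := by
  have hr := V.par.pr
  haveI := Fact.mk hr
  suffices ∃ E : Subgroup G, Nat.card E = r ^ 2 ∧ ∀ x ∈ E, x ≠ 1 → x ∈ Zs by
    obtain ⟨E, a, b⟩ := this
    exact ⟨E, fun _ hz => V.pr_clo h3 hz, a, ab_of_card_dvd_sq hr a.dvd, b⟩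
  obtain ⟨P, hS⟩ := exists_sylIn r (⊤ : Subgroup G)
  have hP : Nat.card P = r ^ 3 := CfsgH8.Mat.card_of_sylIn hr hS
    (by rw [card_top, V.card, ord, mul_assoc]) V.par.not_dvd_r
  have hZ : ∀ x ∈ Z P, x ≠ 1 → x ∈ Zs := fun x hx x1 => by
    by_contra f
    have := Nat.le_of_dvd (by positivity) ((hP ▸ card_dvd_of_le (show P ≤ C1 x from
      fun g hg => mem_C1.mpr (hx.2 g hg))).trans
      (V.cu x (RE.of_mem hS.isPGroup hx.1 x1) f))
    exact absurd this (not_le.mpr (Nat.pow_lt_pow_right (by omega) (by omega)))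
  have cnt : ∀ X : Subgroup G, (∀ x ∈ X, x ≠ 1 → x ∈ Zs) → (Zs ∩ X).ncard + 1 = Nat.card X :=
    fun X hX => by
      rw [← CfsgH8.Mat.card_ne_one X, ← Nat.card_coe_set_eq]
      congr 1
      exact Nat.card_congr (Equiv.subtypeEquivRight fun x =>
        ⟨fun a => ⟨a.2, (V.Zr x a.1).1⟩, fun a => ⟨hX x a.1 a.2, a.1⟩⟩)
  have nab : Z P ≠ P := fun f => by
    have a := V.res2 P hS.isPGroup
    have b := cnt P (f ▸ hZ)
    rw [hP] at a b
    have c : r * (Zs ∩ P).ncard + r = r * r ^ 3 := by rw [← b]; ring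
    nlinarith [Nat.mul_le_mul_right (r ^ 3) h3, Nat.zero_le (r ^ 2), pow_pos hr.pos 3]
  obtain ⟨j, hj, c1⟩ := (Nat.dvd_prime_pow hr).mp (pr_le hr hP (Z_le P) nab)
  have z1 : Z P ≠ ⊥ := Z_ne_bot_of_nilpotent hS.isPGroup.isNilpotent (by
    rintro rfl
    rw [card_bot] at hP
    exact (Nat.one_lt_pow (by norm_num) hr.one_lt).ne hP)
  interval_cases j
  · exact absurd (card_eq_one.mp c1) z1
  swap
  · exact ⟨_, c1, hZ⟩
  rw [pow_one] at c1
  obtain ⟨y, y1, y2, y3⟩ : ∃ y ∈ Zs, y ∈ P ∧ y ∉ Z P := by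
    by_contra! f
    have a := V.res P hS.isPGroup
    have b := cnt _ hZ
    rw [show Zs ∩ (P : Set G) = Zs ∩ (Z P : Set G) from
      Set.ext fun x => ⟨fun c => ⟨c.1, f x c.1 c.2⟩, fun c => ⟨c.1, c.2.1⟩⟩, hP] at a
    rw [c1] at b
    have c : r ^ 2 + r + r * (Zs ∩ (Z P : Set G)).ncard = r ^ 2 * 2 := by
      generalize (Zs ∩ (Z P : Set G)).ncard = k at b
      subst b; ring
    rw [c, pow_succ] at a
    have := Nat.le_of_dvd (by norm_num) (Nat.dvd_of_mul_dvd_mul_left (pow_pos hr.pos 2) a)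
    omega
  have hn : Nrm (zpowers y) (Z P) :=
    nrm_of_le_C ((zpowers_le.mpr y2).trans (le_C_comm.mp (Z_le_C P)))
  have le : Z P ⊔ zpowers y ≤ P := sup_le (Z_le P) (zpowers_le.mpr y2)
  have ab : Z P ⊔ zpowers y ≤ C (Z P ⊔ zpowers y) := fun a ha b hb => by
    obtain ⟨a1, h1, _, ⟨i, rfl⟩, rfl⟩ := (mem_sup_nrm' hn).mp ha
    obtain ⟨b1, h2, _, ⟨k, rfl⟩, rfl⟩ := (mem_sup_nrm' hn).mp hb
    have e1 : Commute b1 a1 := h1.2 b1 h2.1
    have e2 : Commute y a1 := h1.2 y y2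
    have e3 : Commute y b1 := h2.2 y y2
    exact ((e1.mul_right (e3.symm.zpow_right i)).mul_left
      ((e2.zpow_left k).mul_right (Commute.zpow_zpow_self y k i))).eq
  obtain ⟨j, hj, c2⟩ := (Nat.dvd_prime_pow hr).mp (pr_le hr hP le fun f =>
    nab (le_antisymm (Z_le P) (le_inf le_rfl (f ▸ ab))))
  have c3 : Nat.card ↥(Z P ⊔ zpowers y) = r ^ 2 := by
    by_contra f
    have : Nat.card ↥(Z P ⊔ zpowers y) ≤ Nat.card (Z P) := by
      rw [c2, c1]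
      calc r ^ j ≤ r ^ 1 := Nat.pow_le_pow_right hr.pos (by
            by_contra g; exact f (by rw [c2, show j = 2 by omega]))
        _ = r := pow_one r
    exact y3 ((eq_of_le_of_card_le le_sup_left this).ge (mem_sup_right (mem_zpowers y)))
  have yr : y ^ r ∈ Z P := by
    haveI : ((Z P).subgroupOf (Z P ⊔ zpowers y)).Normal :=
      (nrm_of_le_C (le.trans (le_C_comm.mp (Z_le_C P)))).normal_subgroupOf
    have := pow_index_mem ((Z P).subgroupOf (Z P ⊔ zpowers y)) ⟨y, mem_sup_right (mem_zpowers y)⟩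
    have e : ((Z P).subgroupOf (Z P ⊔ zpowers y)).index = r :=
      relIndex_eq_of_mul le_sup_left (by rw [c1, c3]; ring)
    rw [e] at this
    exact this
  refine ⟨_, c3, fun x hx x1 => ?_⟩
  obtain ⟨a, ha, b, hb, rfl⟩ := (mem_sup_nrm' hn).mp hx
  by_cases f : b ∈ Z P
  · exact hZ _ (mul_mem ha f) x1
  obtain ⟨i, rfl⟩ := mem_powers_iff_mem_zpowers.mpr hb
  obtain ⟨g, -, hg⟩ := pr_cls hr hP c1 (pow_mem y2 i) f ha
  rw [← ha.2 _ (pow_mem y2 i), ← hg]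
  refine V.Zcj _ (V.Zpow y y1 i ?_) g
  rintro ⟨k, rfl⟩
  exact f (by simp only; rw [pow_mul]; exact pow_mem yr k)

end VZ

end CfsgW3
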