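import Cfsg.Agent.H8.W3Valb
import Cfsg.Agent.H6.Derang
import Cfsg.Agent.H2.TICount

/-! S3422, piece (Val): actions of degree `q² + q + 1`. -/

set_option autoImplicit false
set_option linter.unusedSectionVars false

namespace CfsgW3

open Finset Cfsg CfsgL CfsgH5 CfsgH6 CfsgFT CfsgSZ CfsgH8 CfsgB0 Subgroup MulAction
open CfsgV3 (TT)
open CfsgU3 (RE)
open scoped ComplexConjugate

universe u

variable {q r d m e₀ : ℕ} {G : Type u} [Group G] [Finite G] {a s h : IrrCharacter G}

theorem vl_sub [Fintype G] {Θ χ : G → ℂ} (hΘ : IsCharacter G Θ) (hχ : IsIrrCharacter G χ)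
    (h : classInner Θ χ ≠ 0) : IsCharacter G (Θ - χ) := by
  apply char_of_inner_nat (class_sub (char_isClass hΘ) (char_isClass (irr_isChar hχ)))
  intro ψ hψ
  obtain ⟨n, hn⟩ := char_inner_irr_nat hΘ hψ
  by_cases e : χ = ψ
  · subst e
    rw [hn] at h
    obtain ⟨m, rfl⟩ := Nat.exists_eq_succ_of_ne_zero (n := n) (by rintro rfl; simp at h)
    exact ⟨m, by rw [CfsgL.inner_sub_left, hn, inner_irr_self hχ]; simp⟩
  · exact ⟨n, by rw [CfsgL.inner_sub_left, hn, inner_irr_ne hχ hψ e, sub_zero]⟩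

namespace DL

variable (D : DL G q r d m e₀ a s h)
include D

theorem fix_TT {X : Type u} [MulAction G X] (hX : Nat.card X = q ^ 2 + q + 1)
    (ht : IsPretransitive G X) {g : G} (e : TT m g) : Nat.card (fixedBy X g) = 0 := by
  rw [Nat.card_eq_zero]
  refine Or.inl ⟨fun x => e.1 (orderOf_eq_one_iff.mp ?_)⟩
  have e1 := card_mul_index (stabilizer G x.1)
  rw [index_stabilizer_of_transitive, hX, D.card, ← D.par.hm, ord] at e1
  have e2 : Nat.card (stabilizer G x.1) * d = q ^ 3 * ((q - 1) ^ 2 * (q + 1)) :=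
    Nat.eq_of_mul_eq_mul_right (by have := D.par.seven; omega : 0 < m) (by linear_combination e1)
  exact Nat.eq_one_of_dvd_coprimes D.par.cop (orderOf_dvd_of_pow_eq_one e.2)
    (e2 ▸ (orderOf_dvd_natCard _ x.2).mul_right d)

theorem perm_eq (h3 : 3 ≤ q) {X : Type u} [MulAction G X] (hX : Nat.card X = q ^ 2 + q + 1)
    (ht : IsPretransitive G X) (g : G) : (Nat.card (fixedBy X g) : ℤ) = 1 + iv g a := by
  classical
  letI := Fintype.ofFinite G
  haveI : Finite X := Nat.finite_of_card_ne_zero (by omega)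
  haveI : Nonempty X := (Nat.card_pos_iff.mp (by omega)).1
  set π : G → ℂ := fun g => (Nat.card (fixedBy X g) : ℂ) with hπ
  have cπ : IsCharacter G π := char_perm X
  have π1 : π 1 = (q ^ 2 + q + 1 : ℕ) := by
    simp only [hπ]
    rw [fixedBy_one_eq_univ, Nat.card_congr (Equiv.Set.univ X), hX]
  have i1 : classInner π (fun _ => 1) = 1 := by
    have := burnside_nat (G := G) (Ω := X)
    rw [card_orbit_quotient_eq_one ht, one_mul] at this
    simp only [classInner, hπ, map_one, mul_one, ← Nat.cast_sum, this]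
    exact inv_mul_cancel₀ card_ne_zero'
  have c1 := vl_sub cπ irr_one (by rw [i1]; exact one_ne_zero)
  have i2 : classInner π ((fun _ => 1) + s.1 - a.1 - h.1) = 0 := by
    unfold classInner
    rw [sum_eq_zero, mul_zero]
    intro g _
    by_cases e : TT m g
    · simp only [hπ, D.fix_TT hX ht e]; simp
    · have e1 : (1 : ℂ) + iv g s = iv g a + iv g h := by exact_mod_cast D.rel g e
      simp only [Pi.sub_apply, Pi.add_apply, D.val_a g, D.val_s g, D.int h (by simp) g e, e1]
      simp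
  have hne : h.1 ≠ fun _ => 1 := fun e => by
    have := dg_cast h
    rw [e, D.deg.2.2] at this
    beta_reduce at this
    have : 1 = (q - 1) ^ 2 * (q + 1) := by exact_mod_cast this
    have := Nat.eq_one_of_mul_eq_one_left this.symm
    omega
  have i3 : classInner π h.1 = 0 := by
    by_contra e
    obtain ⟨n, hn⟩ := char_deg_nat (vl_sub c1 h.2 (by
      rwa [CfsgL.inner_sub_left, inner_irr_ne irr_one h.2 hne.symm, sub_zero]))
    simp only [Pi.sub_apply, π1, dg_cast, D.deg.2.2] at hn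
    have e1 : ((q ^ 2 + q + 1 : ℕ) : ℤ) - 1 - ((q - 1) ^ 2 * (q + 1) : ℕ) = n := by exact_mod_cast hn
    rw [D.par.cast_c0] at e1
    push_cast at e1
    have q3 : (3 : ℤ) ≤ q := by exact_mod_cast h3
    nlinarith [Int.natCast_nonneg n, mul_pos (by linarith : (0 : ℤ) < q + 1)
      (by nlinarith : (0 : ℤ) < (q - 1) ^ 2 - q)]
  have ane : a.1 ≠ fun _ => 1 := fun e => D.ne_chars.1 (Subtype.ext e)
  have i4 : classInner π a.1 ≠ 0 := fun e => by
    obtain ⟨n, hn⟩ := char_inner_irr_nat cπ s.2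
    rw [CfsgL.inner_sub_right, CfsgL.inner_sub_right, CfsgL.inner_add_right, i1, i3, e, hn] at i2
    have : (1 : ℤ) + n - 0 - 0 = 0 := by exact_mod_cast i2
    omega
  have c2 := char_eq_zero_of_deg (vl_sub c1 a.2 (by
    rwa [CfsgL.inner_sub_left, inner_irr_ne irr_one a.2 ane.symm, sub_zero])) (by
    simp only [Pi.sub_apply, π1, dg_cast, D.deg.1]; push_cast; ring)
  have := congrFun c2 g
  simp only [Pi.sub_apply, hπ, D.val_a g, Pi.zero_apply] at this
  have e : ((Nat.card (fixedBy X g) : ℤ) : ℂ) = ((1 + iv g a : ℤ) : ℂ) := by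
    push_cast; linear_combination this
  exact_mod_cast e

theorem two (h3 : 3 ≤ q) : Two G q := by
  intro X _ hX tr x y z w hxy hzw
  classical
  letI := Fintype.ofFinite G
  haveI : Finite X := Nat.finite_of_card_ne_zero (by omega)
  have ht : IsPretransitive G X := ⟨tr⟩
  have t : ∀ g, (triv G).1 g = iv g (triv G) := fun g => by simp [iv_triv]
  have e1 := (sum_iv_mul D.val_a t).2 D.ne_chars.1
  have e4 := (sum_iv_mul D.val_a D.val_a).1 rfl
  simp only [iv_triv, mul_one] at e1
  have e2 := congrArg (Nat.cast : ℕ → ℤ) (burnside_nat (G := G) (Ω := Fin 2 ↪ X))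
  have e3 : ∀ g : G, (Nat.card (fixedBy (Fin 2 ↪ X) g) : ℤ) = iv g a * iv g a + iv g a := fun g => by
    have := D.perm_eq h3 hX ht g
    rw [CfsgH2.card_fixedBy_embedding]
    generalize Nat.card (fixedBy X g) = n at this
    rw [show iv g a = n - 1 by omega]
    rcases n with _ | n
    · simp
    · simp [Nat.descFactorial]; ring
  rw [Nat.cast_sum, sum_congr rfl fun g _ => e3 g, sum_add_distrib, e1, e4, add_zero] at e2
  have e5 : Nat.card (orbitRel.Quotient G (Fin 2 ↪ X)) ≤ 1 :=
    Nat.le_of_mul_le_mul_right (by rw [one_mul]; exact_mod_cast e2.ge) (Nat.card_pos (α := G))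
  have inj : ∀ {x y : X}, x ≠ y → Function.Injective ![x, y] := fun e i j f => by
    fin_cases i <;> fin_cases j <;> simp_all
  obtain ⟨g, hg⟩ := (isPretransitive_of_card_orbit_le_one e5).exists_smul_eq
    ⟨_, inj hxy⟩ ⟨_, inj hzw⟩
  exact ⟨g, DFunLike.congr_fun hg 0, DFunLike.congr_fun hg 1⟩

end DL

end CfsgW3
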