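import Cfsg.Agent.H8.Aff

set_option autoImplicit false

/-! The non-abelian group of order `27` and exponent three inside an arbitrary group. -/

namespace CfsgH8

open Subgroup

variable {G : Type*} [Group G]

/-- `S` is extraspecial of order `27` and exponent three with centre generated by `z` -/
structure Hs (S : Subgroup G) (z : G) : Prop where
  card : Nat.card S = 27
  cube : ∀ s ∈ S, s ^ 3 = 1
  zS : z ∈ S
  z1 : z ≠ 1
  zc : ∀ s ∈ S, s * z = z * s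
  cen : ∀ c ∈ S, (∀ s ∈ S, s * c = c * s) → c ∈ zpowers z
  comm : ∀ a ∈ S, ∀ b ∈ S, a * b * a⁻¹ * b⁻¹ ∈ zpowers z

theorem exists_hs {S : Subgroup G} (h1 : Nat.card S = 27) (h2 : ∀ s ∈ S, s ^ 3 = 1)
    (h3 : ¬ ∀ a ∈ S, ∀ b ∈ S, a * b = b * a) : ∃ z, Hs S z := by
  haveI : Fact (Nat.Prime 3) := ⟨Nat.prime_three⟩
  have : Finite S := Nat.finite_of_card_ne_zero (by omega)
  obtain ⟨k, h4, h5⟩ := IsPGroup.card_center_eq_prime_pow (p := 3) (n := 3) h1 (by norm_num)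
  have h6 := (center S).card_mul_index
  rw [h1, h5] at h6
  have h7 : k ≤ 3 := (Nat.pow_dvd_pow_iff_le_right (by norm_num)).1
    (show 3 ^ k ∣ 3 ^ 3 from ⟨_, h6.symm⟩)
  have h8 : ¬ IsCyclic (S ⧸ center S) := fun e => h3 fun a ha b hb => congrArg Subtype.val
    (commutative_of_cyclic_center_quotient (QuotientGroup.mk' (center S))
      (by rw [QuotientGroup.ker_mk']) ⟨a, ha⟩ ⟨b, hb⟩)
  interval_cases k
  · obtain ⟨z, hz⟩ := exists_prime_orderOf_dvd_card' (G := center S) 3 (by rw [h5]; rfl)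
    have h9 : zpowers z = ⊤ := eq_top_of_card_eq _ (by rw [Nat.card_zpowers, hz, h5]; rfl)
    have h10 : ∀ c : S, c ∈ center S → c.1 ∈ zpowers z.1.1 := fun c hc => by
      obtain ⟨i, hi⟩ := mem_zpowers_iff.1 (h9.ge (mem_top ⟨c, hc⟩))
      exact ⟨i, congrArg (fun y : center S => y.1.1) hi⟩
    refine ⟨z.1.1, h1, h2, z.1.2, fun e => ?_, fun s hs => congrArg Subtype.val
      (mem_center_iff.1 z.2 ⟨s, hs⟩), fun c hc h => h10 ⟨c, hc⟩
      (mem_center_iff.2 fun s => Subtype.ext (h s s.2)), fun a ha b hb => ?_⟩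
    · rw [show z = 1 from Subtype.ext (Subtype.ext e), orderOf_one] at hz
      omega
    · refine h10 (⟨a, ha⟩ * ⟨b, hb⟩ * ⟨a, ha⟩⁻¹ * ⟨b, hb⟩⁻¹) ((QuotientGroup.eq_one_iff _).1 ?_)
      have := IsPGroup.commutative_of_card_eq_prime_sq (p := 3) (G := S ⧸ center S)
        (show (center S).index = 3 ^ 2 by omega) (⟨a, ha⟩ : S) (⟨b, hb⟩ : S)
      rw [QuotientGroup.mk_mul, QuotientGroup.mk_mul, QuotientGroup.mk_mul, this]
      simp
  · exact absurd (isCyclic_of_prime_card (p := 3) (show (center S).index = 3 by omega)) h8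
  · haveI : Subsingleton (S ⧸ center S) := (Nat.card_eq_one_iff_unique.1
      (show (center S).index = 1 by omega)).1
    exact absurd isCyclic_of_subsingleton h8

namespace Hs

variable {S : Subgroup G} {z : G} (h : Hs S z)
include h

theorem z3 : z ^ 3 = 1 := h.cube z h.zS

theorem zle : zpowers z ≤ S := zpowers_le.2 h.zS

theorem card_z : Nat.card (zpowers z) = 3 := by
  rw [Nat.card_zpowers, orderOf_eq_prime (hp := ⟨Nat.prime_three⟩) h.z3 h.z1]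

theorem comm_z {c s : G} (hc : c ∈ zpowers z) (hs : s ∈ S) : s * c = c * s := by
  obtain ⟨i, rfl⟩ := mem_zpowers_iff.1 hc
  exact Commute.zpow_right (h.zc s hs) i

theorem mem_of_sq {s : G} (hs : s ∈ S) {K : Subgroup G} (h1 : s * s ∈ K) : s ∈ K := by
  have := inv_mem h1
  rwa [← eq_inv_of_mul_eq_one_right (show s * s * s = 1 by rw [← h.cube s hs, pow_succ, pow_two])]
    at this

theorem eq_one {s : G} (hs : s ∈ S) (h1 : s = s⁻¹) : s = 1 :=
  mem_bot.1 (h.mem_of_sq hs (mem_bot.2 (mul_eq_one_iff_eq_inv.2 h1)))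

theorem bas' {T : Subgroup G} (h1 : T ≤ S) (h2 : T ≠ S) (hz : z ∈ T) {a : G} (ha : a ∈ T)
    (ha' : a ∉ zpowers z) : Bas T z a := by
  haveI : Fact (Nat.Prime 3) := ⟨Nat.prime_three⟩
  have : Finite S := Nat.finite_of_card_ne_zero (by rw [h.card]; omega)
  have : Finite T := Finite.of_injective _ (inclusion_injective h1)
  obtain ⟨k, hk, h3⟩ := (Nat.dvd_prime_pow Nat.prime_three).1
    (show Nat.card T ∣ 3 ^ 3 from (card_dvd_of_le h1).trans (h.card ▸ dvd_rfl))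
  have h4 : Nat.card T = 3 ^ 2 := by
    interval_cases k
    · exact absurd (mem_bot.1 (card_eq_one.1 h3 ▸ hz)) h.z1
    · exact absurd ((eq_of_le_of_card_ge (zpowers_le.2 hz) (by rw [h3, h.card_z]; rfl)).ge ha) ha'
    · exact h3
    · exact absurd (eq_of_le_of_card_ge h1 (by rw [h3, h.card]; rfl)) h2
  exact ⟨h4, fun v hv => h.cube v (h1 hv), fun a ha b hb => congrArg Subtype.val
    (IsPGroup.commutative_of_card_eq_prime_sq h4 (⟨a, ha⟩ : T) ⟨b, hb⟩), hz, ha, h.z1, ha'⟩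

theorem bas {a : G} (ha : a ∈ S) (ha' : a ∉ zpowers z) : Bas (S ⊓ centralizer {a}) z a :=
  h.bas' inf_le_left (fun e => ha' (h.cen a ha fun s hs =>
    mem_centralizer_singleton_iff.1 (e.ge hs).2))
    ⟨h.zS, mem_centralizer_singleton_iff.2 (h.zc a ha).symm⟩
    ⟨ha, mem_centralizer_singleton_iff.2 rfl⟩ ha'

theorem nrm {T : Subgroup G} (h1 : T ≤ S) (hz : z ∈ T) {s : G} (hs : s ∈ S) {v : G} (hv : v ∈ T) :
    s * v * s⁻¹ ∈ T := by
  simpa using mul_mem (zpowers_le.2 hz (h.comm s hs v (h1 hv))) hv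

theorem exists_not : ∃ a ∈ S, a ∉ zpowers z := by
  by_contra h1
  push Not at h1
  have : Finite (zpowers z) := Nat.finite_of_card_ne_zero (by rw [h.card_z]; omega)
  have := card_le_of_le (show S ≤ zpowers z from h1)
  rw [h.card, h.card_z] at this
  omega

theorem exists_not_comm {a : G} (ha : a ∈ S) (ha' : a ∉ zpowers z) : ∃ b ∈ S, b * a ≠ a * b := by
  by_contra h1
  push Not at h1
  exact ha' (h.cen a ha h1)

theorem comm_cases {a b : G} (ha : a ∈ S) (hb : b ∈ S) (hab : a * b ≠ b * a) :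
    a * b * a⁻¹ * b⁻¹ = z ∨ a * b * a⁻¹ * b⁻¹ = z⁻¹ :=
  (mem_zpowers_three h.z3 (h.comm a ha b hb)).resolve_left fun e => hab (by
    rwa [mul_inv_eq_one, mul_inv_eq_iff_eq_mul] at e)

theorem comm_inv {a b : G} (ha : a ∈ S) (hb : b ∈ S) :
    a * b⁻¹ * a⁻¹ * b = (a * b * a⁻¹ * b⁻¹)⁻¹ := by
  calc a * b⁻¹ * a⁻¹ * b = b⁻¹ * (a * b * a⁻¹ * b⁻¹)⁻¹ * b := by group
    _ = _ := by rw [h.comm_z (inv_mem (h.comm a ha b hb)) (inv_mem hb), inv_mul_cancel_right]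

theorem fix_cases {u : G} (hu : ∀ s ∈ S, u * s * u⁻¹ ∈ S) (u2 : u * u = 1) (uz : u * z = z * u) :
    (∀ s ∈ S, s * u = u * s) ∨ S ⊓ centralizer {u} = zpowers z := by
  have hz : z ∈ S ⊓ centralizer {u} := ⟨h.zS, mem_centralizer_singleton_iff.2 uz.symm⟩
  by_contra hc
  push Not at hc
  obtain ⟨⟨s, hs, h1⟩, h2⟩ := hc
  obtain ⟨a, ha, ha'⟩ : ∃ a ∈ S ⊓ centralizer {u}, a ∉ zpowers z := by
    by_contra h3
    push Not at h3
    exact h2 (le_antisymm h3 (zpowers_le.2 hz))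
  have hB := h.bas' inf_le_left (fun e => h1 (mem_centralizer_singleton_iff.1 (e.ge hs).2)) hz ha ha'
  obtain ⟨b, hb⟩ : ∃ b, b = s⁻¹ * (u * s * u⁻¹) := ⟨_, rfl⟩
  have hbS : b ∈ S := hb ▸ mul_mem (inv_mem hs) (hu s hs)
  have h3 : u * b * u⁻¹ = b⁻¹ := by
    calc u * b * u⁻¹ = u * s⁻¹ * u⁻¹ * ((u * u) * s * (u * u)⁻¹) := by rw [hb]; group
      _ = _ := by rw [u2, hb]; group
  have h4 : b ≠ 1 := fun e => h1 (by
    rw [hb, inv_mul_eq_one, eq_mul_inv_iff_mul_eq] at e; exact e)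
  have fix : ∀ v ∈ S ⊓ centralizer {u}, u * v * u⁻¹ = v := fun v hv => by
    rw [← mem_centralizer_singleton_iff.1 hv.2, mul_inv_cancel_right]
  have h5 : a * b = b * a := by
    have h6 := fix _ (zpowers_le.2 hz (h.comm a ha.1 b hbS))
    rw [show u * (a * b * a⁻¹ * b⁻¹) * u⁻¹ = (u * a * u⁻¹) * (u * b * u⁻¹) * (u * a * u⁻¹)⁻¹ *
      (u * b * u⁻¹)⁻¹ by group, fix a ha, h3, inv_inv, h.comm_inv ha.1 hbS] at h6
    have := h.eq_one (h.zle (h.comm a ha.1 b hbS)) h6.symm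
    rwa [mul_inv_eq_one, mul_inv_eq_iff_eq_mul] at this
  have h6 := (h.bas ha.1 ha').card
  have : Finite ↥(S ⊓ centralizer {a}) := Nat.finite_of_card_ne_zero (by omega)
  have h7 : S ⊓ centralizer {u} = S ⊓ centralizer {a} := eq_of_le_of_card_ge
    (hB.le (h.bas ha.1 ha').xV (h.bas ha.1 ha').yV) (by rw [h6, hB.card])
  exact h4 (h.eq_one hbS ((fix b (h7.ge ⟨hbS, mem_centralizer_singleton_iff.2 h5.symm⟩)).symm.trans
    h3))

theorem inv_mod {u : G} (hu : ∀ s ∈ S, u * s * u⁻¹ ∈ S) (u2 : u * u = 1)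
    (h1 : S ⊓ centralizer {u} = zpowers z) {s : G} (hs : s ∈ S) :
    s * (u * s * u⁻¹) ∈ zpowers z := by
  obtain ⟨t, ht⟩ : ∃ t, t = u * s * u⁻¹ := ⟨_, rfl⟩
  have htS : t ∈ S := ht ▸ hu s hs
  have h2 : u * t * u⁻¹ = s := by
    rw [ht, show u * (u * s * u⁻¹) * u⁻¹ = (u * u) * s * (u * u)⁻¹ by group, u2]; simp
  have h3 := mem_centralizer_singleton_iff.1 (h1.ge (h.comm t htS s hs)).2
  have h4 : t * s * t⁻¹ * s⁻¹ = (t * s * t⁻¹ * s⁻¹)⁻¹ := by
    calc t * s * t⁻¹ * s⁻¹ = u * (t * s * t⁻¹ * s⁻¹) * u⁻¹ := by rw [← h3, mul_inv_cancel_right]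
      _ = (u * t * u⁻¹) * (u * s * u⁻¹) * (u * t * u⁻¹)⁻¹ * (u * s * u⁻¹)⁻¹ := by group
      _ = _ := by rw [h2, ← ht]; group
  have h5 := h.eq_one (h.zle (h.comm t htS s hs)) h4
  rw [mul_inv_eq_one, mul_inv_eq_iff_eq_mul] at h5
  rw [← ht, ← h1]
  refine ⟨mul_mem hs htS, mem_centralizer_singleton_iff.2 ?_⟩
  rw [eq_comm, ← mul_inv_eq_iff_eq_mul, ← conj_mul, h2, ← ht, h5]

theorem exists_fix {u : G} (hu : ∀ s ∈ S, u * s * u⁻¹ ∈ S) (u2 : u * u = 1) :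
    ∃ a ∈ S, a ≠ 1 ∧ u * a * u⁻¹ = a := by
  have : Finite S := Nat.finite_of_card_ne_zero (by rw [h.card]; omega)
  by_contra h1
  push Not at h1
  let φ : S →* S := MonoidHom.mk' (fun s => ⟨u * s * u⁻¹, hu s s.2⟩) fun a b =>
    Subtype.ext (conj_mul ..).symm
  have h2 : MonoidHom.FixedPointFree φ := fun s e => by
    by_contra h3
    exact h1 s s.2 (fun e => h3 (Subtype.ext e)) (congrArg Subtype.val e)
  obtain ⟨a, ha, ha'⟩ := h.exists_not
  refine ha' (h.cen a ha fun s hs => congrArg Subtype.val (h2.commute_all_of_involutive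
    (fun s => Subtype.ext ?_) ⟨s, hs⟩ ⟨a, ha⟩).eq)
  change u * (u * s * u⁻¹) * u⁻¹ = s
  rw [show u * (u * s * u⁻¹) * u⁻¹ = (u * u) * s * (u * u)⁻¹ by group, u2]; simp

theorem cjj (g : G) : Hs (S.map (MulAut.conj g).toMonoidHom) (g * z * g⁻¹) := by
  have e : zpowers (g * z * g⁻¹) = (zpowers z).map (MulAut.conj g).toMonoidHom :=
    (MonoidHom.map_zpowers (MulAut.conj g).toMonoidHom z).symm
  refine ⟨by rw [card_map_of_injective (MulAut.conj g).injective, h.card], ?_, ⟨z, h.zS, rfl⟩,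
    by simpa using h.z1, ?_, ?_, ?_⟩
  · rintro _ ⟨s, hs, rfl⟩
    rw [← map_pow, h.cube s hs, map_one]
  · rintro _ ⟨s, hs, rfl⟩
    change g * s * g⁻¹ * _ = _ * (g * s * g⁻¹)
    rw [conj_mul, conj_mul, h.zc s hs]
  · rintro _ ⟨c, hc, rfl⟩ h1
    refine e ▸ ⟨c, h.cen c hc fun s hs => (MulAut.conj g).injective ?_, rfl⟩
    rw [map_mul, map_mul]
    exact h1 _ ⟨s, hs, rfl⟩
  · rintro _ ⟨a, ha, rfl⟩ _ ⟨b, hb, rfl⟩
    exact e ▸ ⟨_, h.comm a ha b hb, by simp only [map_mul, map_inv]⟩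

theorem inv : Hs S z⁻¹ :=
  ⟨h.card, h.cube, inv_mem h.zS, inv_ne_one.2 h.z1, fun s hs => (Commute.inv_right (h.zc s hs)).eq,
    by simpa only [zpowers_inv] using h.cen, by simpa only [zpowers_inv] using h.comm⟩

/-- two such groups glued along a subgroup of order nine make the centre real -/
theorem real {S' : Subgroup G} {a : G} (h' : Hs S' a) (ha : a ∈ S) (ha' : a ∉ zpowers z)
    (hz : z ∈ S') : IsConj z z⁻¹ := by
  have hB := h.bas ha ha'
  have hz' : z ∉ zpowers a := fun e => by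
    rcases mem_zpowers_three h'.z3 e with e | e | e
    · exact h.z1 e
    · exact ha' (e ▸ mem_zpowers z)
    · exact ha' (by rw [← inv_inv a, ← e]; exact inv_mem (mem_zpowers z))
  obtain ⟨s, hs, e1⟩ := h.exists_not_comm ha ha'
  obtain ⟨t, ht, e2⟩ := h'.exists_not_comm hz hz'
  have s1 : s * z * s⁻¹ = el z a 1 0 := by rw [el_one_zero, h.zc s hs, mul_inv_cancel_right]
  have t1 : t * a * t⁻¹ = el z a 0 1 := by rw [el_zero_one, h'.zc t ht, mul_inv_cancel_right]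
  have h1 : Acts z a s (1, 0, 1, 1) ∨ Acts z a s (1, 0, 2, 1) :=
    (h.comm_cases hs ha e1).imp (fun e => ⟨s1, by simp [el, ← e]⟩) fun e => ⟨s1, by
      rw [show (2 : Fin 3) = 2 + 0 from rfl, show (1 : Fin 3) = 0 + 1 from rfl,
        el_add hB.x3 hB.y3 hB.xy, hB.el_two_zero, el_zero_one, ← e]; simp⟩
  have h2 : Acts z a t (1, 1, 0, 1) ∨ Acts z a t (1, 2, 0, 1) :=
    (h'.comm_cases ht hz e2).imp (fun e => ⟨by
      simp only [el, Fin.val_one, pow_one]; rw [hB.xy.eq, ← e]; simp, t1⟩) fun e => ⟨by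
      rw [show (2 : Fin 3) = 0 + 2 from rfl, show (1 : Fin 3) = 1 + 0 from rfl,
        el_add hB.x3 hB.y3 hB.xy, hB.el_zero_two, el_one_zero, hB.xy.inv_right.eq, ← e]; simp, t1⟩
  rcases h1 with h1 | h1 <;> rcases h2 with h2 | h2
  · exact isConj_iff.2 ⟨_, (hB.pow (hB.mul h1 h2) 2).1.trans hB.el_two_zero⟩
  · exact isConj_iff.2 ⟨_, (hB.pow (hB.mul h1 (hB.mul h2 h2)) 2).1.trans hB.el_two_zero⟩
  · exact isConj_iff.2 ⟨_, (hB.pow (hB.mul h1 (hB.mul h2 h2)) 2).1.trans hB.el_two_zero⟩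
  · exact isConj_iff.2 ⟨_, (hB.pow (hB.mul h1 h2) 2).1.trans hB.el_two_zero⟩

end Hs

end CfsgH8
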