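import Cfsg.Agent.H8.Count3
import Cfsg.Agent.H8.SolvFit
import Cfsg.Agent.H8.Nine
import Cfsg.Agent.H6.SylIn
import Cfsg.Agent.L.Char5

set_option autoImplicit false

/-! Counting solutions of `u * u = 1` in centralizers of elements of order three. -/

namespace CfsgH8

open Subgroup CfsgH5 CfsgH6

variable {G : Type*} [Group G]

/-- the number of solutions of `u * u = 1` -/
noncomputable def inv2 (H : Type*) [Group H] : ℕ := Nat.card {u : H // u * u = 1}

theorem inv2_eq [Finite G] : inv2 G = 1 + nord G 2 := by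
  have h := card_pow_eq_one_eq_sum (G := G) (n := 2) (by norm_num)
  rw [Nat.Prime.sum_divisors Nat.prime_two, nord_one, add_comm] at h
  rw [← h]
  simp only [inv2, pow_two]

theorem inv2_congr {H : Type*} [Group H] (e : G ≃* H) : inv2 G = inv2 H :=
  Nat.card_congr (e.toEquiv.subtypeEquiv fun g => by
    rw [MulEquiv.toEquiv_eq_coe, MulEquiv.coe_toEquiv, ← map_mul, map_eq_one_iff _ e.injective])

theorem inv2_eq_mul [Finite G] {H : Type*} [Group H] (f : G →* H) (hf : Function.Surjective f)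
    (hk : IsPGroup 2 f.ker) (h2 : ∀ (u : G) (k : ℕ), u ^ 2 ^ k = 1 → u * u = 1) :
    inv2 G = inv2 H * Nat.card f.ker := by
  have := Finite.of_surjective f hf
  refine card_eq_of_fibers (fun u => ⟨f u.1, by rw [← map_mul, u.2, map_one]⟩) ?_
  rintro ⟨v, hv⟩
  obtain ⟨u, rfl⟩ := hf v
  refine Nat.card_congr ⟨fun w => ⟨u⁻¹ * w.1.1, ?_⟩, fun k => ⟨⟨u * k.1, ?_⟩, Subtype.ext ?_⟩,
    fun w => by simp, fun k => by simp⟩
  · rw [MonoidHom.mem_ker, map_mul, map_inv, show f w.1.1 = f u from congrArg Subtype.val w.2,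
      inv_mul_cancel]
  · obtain ⟨n, hn⟩ := hk ⟨(u * k.1) ^ 2, by
      rw [MonoidHom.mem_ker, map_pow, map_mul, MonoidHom.mem_ker.1 k.2, mul_one, pow_two, hv]⟩
    exact h2 _ (n + 1) (by rw [pow_succ', pow_mul]; exact congrArg Subtype.val hn)
  · change f (u * k.1) = f u
    rw [map_mul, MonoidHom.mem_ker.1 k.2, mul_one]

theorem normal_of_core [Finite G] (hp : ∀ r : ℕ, r.Prime → r ∣ Nat.card G → r = 2 ∨ r = 3)
    (h2 : Cfsg.pCore 2 G = ⊥) {P : Subgroup G} (hP : SylIn 3 P ⊤) (h27 : Nat.card P = 27) {x : G}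
    (hx1 : x ≠ 1) (hx : ∀ g, g * x = x * g) : P.Normal := by
  haveI : Fact (Nat.Prime 3) := ⟨Nat.prime_three⟩
  have hR := pCore_normal 3 G
  obtain ⟨R, hR'⟩ : ∃ R, R = Cfsg.pCore 3 G := ⟨_, rfl⟩
  have hR3 : IsPGroup 3 R := hR' ▸ isPGroup_pCore 3 G
  rw [← hR'] at hR
  have hC : centralizer (R : Set G) ≤ R := by
    by_contra hC
    obtain ⟨p, hp', Q, h3, h4, -, h5, -⟩ := exists_normal_pgroup_of_solvable
      (CfsgL.burnside_pq Nat.prime_two Nat.prime_three hp) R (centralizer (R : Set G))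
      (fun u hu c hc => (mem_centralizer_iff.1 hc u hu).symm) hC
    rcases h4.card_eq_or_dvd with e | e
    · exact h5 (card_eq_one.1 e ▸ bot_le)
    rcases hp p hp'.out (e.trans (card_subgroup_dvd_card Q)) with rfl | rfl
    · exact h5 ((le_pCore h3 h4).trans (h2 ▸ bot_le))
    · exact h5 (hR' ▸ le_pCore h3 h4)
  have hxR : x ∈ R := hC (mem_centralizer_iff.2 fun g _ => hx g)
  have hRP : R ≤ P := hP.le_of_nrm le_top hR3 (Nrm.of_normal _ _)
  obtain ⟨k, hk, h3⟩ := (Nat.dvd_prime_pow Nat.prime_three).1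
    (show Nat.card R ∣ 3 ^ 3 from (card_dvd_of_le hRP).trans (h27 ▸ dvd_rfl))
  interval_cases k
  · exact absurd (mem_bot.1 (card_eq_one.1 h3 ▸ hxR)) hx1
  · exfalso
    have h4 : R = zpowers x := (eq_of_le_of_card_ge (zpowers_le.2 hxR) (by
      rw [h3, Nat.card_zpowers]
      have h5 := R.orderOf_dvd_natCard hxR
      rw [h3, pow_one, Nat.dvd_prime Nat.prime_three, orderOf_eq_one_iff] at h5
      exact (h5.resolve_left hx1).ge)).symm
    have h5 : P ≤ R := fun g _ => hC (mem_centralizer_iff.2 fun y hy => by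
      obtain ⟨i, rfl⟩ := mem_zpowers_iff.1 (h4 ▸ hy)
      exact (Commute.zpow_left (hx g).symm i).eq)
    have := card_le_of_le h5
    omega
  · have hc : ∀ a ∈ R, ∀ b ∈ R, a * b = b * a := fun a ha b hb => congrArg Subtype.val
      (IsPGroup.commutative_of_card_eq_prime_sq h3 (⟨a, ha⟩ : R) ⟨b, hb⟩)
    by_cases h4 : ∀ y ∈ R, ∀ g, g * y = y * g
    · have h5 : P ≤ R := fun g _ => hC (mem_centralizer_iff.2 fun y hy => (h4 y hy g).symm)
      have := card_le_of_le h5
      omega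
    push Not at h4
    obtain ⟨y, hy, g, hg⟩ := h4
    have h5 : centralizer ({y} : Set G) = R := by
      refine le_antisymm (fun c hc' => hC (mem_centralizer_iff.2 fun r hr => ?_))
        fun r hr => mem_centralizer_singleton_iff.2 (hc r hr y hy)
      have h6 : R ⊓ centralizer {c} = R := by
        by_contra h6
        have h7 := (eq_zpowers_of_lt_nine h3 inf_le_left h6
          ⟨hxR, mem_centralizer_singleton_iff.2 (hx c).symm⟩ hx1).2
        obtain ⟨i, rfl⟩ := mem_zpowers_iff.1 (h7.le ⟨hy, mem_centralizer_singleton_iff.2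
          (mem_centralizer_singleton_iff.1 hc').symm⟩)
        exact hg (Commute.zpow_right (hx g) i).eq
      exact mem_centralizer_singleton_iff.1 (h6.ge hr).2
    have h6 : R.index < 9 := by
      rw [← h5, ← card_isConj_eq]
      change _ < 3 ^ 2
      rw [← h3]
      refine Set.ncard_lt_ncard (s := {g | IsConj y g}) (t := R) ⟨fun a ha => ?_, fun e => hg ?_⟩
      · obtain ⟨c, rfl⟩ := isConj_iff.1 ha
        exact hR.conj_mem y hy c
      · rw [isConj_one_left.1 (e R.one_mem)]; simp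
    have h7 := relIndex_mul_index hRP
    have h8 := card_mul_index (R.subgroupOf P)
    rw [Nat.card_congr (subgroupOfEquivOfLe hRP).toEquiv, h3, h27] at h8
    change 3 ^ 2 * R.relIndex P = 27 at h8
    have h9 := P.index_ne_zero_of_finite
    rw [show R.relIndex P = 3 by omega] at h7
    rcases (show P.index = 1 ∨ P.index = 2 by omega) with e | e
    · rw [index_eq_one.1 e]; infer_instance
    · exact normal_of_index_eq_two e
  · rwa [← eq_of_le_of_card_ge hRP (by rw [h3, h27]; rfl)]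

theorem lemK [Finite G] (hp : ∀ r : ℕ, r.Prime → r ∣ Nat.card G → r = 2 ∨ r = 3)
    (h2 : ∀ (u : G) (k : ℕ), u ^ 2 ^ k = 1 → u * u = 1) {P : Subgroup G} (hP : SylIn 3 P ⊤)
    (h27 : Nat.card P = 27) {x : G} (hx1 : x ≠ 1) (hxP : x ∈ P) (hx : ∀ g, g * x = x * g) :
    inv2 G = (normalizer (P : Set G)).index * inv2 (normalizer (P : Set G)) ∧
      ∀ g, ∀ a ∈ P, g * a * g⁻¹ ∈ P → ∃ n ∈ normalizer (P : Set G), n * a * n⁻¹ = g * a * g⁻¹ := by
  haveI : Fact (Nat.Prime 3) := ⟨Nat.prime_three⟩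
  haveI := pCore_normal 2 G
  let f := QuotientGroup.mk' (Cfsg.pCore 2 G)
  have hf : Function.Surjective f := QuotientGroup.mk'_surjective _
  have hk : IsPGroup 2 f.ker := by rw [QuotientGroup.ker_mk']; exact isPGroup_pCore 2 G
  have hb : ∀ a ∈ P, f a = 1 → a = 1 := fun a ha e => mem_bot.1
    ((IsPGroup.disjoint_of_ne 3 2 (by norm_num) P f.ker hP.isPGroup hk).le_bot ⟨ha, e⟩)
  have hP' : SylIn 3 (P.map f) ⊤ := by
    have := hP.map f
    rwa [map_top_of_surjective f hf] at this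
  have hN : (P.map f).Normal := by
    refine normal_of_core (fun r hr e => hp r hr (e.trans (card_quotient_dvd_card _))) ?_ hP' ?_
      (fun e => hx1 (hb x hxP e)) fun g => ?_
    · haveI := pCore_normal 2 (G ⧸ Cfsg.pCore 2 G)
      rw [eq_bot_iff, ← map_comap_eq_self_of_surjective hf (Cfsg.pCore 2 _), map_le_iff_le_comap,
        MonoidHom.comap_bot, QuotientGroup.ker_mk']
      exact le_pCore inferInstance ((isPGroup_pCore 2 _).comap_of_ker_isPGroup f hk)
    · rw [← h27, ← MonoidHom.domRestrict_range]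
      exact Nat.card_range_of_injective ((injective_iff_map_eq_one _).2 fun a e =>
        Subtype.ext (hb a a.2 e))
    · obtain ⟨g, rfl⟩ := hf g
      rw [← map_mul, hx, map_mul]
  have key : ∀ g, ∃ n ∈ normalizer (P : Set G), f n = f g := fun g => by
    obtain ⟨k, ⟨s, hs, e⟩, h3⟩ := (hP.of_le (le_comap_map f P) le_top).frattini (g := g)
      ((Nrm.of_normal ⊤ _).cj_eq trivial)
    refine ⟨s⁻¹ * (k * g), mul_mem (le_normalizer (inv_mem hs)) (mem_normalizer_iff_cj.2 h3), ?_⟩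
    rw [map_mul, map_mul, map_inv, e, inv_mul_cancel_left]
  refine ⟨?_, fun g a ha hg => ?_⟩
  · have hf' : Function.Surjective (f.domRestrict (normalizer (P : Set G))) := fun q => by
      obtain ⟨g, rfl⟩ := hf q
      obtain ⟨n, hn, e⟩ := key g
      exact ⟨⟨n, hn⟩, e⟩
    have h3 := f.ker.card_mul_index
    have h4 := (f.domRestrict (normalizer (P : Set G))).ker.card_mul_index
    have h5 := (normalizer (P : Set G)).card_mul_index
    rw [index_ker, MonoidHom.range_eq_top.2 hf] at h3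
    rw [index_ker, MonoidHom.range_eq_top.2 hf'] at h4
    rw [inv2_eq_mul f hf hk h2, inv2_eq_mul _ hf' (by
      rw [MonoidHom.ker_domRestrict]; exact hk.comap_subtype)
      fun u k e => Subtype.ext (h2 u k (congrArg Subtype.val e)), mul_left_comm]
    congr 1
    rw [← h3, ← h4, mul_right_comm] at h5
    rw [← Nat.eq_of_mul_eq_mul_right Nat.card_pos h5, mul_comm]
  · obtain ⟨n, hn, e⟩ := key g
    refine ⟨n, hn, (inv_mul_eq_one.1 (hb _ (mul_mem (inv_mem hg)
      ((mem_normalizer_iff.1 hn a).1 ha)) ?_)).symm⟩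
    simp [e, mul_assoc]

theorem sum_le_inv2 [Finite G] {L P E : Subgroup G} [Fintype E] (hP : P ≤ L) (hE : E ≤ L)
    (hn : Nrm E P) (hb : P ⊓ E = ⊥) (h2 : ∀ e ∈ E, e * e = 1) :
    ∑ e : E, (centralizer ({e.1} : Set G)).relIndex P ≤ inv2 L ∧
      ((∀ u ∈ L, u * u = 1 → ∃ s ∈ P, ∃ e ∈ E, s * e * s⁻¹ = u) →
        ∑ e : E, (centralizer ({e.1} : Set G)).relIndex P = inv2 L) := by
  let φ : (Σ e : E, P ⧸ (centralizer ({e.1} : Set G)).subgroupOf P) → {u : L // u * u = 1} :=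
    fun q => ⟨⟨q.2.out * q.1 * (q.2.out : G)⁻¹, mul_mem (mul_mem (hP q.2.out.2) (hE q.1.2))
      (inv_mem (hP q.2.out.2))⟩, Subtype.ext (by
        change _ * _ * _ * (_ * _ * _) = 1
        rw [conj_mul, h2 _ q.1.2]; simp)⟩
  have h1 : Function.Injective φ := by
    rintro ⟨e, q⟩ ⟨e', q'⟩ h
    have h3 : (q.out : G) * e * (q.out : G)⁻¹ = q'.out * e' * (q'.out : G)⁻¹ :=
      congrArg (fun u => u.1.1) h
    obtain ⟨s, hs⟩ : ∃ s : P, s = q.out⁻¹ * q'.out := ⟨_, rfl⟩
    have h4 : (e : G) = s * e' * (s : G)⁻¹ := by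
      calc (e : G) = (q.out : G)⁻¹ * (q.out * e * (q.out : G)⁻¹) * q.out := by group
        _ = _ := by rw [h3, hs]; push_cast; group
    obtain rfl : e = e' := Subtype.ext (mul_inv_eq_one.1 (mem_bot.1 (hb ▸ mem_inf.2
      ⟨by simpa [h4, mul_assoc] using mul_mem s.2 (hn _ e'.2 _ (inv_mem s.2)),
        mul_mem e.2 (inv_mem e'.2)⟩)))
    obtain rfl : q = q' := by
      rw [← q.out_eq, ← q'.out_eq, QuotientGroup.eq, ← hs, mem_subgroupOf,
        mem_centralizer_singleton_iff]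
      exact mul_inv_eq_iff_eq_mul.1 h4.symm
    rfl
  have h5 : ∑ e : E, (centralizer ({e.1} : Set G)).relIndex P =
      Nat.card (Σ e : E, P ⧸ (centralizer ({e.1} : Set G)).subgroupOf P) := Nat.card_sigma.symm
  rw [h5]
  refine ⟨Nat.card_le_card_of_injective φ h1, fun h => Nat.card_eq_of_bijective φ ⟨h1, ?_⟩⟩
  rintro ⟨⟨u, hu⟩, hu'⟩
  obtain ⟨s, hs, e, he, rfl⟩ := h u hu (congrArg Subtype.val hu')
  refine ⟨⟨⟨e, he⟩, QuotientGroup.mk ⟨s, hs⟩⟩, Subtype.ext (Subtype.ext ?_)⟩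
  obtain ⟨c, hc⟩ := QuotientGroup.mk_out_eq_mul ((centralizer ({e} : Set G)).subgroupOf P) ⟨s, hs⟩
  change _ * e * _ = s * e * s⁻¹
  rw [hc]
  change s * c.1.1 * e * (s * c.1.1)⁻¹ = _
  rw [mul_assoc s, show c.1.1 * e = e * c.1.1 from mem_centralizer_singleton_iff.1 c.2]
  group

end CfsgH8
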