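import Cfsg.Agent.H8.Count3

set_option autoImplicit false

/-! The order statistics of `M12`: numerical part. -/

namespace CfsgH8.M12

open Subgroup Finset

variable {G : Type*} [Group G]

/-- the order statistics of `M12` that are needed -/
structure Nse (G : Type*) [Group G] : Prop where
  card : Nat.card G = 95040
  n3 : nord G 3 = 4400
  n6 : nord G 6 = 23760
  ord : ∀ g : G, 3 ∣ orderOf g → orderOf g = 3 ∨ orderOf g = 6

theorem sum_nord_of_mem [Finite G] (T : Finset ℕ) (h : ∀ g : G, orderOf g ∈ T) :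
    ∑ d ∈ T, nord G d = Nat.card G := by
  classical
  have := Fintype.ofFinite G
  rw [Nat.card_eq_fintype_card, ← card_univ, card_eq_sum_card_fiberwise
    (f := fun g : G => orderOf g) fun g _ => h g]
  exact sum_congr rfl fun d _ => by rw [nord, Nat.card_eq_fintype_card, Fintype.card_subtype]

theorem arith1 {U M R : ℕ} (h1 : 64 ∣ 892 + U) (h2 : 5940 ∣ U) (h3 : 64 ∣ M) (h4 : 5940 ∣ M)
    (h5 : U + M + R = 53460) : U = 29700 ∧ M = 0 := by
  obtain ⟨u, rfl⟩ := h2
  obtain ⟨m, rfl⟩ := h4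
  have : u ≤ 9 := by omega
  have : m ≤ 9 := by omega
  interval_cases u <;> interval_cases m <;> omega

theorem arith2 (s : ℕ → ℕ) (n1 : s 1 = 1) (n2 : s 2 = 891)
    (hsum : ∑ d ∈ ({4, 8, 16, 32, 64, 6, 12, 24, 48, 96, 192, 9, 18, 36, 72,
      144, 288, 576, 27, 54, 108, 216, 432, 864, 1728} : Finset ℕ), s d = 53460)
    (h59 : ∀ d ∈ ({4, 8, 16, 32, 64, 6, 12, 24, 48, 96, 192, 9, 18, 36, 72,
      144, 288, 576, 27, 54, 108, 216, 432, 864, 1728} : Finset ℕ),
      s d = 0 ∨ s d = 5940 ∨ s d = 23760) (pos : ∀ n d, d ∣ n → 0 < s n → 0 < s d)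
    (g1 : 2 ^ 6 ∣ ∑ j ∈ range (6 + 1), s (1 * 2 ^ j))
    (g9 : 2 ^ 6 ∣ ∑ j ∈ range (6 + 1), s (9 * 2 ^ j)) (g8 : 8 ∣ s 24) :
    s 6 = 23760 ∧ s 9 = 0 ∧ s 12 = 0 := by
  have h60 : ∀ t : Finset ℕ, t ⊆ {4, 8, 16, 32, 64, 6, 12, 24, 48, 96, 192, 9, 18, 36, 72,
      144, 288, 576, 27, 54, 108, 216, 432, 864, 1728} → 5940 ∣ ∑ d ∈ t, s d := fun t ht =>
    dvd_sum fun d hd => by have := h59 d (ht hd); omega
  have g2 := h60 {4, 8, 16, 32, 64} (by decide +kernel)
  have g3 := h60 {9, 18, 36, 72, 144, 288, 576} (by decide +kernel)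
  simp only [sum_range_succ, sum_range_zero] at g1 g9
  norm_num [n1, n2] at g1 g9 g2 g3 hsum
  obtain ⟨hU, hM9⟩ := arith1 (R := s 6 + s 12 + s 24 + s 48 + s 96 +
    s 192 + s 27 + s 54 + s 108 + s 216 + s 432 + s 864 + s 1728)
    (by simpa only [← add_assoc] using g1) g2 (by simpa only [add_assoc] using g9) g3
    (by rw [← hsum]; ring)
  clear g1 g2 g3 g9
  have n9 : s 9 = 0 := Nat.eq_zero_of_add_eq_zero_right hM9
  have p0 : ∀ n, 9 ∣ n → s n = 0 := fun n hn =>
    Nat.eq_zero_of_not_pos fun e => (pos n 9 hn e).ne' n9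
  have hM : s 6 + s 12 + s 24 + s 48 + s 96 + s 192 = 23760 := by
    rw [p0 27 (by norm_num), p0 54 (by norm_num), p0 108 (by norm_num), p0 216 (by norm_num),
      p0 432 (by norm_num), p0 864 (by norm_num), p0 1728 (by norm_num)] at hsum
    linarith
  clear hsum hU hM9
  have p8 := pos 24 6 (by norm_num)
  have p9 := pos 12 6 (by norm_num)
  have p10 := pos 48 24 (by norm_num)
  have p11 := pos 96 24 (by norm_num)
  have p12 := pos 192 24 (by norm_num)
  have g6 := h59 6 (by simp)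
  have g12 := h59 12 (by simp)
  have g24 := h59 24 (by simp)
  omega

attribute [local irreducible] nord in
theorem nse_of_eq' [Finite G] (hc : Nat.card G = 95040)
    (h : {c : ℕ | 0 < c ∧ ∃ n : ℕ, c = nord G n} =
      {1, 891, 4400, 5940, 9504, 23760, 17280}) : Nse G := by
  have h1 : ∀ n, nord G n = 0 ∨ nord G n = 1 ∨ nord G n = 891 ∨ nord G n = 4400 ∨
      nord G n = 5940 ∨ nord G n = 9504 ∨ nord G n = 23760 ∨ nord G n = 17280 := fun n =>
    (Nat.eq_zero_or_pos _).imp_right fun hn => by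
      simpa using (Set.ext_iff.1 h (nord G n)).1 ⟨hn, n, rfl⟩
  have n1 : nord G 1 = 1 := nord_one
  have n2 : nord G 2 = 891 := by
    obtain ⟨-, n, hn⟩ := (Set.ext_iff.1 h 891).2 (by simp)
    rcases Nat.lt_or_ge 2 n with h2 | h2
    · have := (Nat.totient_even h2).two_dvd.trans (totient_dvd_nord (G := G) n)
      omega
    · interval_cases n
      · have := (nord_eq_zero_iff (G := G)).2 fun g => (orderOf_pos g).ne'
        omega
      · omega
      · exact hn.symm
  have f : ∀ p a m, p.Prime → p ^ a ∣ 95040 → ¬ p ^ (a + 1) ∣ 95040 → ¬ p ∣ m →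
      p ^ a ∣ ∑ j ∈ range (a + 1), nord G (m * p ^ j) :=
    fun p a m hp e1 e2 => dvd_sum_nord_mul hp (hc ▸ e1) (hc ▸ e2)
  have f5 : ∀ m, ¬ 5 ∣ m → 5 ∣ nord G m + nord G (m * 5) := fun m hm => by
    simpa [sum_range_succ] using f 5 1 m (by norm_num) (by norm_num) (by norm_num) hm
  have f11 : ∀ m, ¬ 11 ∣ m → 11 ∣ nord G m + nord G (m * 11) := fun m hm => by
    simpa [sum_range_succ] using f 11 1 m (by norm_num) (by norm_num) (by norm_num) hm
  have n3 : nord G 3 = 4400 := by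
    have h2 := frobenius_pow (G := G) Nat.prime_three (k := 1) (by rw [hc]; norm_num)
    rw [Nat.sum_divisors_prime_pow Nat.prime_three] at h2
    simp only [sum_range_succ, sum_range_zero] at h2
    norm_num [n1] at h2
    have := h1 3
    omega
  have n5 : nord G 5 = 9504 := by have := h1 5; have := f5 1 (by norm_num); norm_num at this; omega
  have n11 : nord G 11 = 17280 := by
    have := h1 11; have := f11 1 (by norm_num); norm_num at this; omega
  have n10 : nord G 10 = 9504 := by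
    have := h1 10; have := f5 2 (by norm_num); norm_num at this; omega
  have n22 : nord G 22 = 0 := by
    have e1 := h1 22
    have e2 := f11 2 (by norm_num)
    have e3 := nord_mul_totient_dvd (G := G) (p := 11) (k := 2) (by norm_num) (by rw [hc]; norm_num)
      (by norm_num)
    norm_num [n11] at e2 e3
    omega
  have key : ∀ p k, p = 5 ∨ p = 11 → ¬ p ∣ k → 2 < k → nord G (p * k) = 0 := fun p k hp e1 e2 => by
    have h2 := nord_mul_totient_dvd (G := G) (p := p) (k := k)
      (by rcases hp with rfl | rfl <;> norm_num) (by rcases hp with rfl | rfl <;> norm_num [hc]) e1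
    have h3 := (Nat.mul_dvd_mul_left _ (Nat.totient_even e2).two_dvd).trans h2
    have := h1 (p * k)
    rcases hp with rfl | rfl
    · rw [n5] at h3; omega
    · rw [n11] at h3; omega
  have h55 : ∀ d, 2 < d → d ∣ 1728 → nord G d = 0 ∨ nord G d = 4400 ∨ nord G d = 5940 ∨
      nord G d = 23760 := fun d h2 hd => by
    have e1 : ¬ 5 ∣ d := fun e => by have := e.trans hd; omega
    have e2 : ¬ 11 ∣ d := fun e => by have := e.trans hd; omega
    have h3 := f5 d e1
    have h4 := f11 d e2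
    rw [mul_comm, key 5 d (by simp) e1 h2] at h3
    rw [mul_comm, key 11 d (by simp) e2 h2] at h4
    have := h1 d
    omega
  obtain ⟨D, hD⟩ : ∃ D : Finset ℕ, D = {4, 8, 16, 32, 64, 6, 12, 24, 48, 96, 192, 9, 18, 36, 72,
    144, 288, 576, 27, 54, 108, 216, 432, 864, 1728} := ⟨_, rfl⟩
  have hD1 : ∀ d ∈ D, 2 < d ∧ d ∣ 1728 := by rw [hD]; decide +kernel
  have hord : ∀ g : G, orderOf g ∈ ({1, 2, 3, 5, 10, 11} : Finset ℕ) ∪ D := fun g => by
    have h2 : 0 < nord G (orderOf g) := nord_pos_iff.2 ⟨g, rfl⟩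
    have h3 : orderOf g ∣ 95040 := hc ▸ orderOf_dvd_natCard g
    generalize orderOf g = n at h2 h3
    have h4 : ∀ p, p = 5 ∨ p = 11 → p ∣ n → n = p ∨ n = p * 2 := fun p hp e => by
      obtain ⟨k, rfl⟩ := e
      have e1 : ¬ p ∣ k := fun e => by
        have := (Nat.mul_dvd_mul_left p e).trans h3
        rcases hp with rfl | rfl <;> omega
      have e2 : ¬ 2 < k := fun e => h2.ne' (key p k hp e1 e)
      have e3 : k ≠ 0 := by rintro rfl; simp at e1
      have : k = 1 ∨ k = 2 := by omega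
      rcases this with rfl | rfl <;> simp
    by_cases e5 : 5 ∣ n
    · rcases h4 5 (by simp) e5 with rfl | rfl <;> simp
    by_cases e11 : 11 ∣ n
    · rcases h4 11 (by simp) e11 with rfl | rfl
      · simp
      · exact absurd n22 h2.ne'
    have h5 : n ∣ 1728 := Nat.Coprime.dvd_of_dvd_mul_right (n := 5 * 11) (Nat.Coprime.mul_right
      ((Nat.Prime.coprime_iff_not_dvd (by norm_num)).2 e5).symm
      ((Nat.Prime.coprime_iff_not_dvd (by norm_num)).2 e11).symm) h3
    exact (by rw [hD]; decide +kernel : ∀ n ∈ (1728 : ℕ).divisors,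
      n ∈ ({1, 2, 3, 5, 10, 11} : Finset ℕ) ∪ D) n (Nat.mem_divisors.2 ⟨h5, by norm_num⟩)
  have hsum : ∑ d ∈ D, nord G d = 53460 := by
    have h2 := sum_nord_of_mem _ hord
    rw [sum_union (by rw [hD]; decide +kernel), hc] at h2
    simp [n1, n2, n3, n5, n10, n11] at h2
    omega
  have h59 : ∀ d ∈ D, nord G d = 0 ∨ nord G d = 5940 ∨ nord G d = 23760 := by
    have h2 := sum_filter_add_sum_filter_not D (fun d => nord G d = 4400) (nord G)
    rw [sum_const_nat (m := 4400) fun d hd => (mem_filter.1 hd).2, hsum] at h2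
    have h3 : 5940 ∣ ∑ d ∈ D with ¬ nord G d = 4400, nord G d := dvd_sum fun d hd => by
      obtain ⟨e1, e2⟩ := mem_filter.1 hd
      have := h55 d (hD1 d e1).1 (hD1 d e1).2
      omega
    have h4 : D.filter (fun d => nord G d = 4400) = ∅ := card_eq_zero.1 (by omega)
    intro d hd
    have := filter_eq_empty_iff.1 h4 hd
    have := h55 d (hD1 d hd).1 (hD1 d hd).2
    omega
  have pos := fun n d (e : d ∣ n) (h : 0 < nord G n) => nord_pos_of_dvd h e
  obtain ⟨n6, n9, n12⟩ := arith2 (nord G) n1 n2 (hD ▸ hsum) (hD ▸ h59) pos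
    (f 2 6 1 (by norm_num) (by norm_num) (by norm_num) (by norm_num))
    (f 2 6 9 (by norm_num) (by norm_num) (by norm_num) (by norm_num)) (totient_dvd_nord 24)
  refine ⟨hc, n3, n6, fun g hg => ?_⟩
  have h2 : 0 < nord G (orderOf g) := nord_pos_iff.2 ⟨g, rfl⟩
  have h3 := (by rw [hD]; decide +kernel : ∀ n ∈ ({1, 2, 3, 5, 10, 11} : Finset ℕ) ∪ D, 3 ∣ n →
    n = 3 ∨ n = 6 ∨ 9 ∣ n ∨ 12 ∣ n) _ (hord g) hg
  have := pos (orderOf g) 9
  have := pos (orderOf g) 12
  omega

theorem nse_of_eq [Finite G] (hc : Nat.card G = 95040)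
    (h : {c : ℕ | 0 < c ∧ ∃ n : ℕ, c = Nat.card {g : G // orderOf g = n}} =
      {1, 891, 4400, 5940, 9504, 23760, 17280}) : Nse G := nse_of_eq' hc h

end CfsgH8.M12
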