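import Cfsg.Agent.H8.Inv2
import Cfsg.Agent.H8.M12Num
import Cfsg.Agent.H5.TW

set_option autoImplicit false

/-! Recognition of `M12` from the order statistics: centralizers of elements of order three. -/

namespace CfsgH8.M12

open Subgroup Finset CfsgH5 CfsgH6

variable {G : Type*} [Group G]

/-- the centralizer of an element -/
abbrev Cx (x : G) : Subgroup G := centralizer ({x} : Set G)

theorem mem_Cx {x g : G} : g ∈ Cx x ↔ g * x = x * g := mem_centralizer_singleton_iff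

theorem inv2_conj [Finite G] (x g : G) : inv2 (Cx (g * x * g⁻¹)) = inv2 (Cx x) := by
  rw [inv2_eq, inv2_eq, nord_cent_conj]

theorem inv2_pos [Finite G] : 0 < inv2 G := by rw [inv2_eq]; omega

theorem card_Cx_of_isConj {x y : G} (h : IsConj x y) : Nat.card (Cx x) = Nat.card (Cx y) := by
  obtain ⟨g, rfl⟩ := isConj_iff.1 h
  rw [← card_cj g]
  congr 2
  ext y
  rw [mem_cj, mem_Cx, mem_Cx]
  constructor
  · intro h
    calc y * (g * x * g⁻¹) = g * (g⁻¹ * y * g * x) * g⁻¹ := by group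
      _ = _ := by rw [h]; group
  · intro h
    calc g⁻¹ * y * g * x = g⁻¹ * (y * (g * x * g⁻¹)) * g := by group
      _ = _ := by rw [h]; group

theorem Cx_inv (x : G) : Cx x⁻¹ = Cx x := by
  ext y
  rw [mem_Cx, mem_Cx]
  exact Commute.inv_right_iff

open Classical in
/-- removal of a conjugacy class -/
noncomputable def rem (U : Finset G) (y : G) : Finset G := U.filter fun x => ¬ IsConj y x

theorem mem_rem {U : Finset G} {x y : G} : x ∈ rem U y ↔ x ∈ U ∧ ¬ IsConj y x := by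
  classical
  rw [rem, mem_filter]

theorem sum_split [Fintype G] (F : G → ℕ) (hF : ∀ x g, F (g * x * g⁻¹) = F x) {U : Finset G}
    (hU : ∀ x ∈ U, ∀ g, g * x * g⁻¹ ∈ U) {y : G} (hy : y ∈ U) :
    ∑ x ∈ U, F x = (Cx y).index * F y + ∑ x ∈ rem U y, F x := by
  classical
  rw [← sum_class F hF, ← sum_filter_add_sum_filter_not U (IsConj y)]
  congr 2
  · ext x
    simp only [mem_filter, mem_univ, true_and, and_iff_right_iff_imp]
    intro e
    obtain ⟨g, rfl⟩ := isConj_iff.1 e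
    exact hU y hy g
  · ext x
    rw [mem_filter, mem_rem]

theorem closed_rem {U : Finset G} (hU : ∀ x ∈ U, ∀ g, g * x * g⁻¹ ∈ U) (y : G) :
    ∀ x ∈ rem U y, ∀ g, g * x * g⁻¹ ∈ rem U y :=
  fun x hx g => mem_rem.2 ⟨hU x (mem_rem.1 hx).1 g, fun e => (mem_rem.1 hx).2
    (e.trans (isConj_iff.2 ⟨g, rfl⟩).symm)⟩

theorem isPGroup_zpowers {x : G} (hx : x ^ 3 = 1) : IsPGroup 3 (zpowers x) := by
  rintro ⟨_, i, rfl⟩
  exact ⟨1, Subtype.ext (by
    change (x ^ i) ^ 3 ^ 1 = 1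
    rw [pow_one, ← zpow_natCast, ← zpow_mul, mul_comm, zpow_mul, zpow_natCast, hx, one_zpow])⟩

theorem mem_of_cube {S H : Subgroup G} (hS : SylIn 3 S H) {g : G} (hg : g ∈ H) (h3 : g ^ 3 = 1)
    [Finite G] (hn : ∀ s ∈ S, g * s * g⁻¹ ∈ S) : g ∈ S := by
  rw [← hS.eq_of_le (T := zpowers g ⊔ S) (sup_le (zpowers_le.2 hg) hS.le)
    (Nrm.isPGroup_sup (nrm_iff.2 (zpowers_le.2 (mem_normalizer_of_conj_mem hn)))
      (isPGroup_zpowers h3) hS.isPGroup) le_sup_right]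
  exact mem_sup_left (mem_zpowers g)

namespace Nse

variable [Finite G] (h : Nse G)
include h

theorem sq_of_coprime {x u : G} (hx : orderOf x = 3) (hu : u ∈ Cx x)
    (hc : (orderOf u).Coprime 3) : u * u = 1 := by
  have h1 := (show Commute u x from mem_Cx.1 hu).orderOf_mul_eq_mul_orderOf_of_coprime (hx ▸ hc)
  have h2 := h.ord (u * x) (by rw [h1, hx]; exact dvd_mul_left _ _)
  rw [h1, hx] at h2
  rw [← pow_two, ← orderOf_dvd_iff_pow_eq_one]
  have : orderOf u = 1 ∨ orderOf u = 2 := by omega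
  rcases this with e | e <;> simp [e]

theorem sq_of_two {x u : G} (hx : orderOf x = 3) (hu : u ∈ Cx x) {k : ℕ} (e : u ^ 2 ^ k = 1) :
    u * u = 1 :=
  h.sq_of_coprime hx hu (Nat.Coprime.coprime_dvd_left (orderOf_dvd_of_pow_eq_one e)
    (Nat.Coprime.pow_left k (by norm_num)))

theorem pow_six {x u : G} (hx : orderOf x = 3) (hu : u ∈ Cx x) : (u ^ 2) ^ 3 = 1 := by
  by_cases h3 : 3 ∣ orderOf u
  · rw [← pow_mul, ← orderOf_dvd_iff_pow_eq_one]
    rcases h.ord u h3 with e | e <;> simp [e]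
  · rw [pow_two, h.sq_of_coprime hx hu ((Nat.Prime.coprime_iff_not_dvd Nat.prime_three).2 h3).symm,
      one_pow]

theorem prime_Cx {x : G} (hx : orderOf x = 3) {K : Subgroup G} (hK : K ≤ Cx x) (r : ℕ)
    (hr : r.Prime) (hd : r ∣ Nat.card K) : r = 2 ∨ r = 3 := by
  by_contra hc
  push Not at hc
  haveI := Fact.mk hr
  obtain ⟨u, hu⟩ := exists_prime_orderOf_dvd_card' r hd
  have h1 := h.sq_of_coprime hx (hK u.2)
    (by rw [orderOf_coe, hu]; exact (Nat.coprime_primes hr Nat.prime_three).2 hc.2)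
  have : orderOf u.1 ∣ 2 := orderOf_dvd_of_pow_eq_one (by rw [pow_two, h1])
  rw [orderOf_coe, hu] at this
  exact hc.1 ((Nat.prime_dvd_prime_iff_eq hr Nat.prime_two).1 this)

theorem three_dvd_index {K : Subgroup G} (hK : ¬ 27 ∣ Nat.card K) : 3 ∣ K.index := by
  by_contra hc
  have h1 := K.card_mul_index
  rw [h.card] at h1
  exact hK ((((Nat.Prime.coprime_iff_not_dvd Nat.prime_three).2 hc).pow_left 3).dvd_of_dvd_mul_right
    (h1 ▸ by norm_num))

theorem dvd_kappa {x : G} (hx : orderOf x = 3) (h27 : ¬ 27 ∣ Nat.card (Cx x)) :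
    10560 ∣ (Cx x).index * inv2 (Cx x) := by
  have h1 := dvd_index_mul (G := G) (p := 2) (a := 6) Nat.prime_two (by rw [h.card]; norm_num)
    (by rw [h.card]; norm_num) (Cx x)
  have h2 : ∀ j, nord (Cx x) (2 ^ (j + 1 + 1)) = 0 := fun j => nord_eq_zero_iff.2 fun u hu => by
    have h3 := h.sq_of_two hx u.2 (k := j + 1 + 1)
      (by rw [← hu, ← orderOf_coe, pow_orderOf_eq_one])
    have h4 : orderOf u.1 ∣ 2 ^ 1 := orderOf_dvd_of_pow_eq_one (by rw [pow_one, pow_two, h3])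
    rw [orderOf_coe, hu, Nat.pow_dvd_pow_iff_le_right (by norm_num)] at h4
    omega
  rw [sum_range_succ', sum_range_succ', sum_eq_zero fun j _ => h2 j, zero_add, zero_add, pow_one,
    pow_zero, nord_one, add_comm, ← inv2_eq] at h1
  have h3 := (Cx x).card_mul_index
  rw [h.card] at h3
  have key : ∀ r, r = 5 ∨ r = 11 → r ∣ (Cx x).index := fun r hr => by
    have hp : r.Prime := by rcases hr with rfl | rfl <;> norm_num
    refine ((Nat.Prime.dvd_mul hp).1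
      (h3 ▸ (by rcases hr with rfl | rfl <;> norm_num : r ∣ 95040))).resolve_left fun e => ?_
    have := h.prime_Cx hx le_rfl r hp e
    omega
  have h4 := (key 5 (by simp)).mul_right (inv2 (Cx x))
  have h5 := (key 11 (by simp)).mul_right (inv2 (Cx x))
  have h6 := (h.three_dvd_index h27).mul_right (inv2 (Cx x))
  exact Nat.Coprime.mul_dvd_of_dvd_of_dvd (by norm_num : Nat.Coprime (2 ^ 6 * 5 * 11) 3)
    (Nat.Coprime.mul_dvd_of_dvd_of_dvd (by norm_num)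
      (Nat.Coprime.mul_dvd_of_dvd_of_dvd (by norm_num) h1 h4) h5) h6

theorem sum_inv2 [Fintype G] :
    ∑ x ∈ univ.filter (fun x : G => orderOf x = 3), inv2 (Cx x) = 28160 ∧
      ∑ _x ∈ univ.filter (fun x : G => orderOf x = 3), 1 = 4400 := by
  have h1 := nord_mul_coprime (G := G) (m := 3) (k := 2) (by norm_num)
  have h2 : ∑ _x ∈ univ.filter (fun x : G => orderOf x = 3), 1 = 4400 := by
    rw [← card_eq_sum_ones, ← h.n3, nord, Nat.card_eq_fintype_card, Fintype.card_subtype]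
  simp only [inv2_eq, sum_add_distrib]
  rw [← h1, h.n6, h2]
  exact ⟨rfl, rfl⟩

variable {S : Subgroup G} (hS : SylIn 3 S ⊤)
include hS

theorem card_syl : Nat.card S = 27 := by
  haveI : Fact (Nat.Prime 3) := ⟨Nat.prime_three⟩
  obtain ⟨P, rfl⟩ := hS.exists_sylow
  rw [P.card_eq_multiplicity, h.card]
  decide +kernel

theorem ord_syl {s : G} (hs : s ∈ S) (h1 : s ≠ 1) : orderOf s = 3 := by
  have h2 := S.orderOf_dvd_natCard hs
  rw [h.card_syl hS] at h2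
  have h3 := h.ord s
  have h4 := mt orderOf_eq_one_iff.1 h1
  have h5 := Nat.le_of_dvd (by norm_num) h2
  generalize orderOf s = n at *
  interval_cases n <;> omega

theorem cube_syl (s : G) (hs : s ∈ S) : s ^ 3 = 1 := by
  by_cases h1 : s = 1
  · simp [h1]
  · rw [← h.ord_syl hS hs h1, pow_orderOf_eq_one]

theorem lemK1 {x : G} (hx : x ∈ S) (hx1 : x ≠ 1) (hC : S ≤ Cx x) :
    inv2 (Cx x) = (normalizer (S : Set G)).relIndex (Cx x) *
      inv2 ↥(normalizer (S : Set G) ⊓ Cx x) ∧ ∀ g ∈ Cx x, ∀ a ∈ S, g * a * g⁻¹ ∈ S →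
      ∃ n ∈ normalizer (S : Set G) ⊓ Cx x, n * a * n⁻¹ = g * a * g⁻¹ := by
  have x3 := h.ord_syl hS hx hx1
  obtain ⟨h1, h2⟩ := lemK (G := Cx x) (h.prime_Cx x3 le_rfl)
    (fun u k e => Subtype.ext (h.sq_of_two x3 u.2 (congrArg Subtype.val e)))
    (P := S.subgroupOf (Cx x)) (sylIn_top_of_sylow (hS.of_le hC le_top).toSylow)
    (by rw [Nat.card_congr (subgroupOfEquivOfLe hC).toEquiv, h.card_syl hS])
    (x := ⟨x, hC hx⟩) (fun e => hx1 (congrArg Subtype.val e)) hx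
    fun g => Subtype.ext (mem_Cx.1 g.2)
  rw [← subgroupOf_normalizer_eq hC] at h1 h2
  refine ⟨?_, fun g hg a ha e => ?_⟩
  · rw [h1, ← inv2_congr (subgroupOfEquivOfLe (inf_le_right : normalizer (S : Set G) ⊓ Cx x ≤ _)),
      inf_subgroupOf_right]
    rfl
  · obtain ⟨n, hn, e⟩ := h2 ⟨g, hg⟩ ⟨a, hC ha⟩ ha e
    exact ⟨n, ⟨hn, n.2⟩, congrArg Subtype.val e⟩

theorem exists_E {x : G} (hx : orderOf x = 3) {L : Subgroup G} (hSL : S ≤ L) (hN : Nrm L S)
    (hL : L ≤ Cx x) : ∃ E ≤ L, (∀ e ∈ E, e * e = 1) ∧ S ⊓ E = ⊥ ∧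
      Nat.card L = Nat.card E * 27 ∧ (∀ g ∈ L, ∃ e ∈ E, ∃ s ∈ S, g = e * s) ∧
      ∀ u ∈ L, u * u = 1 → ∃ s ∈ S, ∃ e ∈ E, s * e * s⁻¹ = u := by
  haveI : Fact (Nat.Prime 2) := ⟨Nat.prime_two⟩
  obtain ⟨E, hE⟩ := exists_sylIn 2 L
  have h1 : ∀ e ∈ E, e * e = 1 := fun e he => by
    obtain ⟨k, hk⟩ := hE.isPGroup ⟨e, he⟩
    exact h.sq_of_two hx (hL (hE.le he)) (congrArg Subtype.val hk)
  have h2 : S ⊓ E = ⊥ :=
    (IsPGroup.disjoint_of_ne 3 2 (by norm_num) S E hS.isPGroup hE.isPGroup).eq_bot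
  have h3 : ∀ g ∈ L, ∃ e ∈ E, ∃ s ∈ S, g = e * s := fun g hg =>
    hE.exists_mul hSL hN (fun g hg => ⟨1, mem_of_cube hS trivial (h.pow_six hx (hL hg))
      (hN _ (pow_mem hg _))⟩) hg
  refine ⟨E, hE.le, h1, h2, ?_, h3, fun u hu u2 => ?_⟩
  · rw [← h.card_syl hS, ← Nat.card_prod]
    refine (Nat.card_eq_of_bijective (fun p : E × S => (⟨p.1 * p.2, mul_mem (hE.le p.1.2)
      (hSL p.2.2)⟩ : L)) ⟨?_, fun g => ?_⟩).symm
    · rintro ⟨e, s⟩ ⟨e', s'⟩ e1
      have e2 : (e : G) * s = e' * s' := congrArg Subtype.val e1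
      have e3 : ((e' : G)⁻¹ * e : G) = s' * (s : G)⁻¹ := by
        rw [inv_mul_eq_iff_eq_mul, ← mul_assoc, ← e2, mul_inv_cancel_right]
      have e4 : ((e' : G)⁻¹ * e : G) = 1 := mem_bot.1 (h2 ▸ mem_inf.2 ⟨e3 ▸ mul_mem s'.2 (inv_mem s.2),
        mul_mem (inv_mem e'.2) e.2⟩)
      exact Prod.ext (Subtype.ext (inv_mul_eq_one.1 e4).symm)
        (Subtype.ext (mul_inv_eq_one.1 (e3 ▸ e4)).symm)
    · obtain ⟨e, he, s, hs, e1⟩ := h3 g g.2
      exact ⟨(⟨e, he⟩, ⟨s, hs⟩), Subtype.ext e1.symm⟩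
  · obtain ⟨g, hg, h4⟩ := hE.exists_le_cj (zpowers_le.2 hu) (IsPGroup.of_card_dvd_pow (n := 1) (by
      rw [Nat.card_zpowers, pow_one]; exact orderOf_dvd_of_pow_eq_one (by rw [pow_two, u2])))
    obtain ⟨e, he, s, hs, e1⟩ := h3 g⁻¹ (inv_mem hg)
    refine ⟨s⁻¹, inv_mem hs, e⁻¹ * (g⁻¹ * u * g) * e, mul_mem (mul_mem (inv_mem he)
      (mem_cj.1 (h4 (mem_zpowers u)))) he, ?_⟩
    rw [← inv_inv g, e1]
    group

end Nse

end CfsgH8.M12
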