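import Cfsg.Agent.H8.M12RecA

set_option autoImplicit false

/-! Recognition of `M12` from the order statistics: Sylow `3`-subgroups are not abelian. -/

namespace CfsgH8.M12

open Subgroup Finset CfsgH5 CfsgH6

variable {G : Type*} [Group G]

open Classical in
theorem card_sharp [Fintype G] (K : Subgroup G) :
    #(univ.filter fun x => x ∈ K ∧ x ≠ 1) + 1 = Nat.card K := by
  rw [Nat.card_eq_fintype_card, Fintype.card_subtype, ← card_erase_add_one (a := 1)
    (s := univ.filter fun x => x ∈ K) (by simp)]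
  congr 2
  ext x
  simp [and_comm]

namespace Nse

variable [Fintype G] (h : Nse G)
include h

open Classical in
theorem bound {S : Subgroup G} (hS : SylIn 3 S ⊤) (hc : ∀ a ∈ S, ∀ b ∈ S, a * b = b * a) :
    Nat.card (normalizer (S : Set G)) ≤ 3 * ∑ x ∈ univ.filter (fun x => x ∈ S ∧ x ≠ 1),
      inv2 ↥(normalizer (S : Set G) ⊓ Cx x) := by
  obtain ⟨N, hN⟩ : ∃ N, N = normalizer (S : Set G) := ⟨_, rfl⟩
  have h1 : S ≤ N := hN ▸ le_normalizer
  have h2 : Nrm N S := hN ▸ nrm_normalizer S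
  rw [← hN]
  have key : ∀ d, ¬ d ∣ 26 → ∃ x ∈ S, x ≠ 1 ∧ ¬ d ∣ (Cx x).relIndex N := fun d hd => by
    by_contra h3
    push Not at h3
    have h4 := dvd_sum_class (G := N) (d := d) (univ.filter fun x => x ∈ S.subgroupOf N ∧ x ≠ 1)
      (fun x hx g => by
        simp only [mem_filter, mem_univ, true_and] at hx ⊢
        exact ⟨h2 g g.2 x hx.1, by simpa using hx.2⟩) (fun _ => 1) (fun _ _ => rfl) fun x hx => by
        rw [mul_one, show centralizer ({x} : Set N) = (Cx x.1).subgroupOf N by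
          ext y; rw [mem_subgroupOf, mem_Cx, mem_Cx, Subtype.ext_iff]; rfl]
        exact h3 x (mem_filter.1 hx).2.1 fun e => (mem_filter.1 hx).2.2 (Subtype.ext e)
    have h5 := card_sharp (S.subgroupOf N)
    rw [Nat.card_congr (subgroupOfEquivOfLe h1).toEquiv, h.card_syl hS] at h5
    rw [← card_eq_sum_ones] at h4
    exact hd (h4.trans (dvd_of_eq (Nat.add_right_cancel (m := 1) (by convert h5))))
  have h3 : ∀ x, (Cx x).relIndex N * Nat.card ↥(N ⊓ Cx x) = Nat.card N := fun x => by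
    rw [← relIndex_mul_card (inf_le_left : N ⊓ Cx x ≤ N), inf_relIndex_left]
  have h4 : ∀ r, r = 5 ∨ r = 11 → ¬ r ∣ Nat.card N := fun r hr => by
    have hp : r.Prime := by rcases hr with rfl | rfl <;> norm_num
    obtain ⟨x, hx, hx1, h5⟩ := key r (by rcases hr with rfl | rfl <;> norm_num)
    rw [← h3 x, hp.dvd_mul]
    refine fun e => e.elim h5 fun e => ?_
    have := h.prime_Cx (h.ord_syl hS hx hx1) inf_le_right r hp e
    omega
  have hC : ∀ x ∈ S, S ≤ Cx x := fun x hx s hs => mem_Cx.2 (hc s hs x hx)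
  obtain ⟨x, hx, hx1, h5⟩ := key 4 (by norm_num)
  obtain ⟨E, e1, e2, e3, e4, -, -⟩ := h.exists_E hS (h.ord_syl hS hx hx1) (le_inf h1 (hC x hx))
    (h2.mono inf_le_left) inf_le_right
  have h6 : (Cx x).relIndex N ≤ 2 := by
    have h6 := h3 x
    have h7 := h.card ▸ card_subgroup_dvd_card N
    have h8 := h4 5 (by simp)
    have h9 := h4 11 (by simp)
    rw [← h6, e4, ← mul_assoc] at h7 h8 h9
    exact (by decide +kernel : ∀ m ∈ (3520 : ℕ).divisors, ¬ 4 ∣ m → ¬ 5 ∣ m → ¬ 11 ∣ m → m ≤ 2) _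
      (Nat.mem_divisors.2 ⟨(dvd_mul_right _ _).trans (Nat.dvd_of_mul_dvd_mul_right (by norm_num)
        (show _ * 27 ∣ 3520 * 27 from h7)), by norm_num⟩) h5
      (fun e => h8 ((e.mul_right _).mul_right _)) fun e => h9 ((e.mul_right _).mul_right _)
  have h7 : ∀ y ∈ univ.filter (fun x => x ∈ S ∧ x ≠ 1),
      ∑ e ∈ univ.filter (fun e => e ∈ E ⊓ Cx y), (Cx e).relIndex S ≤ inv2 ↥(N ⊓ Cx y) :=
    fun y hy => by
      rw [sum_subtype (p := fun e => e ∈ E ⊓ Cx y) _ (by simp)]
      exact (sum_le_inv2 (le_inf h1 (hC y (mem_filter.1 hy).2.1))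
        (inf_le_inf_right _ (e1.trans inf_le_left)) (h2.mono (inf_le_left.trans
          (e1.trans inf_le_left))) (by rw [← inf_assoc, e3, bot_inf_eq]) fun e he => e2 e he.1).1
  have h8 := sum_le_sum h7
  rw [sum_comm' (t' := univ.filter fun e => e ∈ E)
    (s' := fun e => univ.filter fun y => y ∈ S ⊓ Cx e ∧ y ≠ 1) (fun y e => by
      simp only [mem_filter, mem_univ, true_and, Subgroup.mem_inf, mem_Cx, eq_comm (a := e * y)]
      tauto)] at h8
  have h9 := card_nsmul_le_sum (univ.filter fun e => e ∈ E) (fun e => ∑ _y ∈ univ.filter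
    (fun y => y ∈ S ⊓ Cx e ∧ y ≠ 1), (Cx e).relIndex S) 18 fun e he => by
      have h9 := card_sharp (S ⊓ Cx e)
      have h10 := relIndex_mul_card (inf_le_left : S ⊓ Cx e ≤ S)
      have h11 := card_pos.2 (show (univ.filter fun y => y ∈ S ⊓ Cx e ∧ y ≠ 1).Nonempty from
        ⟨x, mem_filter.2 ⟨mem_univ _, ⟨hx, mem_Cx.2 (mem_Cx.1 (e1 (mem_filter.1 he).2).2).symm⟩,
          hx1⟩⟩)
      rw [inf_relIndex_left, h.card_syl hS, ← h9] at h10
      rw [sum_const, smul_eq_mul]
      generalize #(univ.filter fun y => y ∈ S ⊓ Cx e ∧ y ≠ 1) = k at h10 h11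
      generalize (Cx e).relIndex S = r at h10
      have h12 := Nat.le_of_dvd (by norm_num) (Dvd.intro _ h10)
      interval_cases r <;> omega
  rw [← Fintype.card_subtype, ← Nat.card_eq_fintype_card, smul_eq_mul] at h9
  have h10 := h9.trans h8
  rw [← h3 x, e4]
  calc _ ≤ 2 * (Nat.card E * 27) := Nat.mul_le_mul_right _ h6
    _ = 3 * (Nat.card E * 18) := by ring
    _ ≤ _ := Nat.mul_le_mul_left _ h10

open Classical in
theorem not_comm {S : Subgroup G} (hS : SylIn 3 S ⊤) : ¬ ∀ a ∈ S, ∀ b ∈ S, a * b = b * a := by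
  intro hc
  haveI : Fact (Nat.Prime 3) := ⟨Nat.prime_three⟩
  have := Fintype.ofFinite (Sylow 3 G)
  have h1 : ∀ P : Sylow 3 G, ∀ a ∈ (P : Subgroup G), ∀ b ∈ (P : Subgroup G), a * b = b * a := by
    intro P
    obtain ⟨g, -, e⟩ := hS.conj (sylIn_top_of_sylow P)
    rw [← e]
    rintro _ ⟨a, ha, rfl⟩ _ ⟨b, hb, rfl⟩
    rw [← map_mul, hc a ha b hb, map_mul]
  have h2 := sum_le_sum fun (P : Sylow 3 G) (_ : P ∈ univ) =>
    h.bound (sylIn_top_of_sylow P) (h1 P)
  have h3 : ∑ P : Sylow 3 G, Nat.card (normalizer ((P : Subgroup G) : Set G)) = 95040 := by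
    refine Nat.eq_of_mul_eq_mul_left (Nat.card_pos (α := Sylow 3 G)) ?_
    rw [mul_sum, sum_const_nat (m := 95040) fun P _ => ?_, card_univ, Nat.card_eq_fintype_card]
    rw [P.card_eq_index_normalizer, ← h.card]
    exact index_mul_card _
  rw [h3, ← mul_sum, sum_comm' (t' := univ.filter fun x : G => orderOf x = 3)
    (s' := fun x => univ.filter fun P : Sylow 3 G => x ∈ (P : Subgroup G)) (fun P x => by
      simp only [mem_filter, mem_univ, true_and]
      exact and_congr_right fun hx => ⟨h.ord_syl (sylIn_top_of_sylow P) hx, by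
        rintro e rfl; simp at e⟩)] at h2
  have h4 := sum_le_sum fun x (hx : x ∈ univ.filter fun x : G => orderOf x = 3) => show
      ∑ P ∈ univ.filter fun P : Sylow 3 G => x ∈ (P : Subgroup G),
        inv2 ↥(normalizer ((P : Subgroup G) : Set G) ⊓ Cx x) ≤ inv2 (Cx x) by
    have hC : ∀ P : Sylow 3 G, x ∈ (P : Subgroup G) → (P : Subgroup G) ≤ Cx x :=
      fun P hx s hs => mem_Cx.2 (h1 P s hs x hx)
    refine Nat.le_of_mul_le_mul_left ?_ (Nat.card_pos (α := Sylow 3 (Cx x)))
    rw [mul_sum, sum_const_nat (m := inv2 (Cx x)) fun P hP => ?_]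
    · refine Nat.mul_le_mul_right _ ?_
      rw [← Fintype.card_subtype, ← Nat.card_eq_fintype_card]
      exact Nat.card_le_card_of_injective (fun P => P.1.subtype (hC P P.2))
        fun P Q e => Subtype.ext (Sylow.subtype_injective e)
    · have h5 := (mem_filter.1 hP).2
      rw [(h.lemK1 (sylIn_top_of_sylow P) h5 (by
        rintro rfl; simpa using (mem_filter.1 hx).2) (hC P h5)).1,
        (P.subtype (hC P h5)).card_eq_index_normalizer, relIndex, subgroupOf_normalizer_eq (hC P h5)]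
      rfl
  have h5 := h2.trans (Nat.mul_le_mul_left 3 h4)
  rw [h.sum_inv2.1] at h5
  omega

end Nse

end CfsgH8.M12
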