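import Cfsg.Agent.H8.M12RecB
import Cfsg.Agent.H8.Hs27

set_option autoImplicit false

/-! Recognition of `M12` from the order statistics: classes of elements of order three. -/

namespace CfsgH8.M12

open Subgroup Finset CfsgH5 CfsgH6

variable {G : Type*} [Group G]

theorem S_le {S : Subgroup G} {z : G} (hz : Hs S z) : S ≤ Cx z :=
  fun s hs => mem_Cx.2 (hz.zc s hs)

attribute [local irreducible] inv2

namespace Nse

variable [Fintype G] (h : Nse G) {S : Subgroup G} {z : G} (hS : SylIn 3 S ⊤) (hz : Hs S z)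
include h hS hz

theorem kappa_cases : ((Cx z).index * inv2 (Cx z) = 3520 ∧
    ∀ g ∈ Cx z, ∀ a ∈ S, g * a * g⁻¹ ∈ S → ∃ s ∈ S, s * a * s⁻¹ = g * a * g⁻¹) ∨
    ((Cx z).index * inv2 (Cx z) = 17600 ∧ ∃ e ∈ Cx z, e * e = 1 ∧ S ⊓ Cx e = zpowers z) := by
  classical
  obtain ⟨k1, k2⟩ := h.lemK1 hS hz.zS hz.z1 (S_le hz)
  have h0 := relIndex_mul_index (inf_le_right : normalizer (S : Set G) ⊓ Cx z ≤ _)
  rw [inf_relIndex_right] at h0
  rw [k1, ← mul_assoc, mul_comm (Cx z).index, h0]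
  have h1 : S ≤ normalizer (S : Set G) ⊓ Cx z := le_inf le_normalizer (S_le hz)
  have h2 : Nrm (normalizer (S : Set G) ⊓ Cx z) S := (nrm_normalizer S).mono inf_le_left
  have h3 : normalizer (S : Set G) ⊓ Cx z ≤ Cx z := inf_le_right
  generalize normalizer (S : Set G) ⊓ Cx z = L at h1 h2 h3 k2
  obtain ⟨E, e1, e2, e3, e4, e5, e6⟩ := h.exists_E hS (h.ord_syl hS hz.zS hz.z1) h1 h2 h3
  rw [← (sum_le_inv2 h1 e1 (h2.mono e1) e3 e2).2 e6]
  have h4 : L.index * Nat.card E = 3520 := by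
    have h4 := L.index_mul_card
    rw [e4, h.card, ← mul_assoc] at h4
    omega
  have r1 : ∀ e, (∀ s ∈ S, s * e = e * s) → (Cx e).relIndex S = 1 := fun e he =>
    relIndex_eq_one.2 fun s hs => mem_Cx.2 (he s hs)
  have r9 : ∀ e, S ⊓ Cx e = zpowers z → (Cx e).relIndex S = 9 := fun e he => by
    have h5 := relIndex_mul_card (inf_le_left : S ⊓ Cx e ≤ S)
    rw [inf_relIndex_left, he, hz.card, hz.card_z] at h5
    omega
  have fc : ∀ e ∈ E, _ := fun e he => hz.fix_cases (h2 e (e1 he)) (e2 e he) (mem_Cx.1 (h3 (e1 he)))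
  by_cases h5 : ∀ e ∈ E, ∀ s ∈ S, s * e = e * s
  · refine Or.inl ⟨?_, fun g hg a ha h6 => ?_⟩
    · rw [sum_const_nat (m := 1) fun (e : E) _ => r1 e.1 (h5 e e.2), card_univ, ← Nat.card_eq_fintype_card,
        mul_one, h4]
    · obtain ⟨n, hn, h7⟩ := k2 g hg a ha h6
      obtain ⟨e, he, s, hs, rfl⟩ := e5 n hn
      refine ⟨s, hs, ?_⟩
      rw [← h7, ← h5 e he s hs, show s * e * a * (s * e)⁻¹ = s * (e * a) * e⁻¹ * s⁻¹ by group,
        ← h5 e he a ha]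
      group
  push Not at h5
  obtain ⟨u, hu, h5⟩ := h5
  have h6 := (fc u hu).resolve_left (by push Not; exact h5)
  refine Or.inr ⟨?_, u, h3 (e1 hu), e2 u hu, h6⟩
  have h7 : ∀ e : E, (Cx e.1).relIndex S + (Cx (Equiv.mulLeft ⟨u, hu⟩ e).1).relIndex S = 10 := by
    intro e
    change _ + (Cx (u * e)).relIndex S = 10
    rcases fc e e.2 with h7 | h7
    · rw [r1 _ h7, r9]
      rw [← h6]
      ext s
      rw [Subgroup.mem_inf, Subgroup.mem_inf]
      refine and_congr_right fun hs => ?_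
      rw [mem_Cx, mem_Cx, mul_assoc u, ← h7 s hs, ← mul_assoc, ← mul_assoc, mul_left_inj]
    · rw [r9 _ h7, r1 _ ((fc _ (mul_mem hu e.2)).resolve_right fun h8 => ?_)]
      obtain ⟨s, hs, hs'⟩ := hz.exists_not
      have ht := h2 e (e1 e.2) s hs
      have i1 := hz.inv_mod (h2 e (e1 e.2)) (e2 e e.2) h7 hs
      have i2 := hz.inv_mod (h2 u (e1 hu)) (e2 u hu) h6 ht
      have i3 := hz.inv_mod (h2 _ (e1 (mul_mem hu e.2))) (e2 _ (mul_mem hu e.2)) h8 hs
      have i4 := hz.mem_of_sq ht (K := zpowers z) (by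
        convert mul_mem (inv_mem (mul_mem i3 (inv_mem i2))) i1 using 1
        group)
      exact hs' (by simpa only [mul_inv_cancel_right] using mul_mem i1 (inv_mem i4))
  have h8 := sum_const_nat (s := univ) fun e _ => h7 e
  rw [sum_add_distrib, Equiv.sum_comp (Equiv.mulLeft (⟨u, hu⟩ : E))
    fun e : E => (Cx e.1).relIndex S, card_univ, ← Nat.card_eq_fintype_card] at h8
  rw [show ∑ e : E, (Cx e.1).relIndex S = Nat.card E * 5 by omega, ← mul_assoc, h4]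
  rfl

theorem exists_hs' {x : G} (hx : orderOf x = 3) (h27 : 27 ∣ Nat.card (Cx x)) {X : Subgroup G}
    (hX : X ≤ Cx x) (hX' : IsPGroup 3 X) :
    ∃ S', X ≤ S' ∧ SylIn 3 S' ⊤ ∧ Hs S' x ∧ (IsConj z x ∨ IsConj z⁻¹ x) := by
  haveI : Fact (Nat.Prime 3) := ⟨Nat.prime_three⟩
  obtain ⟨S', h1, h2⟩ := exists_sylIn_ge hX hX'
  have h3 : x ∈ S' := mem_of_cube h2 (mem_Cx.2 rfl) (by rw [← hx, pow_orderOf_eq_one]) fun s hs => by
    rwa [← mem_Cx.1 (h2.le hs), mul_inv_cancel_right]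
  have h4 : SylIn 3 S' ⊤ := hS.of_card_le le_top h2.isPGroup (hz.card ▸ Nat.le_of_dvd Nat.card_pos
    ((((Nat.Prime.coprime_iff_not_dvd Nat.prime_three).2 h2.not_dvd_relIndex).pow_left
      3).dvd_of_dvd_mul_left (relIndex_mul_card h2.le ▸ h27)))
  obtain ⟨g, -, rfl⟩ := hS.conj h4
  have h5 := hz.cjj g
  refine ⟨_, h1, h4, ?_⟩
  rcases mem_zpowers_three h5.z3 (h5.cen x h3 fun s hs => mem_Cx.1 (h2.le hs)) with e | e | e
  · simp [e] at hx
  · exact ⟨e ▸ h5, Or.inl (isConj_iff.2 ⟨g, e.symm⟩)⟩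
  · exact ⟨e ▸ h5.inv, Or.inr (isConj_iff.2 ⟨g, by rw [e]; group⟩)⟩

omit h hS hz in
theorem closed_T : ∀ x ∈ univ.filter (fun x : G => orderOf x = 3), ∀ g,
    g * x * g⁻¹ ∈ univ.filter (fun x : G => orderOf x = 3) := fun x hx g => by
  simp only [mem_filter, mem_univ, true_and] at hx ⊢
  rw [← MulAut.conj_apply, MulEquiv.orderOf_eq, hx]

omit hS hz in
theorem le_kappa {x : G} (hx : orderOf x = 3) (h27 : ¬ 27 ∣ Nat.card (Cx x)) :
    10560 ≤ (Cx x).index * inv2 (Cx x) :=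
  Nat.le_of_dvd (Nat.mul_pos (Nat.pos_of_ne_zero index_ne_zero_of_finite) inv2_pos)
    (h.dvd_kappa hx h27)

theorem real : IsConj z z⁻¹ := by
  classical
  haveI : Fact (Nat.Prime 3) := ⟨Nat.prime_three⟩
  by_contra nr
  have z3 := h.ord_syl hS hz.zS hz.z1
  have z27 : 27 ∣ Nat.card (Cx z) := hz.card ▸ card_dvd_of_le (S_le hz)
  have c0 := closed_T (G := G)
  have c1 := closed_rem c0 z
  have c2 := closed_rem c1 z⁻¹
  have s0 := h.sum_inv2.1
  rw [sum_split _ inv2_conj c0 (y := z) (mem_filter.2 ⟨mem_univ _, z3⟩),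
    sum_split _ inv2_conj c1 (y := z⁻¹)
      (mem_rem.2 ⟨mem_filter.2 ⟨mem_univ _, by rw [orderOf_inv, z3]⟩, nr⟩), Cx_inv] at s0
  have fu := ((h.kappa_cases hS hz).resolve_right fun e => by omega)
  rw [fu.1] at s0
  have nc : ∀ a ∈ S, a ∉ zpowers z → ¬ 27 ∣ Nat.card (Cx a) := fun a ha ha' e => by
    obtain ⟨S', h1, -, h2, -⟩ := h.exists_hs' hS hz (h.ord_syl hS ha fun e => ha' (e ▸ one_mem _)) e
      (zpowers_le.2 (mem_Cx.2 (hz.zc a ha).symm)) (isPGroup_zpowers hz.z3)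
    exact nr (hz.real h2 ha ha' (h1 (mem_zpowers z)))
  have fus : ∀ a ∈ S, ∀ b ∈ S, b ∉ zpowers z → IsConj a b → b * a⁻¹ ∈ zpowers z := by
    intro a ha b hb hb' e
    obtain ⟨g, e⟩ := isConj_iff.1 e
    have h1 : SylIn 3 (S ⊓ Cx b) (Cx b) := sylIn_of_not_dvd inf_le_right hS.isPGroup.to_inf_left
      fun e => nc b hb hb' (by
        rw [← relIndex_mul_card (inf_le_right : S ⊓ Cx b ≤ _), (hz.bas hb hb').card]
        exact Nat.mul_dvd_mul_right e 9)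
    obtain ⟨c, hc, h2⟩ := h1.exists_le_cj (X := zpowers (g * z * g⁻¹)) (zpowers_le.2 (mem_Cx.2 (by
      rw [← e, conj_mul, conj_mul, hz.zc a ha]))) (isPGroup_zpowers (by rw [conj_pow, hz.z3]; simp))
    have h3 := (mem_cj.1 (h2 (mem_zpowers _))).1
    have h4 : IsConj z (c⁻¹ * (g * z * g⁻¹) * c) := isConj_iff.2 ⟨c⁻¹ * g, by group⟩
    have h5 : c⁻¹ * (g * z * g⁻¹) * c ∈ zpowers z := by
      by_contra h5
      exact nc _ h3 h5 (card_Cx_of_isConj h4 ▸ z27)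
    have h6 : c⁻¹ * g * a * (c⁻¹ * g)⁻¹ = b := by
      calc _ = c⁻¹ * (g * a * g⁻¹) * c := by group
        _ = _ := by rw [e, mul_assoc, ← mem_Cx.1 hc, inv_mul_cancel_left]
    rcases mem_zpowers_three hz.z3 h5 with h7 | h7 | h7
    · exact absurd (isConj_one_left.1 (h7 ▸ h4)) hz.z1
    · obtain ⟨s, hs, h8⟩ := fu.2 (c⁻¹ * g) (mem_Cx.2 (by
        calc _ = c⁻¹ * (g * z * g⁻¹) * c * (c⁻¹ * g) := by group
          _ = _ := by rw [h7])) a ha (h6 ▸ hb)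
      rw [← h6, ← h8]
      exact hz.comm s hs a ha
    · exact absurd (h7 ▸ h4) nr
  obtain ⟨a, ha, ha'⟩ := hz.exists_not
  obtain ⟨b, hb, hab⟩ := hz.exists_not_comm ha ha'
  have hb' : b ∉ zpowers z := fun e => hab (hz.comm_z e ha).symm
  have hi : a⁻¹ ∉ zpowers z := fun e => ha' (inv_mem_iff.1 e)
  have o3 : ∀ a ∈ S, a ∉ zpowers z → orderOf a = 3 := fun a ha ha' =>
    h.ord_syl hS ha fun e => ha' (e ▸ one_mem _)
  have m2 : ∀ a ∈ S, a ∉ zpowers z → 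
      a ∈ rem (rem (univ.filter fun x : G => orderOf x = 3) z) z⁻¹ := fun a ha ha' =>
    mem_rem.2 ⟨mem_rem.2 ⟨mem_filter.2 ⟨mem_univ _, o3 a ha ha'⟩,
      fun e => nc a ha ha' (card_Cx_of_isConj e ▸ z27)⟩,
      fun e => nc a ha ha' (card_Cx_of_isConj e ▸ (Cx_inv z).symm ▸ z27)⟩
  have c3 := closed_rem c2 a
  have n1 : ∀ a' ∈ S, Commute a' a → ¬ IsConj a' b := fun a' h1 h2 e => hab (by
    have := (show Commute a _ from hz.comm_z (fus a' h1 b hb hb' e) ha).mul_right h2.symm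
    rw [inv_mul_cancel_right] at this
    exact this.symm)
  rw [sum_split _ inv2_conj c2 (m2 a ha ha'), sum_split _ inv2_conj c3 (y := a⁻¹)
    (mem_rem.2 ⟨m2 _ (inv_mem ha) hi, fun e => hi (hz.mem_of_sq (inv_mem ha)
      (fus a ha _ (inv_mem ha) hi e))⟩), sum_split _ inv2_conj (closed_rem c3 a⁻¹) (y := b)
    (mem_rem.2 ⟨mem_rem.2 ⟨m2 b hb hb', n1 a ha (Commute.refl a)⟩,
      n1 _ (inv_mem ha) (Commute.refl a).inv_left⟩)] at s0
  have := h.le_kappa (o3 a ha ha') (nc a ha ha')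
  have := h.le_kappa (o3 _ (inv_mem ha) hi) (nc _ (inv_mem ha) hi)
  have := h.le_kappa (o3 b hb hb') (nc b hb hb')
  omega

theorem nums : Nat.card (Cx z) = 54 ∧ (∃ e ∈ Cx z, e * e = 1 ∧ S ⊓ Cx e = zpowers z) ∧
    ∀ y, orderOf y = 3 → ¬ IsConj z y → Nat.card (Cx y) = 36 ∧ inv2 (Cx y) = 4 := by
  classical
  have z3 := h.ord_syl hS hz.zS hz.z1
  have c0 := closed_T (G := G)
  have c1 := closed_rem c0 z
  obtain ⟨s0, s1⟩ := h.sum_inv2
  rw [sum_split _ inv2_conj c0 (y := z) (mem_filter.2 ⟨mem_univ _, z3⟩)] at s0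
  rw [sum_split _ (fun _ _ => rfl) c0 (y := z) (mem_filter.2 ⟨mem_univ _, z3⟩)] at s1
  have nc : ∀ y ∈ rem (univ.filter fun x : G => orderOf x = 3) z,
      orderOf y = 3 ∧ ¬ 27 ∣ Nat.card (Cx y) := fun y hy => by
    obtain ⟨h1, h2⟩ := mem_rem.1 hy
    refine ⟨(mem_filter.1 h1).2, fun e => ?_⟩
    obtain ⟨-, -, -, -, h3⟩ := h.exists_hs' hS hz (mem_filter.1 h1).2 e bot_le IsPGroup.of_bot
    exact h2 (h3.elim id (h.real hS hz).trans)
  have h1 := dvd_sum_class _ c1 _ inv2_conj fun y hy => h.dvd_kappa (nc y hy).1 (nc y hy).2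
  obtain ⟨k1, k2⟩ := (h.kappa_cases hS hz).resolve_left fun e => by omega
  rw [k1] at s0
  have key : ∀ y ∈ rem (univ.filter fun x : G => orderOf x = 3) z,
      Nat.card (Cx z) = 54 ∧ Nat.card (Cx y) = 36 ∧ inv2 (Cx y) = 4 := fun y hy => by
    rw [sum_split _ inv2_conj c1 hy] at s0
    have h2 := h.le_kappa (nc y hy).1 (nc y hy).2
    have h3 : rem (rem (univ.filter fun x : G => orderOf x = 3) z) y = ∅ :=
      eq_empty_of_forall_notMem fun x hx => by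
      have := single_le_sum (f := fun x => inv2 (Cx x)) (fun _ _ => Nat.zero_le _) hx
      have := inv2_pos (G := Cx x)
      omega
    rw [sum_split _ (fun _ _ => rfl) c1 hy, h3, sum_empty] at s1
    rw [h3, sum_empty] at s0
    have h4 := h.three_dvd_index (nc y hy).2
    have h5 := (Cx z).index_mul_card
    have h6 := (Cx y).index_mul_card
    obtain ⟨c, hc⟩ : 27 ∣ Nat.card (Cx z) := hz.card ▸ card_dvd_of_le (S_le hz)
    rw [h.card] at h5 h6
    have h7 : (Cx z).index = 1760 := (by decide +kernel : ∀ d ∈ (3520 : ℕ).divisors,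
      3 ∣ 4400 - d → 4400 - d ∣ 10560 → d = 1760) _ (Nat.mem_divisors.2 ⟨⟨c,
        Nat.eq_of_mul_eq_mul_left (by norm_num : 0 < 27) (by rw [mul_left_comm, ← hc, h5])⟩,
        by norm_num⟩) (by omega) ⟨inv2 (Cx y), by
          rw [show 4400 - (Cx z).index = (Cx y).index by omega]; omega⟩
    rw [show (Cx y).index = 2640 by omega] at h6 s0
    rw [h7] at h5
    omega
  obtain ⟨y, hy⟩ := nonempty_of_sum_ne_zero (show ∑ x ∈ rem (univ.filter fun x : G =>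
    orderOf x = 3) z, inv2 (Cx x) ≠ 0 by omega)
  exact ⟨(key y hy).1, k2, fun y h2 h3 => (key y (mem_rem.2 ⟨mem_filter.2 ⟨mem_univ _, h2⟩, h3⟩)).2⟩

end Nse

end CfsgH8.M12
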