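import Cfsg.Agent.H8.PresIdx

set_option autoImplicit false
set_option maxRecDepth 100000

/-! Coset enumerations for the recognition of `M24`. -/

namespace CfsgH8.M24P

open CfsgH3.TC CfsgH9 Subgroup

def rels : List (List ℕ) := [[2, 2, 2, 2, 2, 2, 2], [4, 4, 4], [4, 2, 5, 3, 3], [6, 6], [6, 4, 7, 4], [6, 2, 6, 2, 6, 2], [14, 14, 14], [8, 8], [8, 14, 9, 14], [14, 2, 15, 3], [14, 4, 15, 5], [6, 14, 7, 15], [8, 2, 9, 3], [8, 4, 9, 5], [6, 8, 7, 9], [10, 10], [12, 12], [10, 4, 11, 5], [12, 4, 13, 5], [10, 8, 11, 9], [12, 8, 13, 9], [10, 12, 10, 12, 8], [10, 14, 10, 14, 10, 14], [6, 10, 7, 11], [6, 12, 7, 9, 13]]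

def sD : List (List ℕ) := [[2], [4], [6]]

def sC : List (List ℕ) := [[2], [4], [6], [8], [10], [12]]

def sH : List (List ℕ) := [[2], [4], [6], [8], [10], [12], [14, 10, 15]]

def sE : List (List ℕ) := [[8], [10], [2, 10, 3], [4, 2, 10, 3, 5]]

def wA : List ℕ := [2, 10, 3, 4, 2, 10, 3, 4, 2, 10, 3, 4]

def wB : List ℕ := [3, 12, 2, 4, 3, 12, 2, 4, 3, 12, 2, 4]

def wG : List ℕ := [3, 6, 2, 12, 3, 7, 2, 2, 2, 2, 12, 3, 3, 3]

def wH : List ℕ := [2, 2, 6, 2, 10, 3, 7, 3, 3, 2, 2, 2, 2, 10, 3, 3, 3, 3]

def wL : List ℕ := [12, 10, 14, 12, 10, 14, 12, 10, 14, 12, 10, 14]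

def rels4 : List (List ℕ) := [[2, 2, 2, 2, 2, 2, 2], [4, 4, 4], [4, 2, 5, 3, 3], [8, 8], [8, 2, 9, 3], [8, 4, 9, 5], [10, 10], [10, 4, 11, 5], [10, 8, 11, 9]]

def x1a : List (List ℕ) := [[10, 2, 10, 3, 10, 2, 10, 3, 8], [10, 2, 10, 2, 10, 2, 10, 2, 10, 2, 10, 2, 10, 2, 10, 2, 10, 2, 10, 2, 10, 2, 10, 2, 10, 2, 10, 2]]

noncomputable def k1aF : NT := (.node (.node (.node (.node (.node (.node (.node (.node (.leaf (nat_lit 268435968)) (.leaf (nat_lit 0x7fb55dc03000000838008d40838))) (.leaf (nat_lit 0x339f8980101004080a0086c0815))) (.node (.node (.leaf (nat_lit 3670534)) (.leaf (nat_lit 0x13e9944261389b4a2793e9944261389b4a2793e9944261389b4a2793e99442601c000001445009080045))) (.leaf (nat_lit 18014398516560939)))) (.node (.node (.node (.leaf (nat_lit 0xe8602801010040803008100806)) (.leaf (nat_lit 0x1118fbe5fc0400000043a008e0043a))) (.leaf (nat_lit 18014398515511844))) (.node (.leaf (nat_lit 5245449)) (.leaf (nat_lit 536763073132480764542454321))))) (.node (.node (.node (.node (.leaf (nat_lit 788993)) (.leaf (nat_lit 0x10586b99c401018040431008f4023a)))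 (.leaf (nat_lit 0x872d9951c0400000041d0087c041d))) (.node (.node (.leaf (nat_lit 4457479)) (.leaf (nat_lit 0x8d3c1403000002601008000001))) (.leaf (nat_lit 0x65a255403000000a2d0089c082d)))) (.node (.node (.node (.leaf (nat_lit 111221184628129302173452810)) (.leaf (nat_lit 730191204270823150488914498))) (.leaf (nat_lit 10488344))) (.node (.leaf (nat_lit 0x1b9b47802008000e050085c040d)) (.leaf (nat_lit 14158379)))))) (.node (.node (.node (.node (.node (.leaf (nat_lit 0x18140802008000a00008040401)) (.leaf (nat_lit 0x1036eb960c04000000439008ec0439))) (.leaf (nat_lit 0x4395ce40300000081d00860081d))) (.node (.node (.leaf (nat_lit 81873296939171036731127890959)) (.leaf (nat_lit 0x69d1d600300000261d00860001d))) (.leaf (nat_lit 0x5fb1d6802008000a29008b0041e)))) (.node (.node (.node (.leaf (nat_lit 2097668)) (.leaf (nat_lit 0x12376bba4c00020040441009000241))) (.leaf (nat_lit 0x73279f54c03008000418008680226))) (.node (.leaf (nat_lit 5769739)) (.leaf (nat_lit 18014398518395443))))) (.node (.node (.node (.node (.leaf (nat_lit 1049090)) (.leaf (nat_lit 344809827002074426805411644478)))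 (.leaf (nat_lit 186044016963724404488006796320))) (.node (.leaf (nat_lit 0x13954780200800100500848080d)) (.leaf (nat_lit 517420260018646560307677743)))) (.node (.node (.node (.leaf (nat_lit 64503450762948044680229291020)) (.leaf (nat_lit 0x1248fbd19ce082cc26c07008001240009080244))) (.leaf (nat_lit 0xa95bab958020100404260088c042a))) (.node (.leaf (nat_lit 6818319)) (.leaf (nat_lit 0x65b4de802008000e2d008b80437))))))) (.node (.node (.node (.node (.node (.node (.leaf (nat_lit 264192)) (.leaf (nat_lit 15204913))) (.leaf (nat_lit 0x28a0ca802008000e07008700412))) (.node (.node (.leaf (nat_lit 0x208a0400101004080600820080e)) (.leaf (nat_lit 0x9050a4e03000001c38008d40038))) (.leaf (nat_lit 18014398517084716)))) (.node (.node (.node (.leaf (nat_lit 0x118543403000000807008140807)) (.leaf (nat_lit 0x8fbf6440300000083d00900083d))) (.leaf (nat_lit 0xa3399c54004000000425008900425))) (.node (.leaf (nat_lit 0x169845c02008000e0400850040a)) (.leaf (nat_lit 0x4cb7db402008000e20008c40430))))) (.node (.node (.node (.node (.leaf (nat_lit 0x382c2002008001001008080803))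 (.leaf (nat_lit 0xe973c2e2403008000433008f0023e))) (.leaf (nat_lit 0x5b33a4d080300800041200880021c))) (.node (.leaf (nat_lit 4721159)) (.leaf (nat_lit 0x44ac5a40200800101d008a0082e)))) (.node (.node (.node (.leaf (nat_lit 0x330d83c340400000040b00814040b)) (.leaf (nat_lit 739862610827740390045780547))) (.leaf (nat_lit 0x59a30ec01010040819008780829))) (.node (.leaf (nat_lit 6556174)) (.leaf (nat_lit 14420525)))))) (.node (.node (.node (.node (.node (.leaf (nat_lit 24178525615875726715652610)) (.leaf (nat_lit 18014398522590269))) (.leaf (nat_lit 7864851))) (.node (.node (.leaf (nat_lit 0xf92c5c0200800100400840080a)) (.leaf (nat_lit 0x2ad2c7803000002607008140007))) (.leaf (nat_lit 250412063303285720815821390879)))) (.node (.node (.node (.leaf (nat_lit 2360324)) (.leaf (nat_lit 0x82cade402008000831009040236))) (.leaf (nat_lit 210851174782216595359137530918))) (.node (.leaf (nat_lit 6031884)) (.leaf (nat_lit 0x55ac5d402008000e27008a00434))))) (.node (.node (.node (.node (.leaf (nat_lit 1573379)) (.leaf (nat_lit 0x11584c6a300101804043e008e4023c))) (.leaf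 (nat_lit 8915477))) (.node (.leaf (nat_lit 4983304)) (.leaf (nat_lit 0x521d9891cd86d2510405018041211008c0022f)))) (.node (.node (.node (.leaf (nat_lit 3410437)) (.leaf (nat_lit 759205423941574731720034885))) (.leaf (nat_lit 0xb75dac8f40201004041a008a40424))) (.node (.leaf (nat_lit 0x239e49402008000e06008680410)) (.leaf (nat_lit 0x68bade80200800102d008d00837)))))))) (.node (.node (.node (.node (.node (.node (.node (.leaf (nat_lit 35184640525312)) (.leaf (nat_lit 18014398521803321))) (.leaf (nat_lit 7342609))) (.node (.node (.leaf (nat_lit 0x1d20870240201004040300818040e)) (.leaf (nat_lit 0x9dd065c03000002641008e80041))) (.leaf (nat_lit 0x4ba058003000000a21008ac0821)))) (.node (.node (.node (.leaf (nat_lit 18014398510268935)) (.leaf (nat_lit 18014398523114048))) (.leaf (nat_lit 18014398515773989))) (.node (.leaf (nat_lit 232113766589592563242764820)) (.leaf (nat_lit 0x4ba75bc02008000e21008880431))))) (.node (.node (.node (.node (.leaf (nat_lit 0x48442002008000e010080c0403)) (.leaf (nat_lit 16254003))) (.leaf (nat_lit 8389653))) (.node (.node (.leaf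 (nat_lit 0x1b9404c01010040a0500844080c)) (.leaf (nat_lit 415964787606095941048301783040))) (.leaf (nat_lit 12061213)))) (.node (.node (.node (.leaf (nat_lit 18014398510793227)) (.leaf (nat_lit 17566269))) (.leaf (nat_lit 10748441))) (.node (.leaf (nat_lit 18014398512890392)) (.leaf (nat_lit 0x61bc5bc02008001021008d80831)))))) (.node (.node (.node (.node (.node (.leaf (nat_lit 526848)) (.leaf (nat_lit 15729714))) (.leaf (nat_lit 0x399650c03000000818008740818))) (.node (.node (.leaf (nat_lit 4196870)) (.leaf (nat_lit 0x43524e603000001812008340012))) (.leaf (nat_lit 18014398517085229)))) (.node (.node (.node (.leaf (nat_lit 0x19148601c02010040402008100408)) (.leaf (nat_lit 0x90c064c03000000a3a00904083a))) (.leaf (nat_lit 18014398515774503))) (.node (.leaf (nat_lit 0x1a8f4d002008000e0b008340416)) (.leaf (nat_lit 13634087))))) (.node (.node (.node (.node (.leaf (nat_lit 18014398510006789)) (.leaf (nat_lit 0x10771ba22c0002004043f008ec023f))) (.leaf (nat_lit 0x8d4b998bc0101804041300884021e))) (.node (.leaf (nat_lit 0x260d828000c0c8c0a807008001207008280212))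 (.leaf (nat_lit 12585504)))) (.node (.node (.node (.leaf (nat_lit 0x1b0c8b46c0300800040500824020c)) (.leaf (nat_lit 18090561))) (.leaf (nat_lit 0xa137a79700002004042a00890022a))) (.node (.leaf (nat_lit 0x249d4f002008000e0f00864041a)) (.leaf (nat_lit 0x66bd5ac02008000e1f008dc042f))))))) (.node (.node (.node (.node (.node (.node (.leaf (nat_lit 9671415780394623502911489)) (.leaf (nat_lit 18014398522327611))) (.leaf (nat_lit 18014398514201117))) (.node (.node (.leaf (nat_lit 3933190)) (.leaf (nat_lit 0x7f515de0300000182e008a0002e))) (.leaf (nat_lit 0x51a2d8803000000825008b00825)))) (.node (.node (.node (.leaf (nat_lit 0xd85c44030000008050081c0805)) (.leaf (nat_lit 18014398523376705))) (.leaf (nat_lit 9962520))) (.node (.leaf (nat_lit 5505546)) (.leaf (nat_lit 13107746))))) (.node (.node (.node (.node (.leaf (nat_lit 0x284414020080010000080c0802)) (.leaf (nat_lit 18014398522852415))) (.leaf (nat_lit 18014398514988065))) (.node (.leaf (nat_lit 0x128f4a802008001007008340812)) (.leaf (nat_lit 12323359)))) (.node (.node (.node (.leaf (nat_lit 3146757))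 (.leaf (nat_lit 17828416))) (.leaf (nat_lit 11010586))) (.node (.leaf (nat_lit 0x22974e80200800100e0084c0819)) (.leaf (nat_lit 589955809195525272866392631)))))) (.node (.node (.node (.node (.node (.leaf (nat_lit 0x182c1402008000e00008080402)) (.leaf (nat_lit 332411083796106789920905102396))) (.leaf (nat_lit 18014398514725407))) (.node (.node (.leaf (nat_lit 0x400830343e25070200501804120100840020d)) (.leaf (nat_lit 0x115343603000001803008080003))) (.leaf (nat_lit 0x9b65b11900101804041e008b40221)))) (.node (.node (.node (.leaf (nat_lit 2624004)) (.leaf (nat_lit 17304122))) (.leaf (nat_lit 0x9f359c954000200404270088c0227))) (.node (.leaf (nat_lit 0x1c9a4d802008000e0c008580417)) (.leaf (nat_lit 18014398519968309))))) (.node (.node (.node (.node (.leaf (nat_lit 0xc8702c01010040802008180804)) (.leaf (nat_lit 0x11d81bee1c0300800043c008dc023d))) (.leaf (nat_lit 18014398515249699))) (.node (.leaf (nat_lit 0x158bcb802008000e08008280413)) (.leaf (nat_lit 12847649)))) (.node (.node (.node (.leaf (nat_lit 145071107577338987784964621)) (.leaf (nat_lit 0xc267bda3d349d4b1e00501804122b009140243)))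 (.leaf (nat_lit 233129264499218093791643960361))) (.node (.leaf (nat_lit 7078416)) (.leaf (nat_lit 18014398521541176)))))))))

noncomputable def k1aP : NT := (.node (.node (.node (.node (.node (.node (.node (.leaf (nat_lit 0)) (.leaf (nat_lit 1588))) (.leaf (nat_lit 2069))) (.node (.leaf (nat_lit 5126)) (.leaf (nat_lit 5152)))) (.node (.node (.leaf (nat_lit 1028)) (.leaf (nat_lit 5144))) (.node (.leaf (nat_lit 1549)) (.leaf (nat_lit 1582))))) (.node (.node (.node (.node (.leaf (nat_lit 1026)) (.leaf (nat_lit 5184))) (.leaf (nat_lit 1559))) (.node (.leaf (nat_lit 5129)) (.leaf (nat_lit 5159)))) (.node (.node (.leaf (nat_lit 2053)) (.leaf (nat_lit 1565))) (.node (.leaf (nat_lit 5137)) (.leaf (nat_lit 2098)))))) (.node (.node (.node (.node (.node (.leaf (nat_lit 5120)) (.leaf (nat_lit 5178))) (.leaf (nat_lit 5141))) (.node (.leaf (nat_lit 5127)) (.leaf (nat_lit 1058)))) (.node (.node (.leaf (nat_lit 5124)) (.leaf (nat_lit 1050))) (.node (.leaf (nat_lit 5135)) (.leaf (nat_lit 1073))))) (.node (.node (.node (.leaf (nat_lit 1027)) (.leaf (nat_lit 2072)))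 (.node (.leaf (nat_lit 5131)) (.leaf (nat_lit 5163)))) (.node (.node (.leaf (nat_lit 1030)) (.leaf (nat_lit 5149))) (.node (.leaf (nat_lit 1043)) (.leaf (nat_lit 2099))))))) (.node (.node (.node (.node (.node (.node (.leaf (nat_lit 4096)) (.leaf (nat_lit 2613))) (.leaf (nat_lit 2581))) (.node (.leaf (nat_lit 2055)) (.leaf (nat_lit 5153)))) (.node (.node (.leaf (nat_lit 2052)) (.leaf (nat_lit 1049))) (.node (.leaf (nat_lit 5134)) (.leaf (nat_lit 1583))))) (.node (.node (.node (.node (.leaf (nat_lit 1538)) (.leaf (nat_lit 5185))) (.leaf (nat_lit 1560))) (.node (.leaf (nat_lit 1034)) (.leaf (nat_lit 1576)))) (.node (.node (.leaf (nat_lit 5125)) (.leaf (nat_lit 2589))) (.node (.leaf (nat_lit 1554)) (.leaf (nat_lit 2610)))))) (.node (.node (.node (.node (.node (.leaf (nat_lit 5121)) (.leaf (nat_lit 5181))) (.leaf (nat_lit 1558))) (.node (.leaf (nat_lit 5128)) (.leaf (nat_lit 1570)))) (.node (.node (.leaf (nat_lit 1541)) (.leaf (nat_lit 2587))) (.node (.leaf (nat_lit 1040)) (.leaf (nat_lit 1585))))) (.node (.node (.node (.leaf (nat_lit 1539)) (.leaf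 (nat_lit 2584))) (.node (.leaf (nat_lit 5132)) (.leaf (nat_lit 5165)))) (.node (.node (.leaf (nat_lit 2054)) (.leaf (nat_lit 5151))) (.node (.leaf (nat_lit 1556)) (.leaf (nat_lit 2611))))))))

noncomputable def k1aL : NT := (.leaf (nat_lit 0))

noncomputable def k1aFi : NT := (.leaf (nat_lit 0))

noncomputable def k1a : Cert := mkCert 9 511 k1aF k1aP k1aL k1aFi 170 1

theorem k1a_c0 : allR 0 170 (checkFact ((rels4 ++ x1a) ++ trivRels 7) [[2], [4]] k1a) = true := by decide +kernel

theorem k1a_c : CfsgH9.allLt k1a.nfacts (checkFact ((rels4 ++ x1a) ++ trivRels 7) [[2], [4]] k1a) = true := by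
  have h0 := k1a_c0
  exact allLt_of_allR_zero h0

theorem k1a_t : checkTgt k1a [338] [8] = true := by decide +kernel

def x2a : List (List ℕ) := [[10, 2, 10, 3, 10, 2, 10, 3], [2, 2, 10, 3, 4, 2, 10, 3, 4, 2, 10, 3, 4, 10, 3, 11, 5, 2, 11, 3, 5, 2, 11, 3, 5, 2, 11, 3], [10, 10, 2, 10, 2, 10, 2, 10, 2, 10, 2, 10, 2, 10, 2, 11, 3, 11, 3, 11, 3, 11, 3, 11, 3, 11, 3, 11, 3, 11]]

def s2a : List (List ℕ) := [[8], [2, 10, 3, 4, 2, 10, 3, 4, 2, 10, 3, 4, 10], [10, 2, 10, 2, 10, 2, 10, 2, 10, 2, 10, 2, 10, 2]]

def t2a : List ℕ := [3, 10, 2, 4, 3, 10, 2, 4, 3, 10, 2, 4]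

noncomputable def k2aF : NT := (.node (.node (.node (.node (.node (.node (.node (.node (.leaf (nat_lit 262656)) (.leaf (nat_lit 18014398520492622))) (.leaf (nat_lit 134002178280953847225500828716))) (.node (.node (.leaf (nat_lit 18014398509483033)) (.leaf (nat_lit 0x13f4ea6a7000020040453009500253))) (.leaf (nat_lit 16777759)))) (.node (.node (.node (.leaf (nat_lit 3672589)) (.leaf (nat_lit 0x8898cbcc5619c5c8fd81c712a97889801c0d050200c050100080b16f3722009090041430009440a4e))) (.leaf (nat_lit 18014398515249719))) (.node (.leaf (nat_lit 9439752)) (.leaf (nat_lit 18014398518919751))))) (.node (.node (.node (.node (.leaf (nat_lit 2359816)) (.leaf (nat_lit 334787836670612648601815351856))) (.leaf (nat_lit 12846098))) (.node (.leaf (nat_lit 0x39349002008000e0300874041c)) (.leaf (nat_lit 18014398517871683)))) (.node (.node (.node (.leaf (nat_lit 5769749)) (.leaf (nat_lit 371894605777882407960426580512))) (.leaf (nat_lit 15729177))) (.node (.leaf (nat_lit 0x339b82401010040e090089c0a25)) (.leaf (nat_lit 18014398519968331)))))) (.node (.node (.node (.node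 (.node (.leaf (nat_lit 1311236)) (.leaf (nat_lit 0x2746c190c020100404100093c042f))) (.leaf (nat_lit 0x43a087801010040e10008b40a2e))) (.node (.leaf (nat_lit 7342595)) (.leaf (nat_lit 0xc72b830b400020040421009040221)))) (.node (.node (.node (.leaf (nat_lit 4721169)) (.leaf (nat_lit 0x51499a203000001e38008800038))) (.leaf (nat_lit 15205400))) (.node (.leaf (nat_lit 104233588898763218152655946789)) (.leaf (nat_lit 19399208))))) (.node (.node (.node (.node (.leaf (nat_lit 0x160a848200e068281006028080000060000200010000a0c)) (.leaf (nat_lit 0xb358c5d7c0300800043d00940023e))) (.leaf (nat_lit 13369875))) (.node (.leaf (nat_lit 18014398511317536)) (.leaf (nat_lit 18014398518133317)))) (.node (.node (.node (.leaf (nat_lit 125728294463506157944965656)) (.leaf (nat_lit 18014398523114579))) (.leaf (nat_lit 16515611))) (.node (.leaf (nat_lit 18014398512366634)) (.leaf (nat_lit 292748640793046926911064769610))))))) (.node (.node (.node (.node (.node (.node (.leaf (nat_lit 18014398510006787)) (.leaf (nat_lit 0xef3e9ee0004000000448009380448))) (.leaf (nat_lit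 0x4b11a0ca00300800041c008b4021d))) (.node (.node (.leaf (nat_lit 6816257)) (.leaf (nat_lit 0x137a1d027402010040452009500455))) (.leaf (nat_lit 0x5f0899d8404000000423009000423)))) (.node (.node (.node (.leaf (nat_lit 4196879)) (.leaf (nat_lit 0xa1180b8589991388e008000001237008940037))) (.leaf (nat_lit 0x4fa886001010040e15008e00a36))) (.node (.leaf (nat_lit 0x7984b802008000e07008900422)) (.leaf (nat_lit 18014398519706185))))) (.node (.node (.node (.node (.leaf (nat_lit 18014398512103947)) (.leaf (nat_lit 662491358372403160788240976))) (.leaf (nat_lit 181087421103304424665557500977))) (.node (.leaf (nat_lit 0xd298401c0201004040700824041e)) (.leaf (nat_lit 17828384)))) (.node (.node (.node (.leaf (nat_lit 6294039)) (.leaf (nat_lit 21496884))) (.leaf (nat_lit 0xb3208d9580002004043b008f4023b))) (.node (.leaf (nat_lit 141391132890438460535147070503)) (.leaf (nat_lit 18014398520230476)))))) (.node (.node (.node (.node (.node (.leaf (nat_lit 18014398511055367)) (.leaf (nat_lit 327459323638965270814169760838))) (.leaf (nat_lit 12321297))) (.node (.leaf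 (nat_lit 7604740)) (.leaf (nat_lit 0xcb2c83cbc040000004420088c0442)))) (.node (.node (.node (.leaf (nat_lit 5245459)) (.leaf (nat_lit 0x6bca14803000002844008d80044))) (.leaf (nat_lit 18014398515774523))) (.node (.leaf (nat_lit 0x15358782c0201004040b008340426)) (.leaf (nat_lit 0x7d0f9fdd40400000042b00928042b))))) (.node (.node (.node (.node (.leaf (nat_lit 43521338729710411988601354)) (.leaf (nat_lit 21234225))) (.leaf (nat_lit 18014398514725941))) (.node (.leaf (nat_lit 8915463)) (.leaf (nat_lit 18350628)))) (.node (.node (.node (.leaf (nat_lit 87042668235837474596456976)) (.leaf (nat_lit 0x9cc6d7c03000000e53008f40a53))) (.leaf (nat_lit 0xab5cad15c0201004043a008f4043f))) (.node (.leaf (nat_lit 18014398512628267)) (.leaf (nat_lit 310041120429957691053670925385)))))))) (.node (.node (.node (.node (.node (.node (.node (.leaf (nat_lit 526849)) (.leaf (nat_lit 0x401fcea743c1e40102800002a00938024d))) (.leaf (nat_lit 11797519))) (.node (.node (.leaf (nat_lit 0x2086c2c03000000e190082c0a19)) (.leaf (nat_lit 22282806))) (.leaf (nat_lit 0xc134948ac0101804041f008940240))))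 (.node (.node (.node (.leaf (nat_lit 3932686)) (.leaf (nat_lit 0x82c863c03000000e48008cc0a48))) (.leaf (nat_lit 14681110))) (.node (.leaf (nat_lit 232113766589592494523025956)) (.leaf (nat_lit 18874919))))) (.node (.node (.node (.node (.leaf (nat_lit 2624009)) (.leaf (nat_lit 20974127))) (.leaf (nat_lit 18014398514201650))) (.node (.leaf (nat_lit 7864838)) (.leaf (nat_lit 0xc368b299c010180404400090c0225)))) (.node (.node (.node (.leaf (nat_lit 6029846)) (.leaf (nat_lit 374259264681048339708060631575))) (.leaf (nat_lit 18014398516036157))) (.node (.leaf (nat_lit 18014398512104488)) (.leaf (nat_lit 0xf139850f00002004042a0092c022a)))))) (.node (.node (.node (.node (.node (.leaf (nat_lit 1575429)) (.leaf (nat_lit 0x8b83b70c80201004042200918044f))) (.leaf (nat_lit 0x6828104e42a20b806008001207008b80222))) (.node (.leaf (nat_lit 0x280800180f8f8900600800120300838021c)) (.leaf (nat_lit 18014398517871170)))) (.node (.node (.node (.leaf (nat_lit 4981266)) (.leaf (nat_lit 0x6d49c6603000001a450085c0045))) (.leaf (nat_lit 0x370091d50030080004180086c023a)))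 (.node (.leaf (nat_lit 9961994)) (.leaf (nat_lit 0xe9409a8e401018040428008b0024a))))) (.node (.node (.node (.node (.leaf (nat_lit 58028448565086168244292096)) (.leaf (nat_lit 0x4d8b0542846c523007000001234008f80a34))) (.leaf (nat_lit 18014398514725428))) (.node (.leaf (nat_lit 18014398511318049)) (.leaf (nat_lit 0x361a4c2603199001028000021009140243)))) (.node (.node (.node (.leaf (nat_lit 96714074792754645433584146)) (.leaf (nat_lit 386981995293511151004586607698))) (.leaf (nat_lit 0x455bae08c02010040401008fc043e))) (.node (.leaf (nat_lit 148606002181898567518513529868)) (.leaf (nat_lit 18014398520230989))))))) (.node (.node (.node (.node (.node (.node (.leaf (nat_lit 1049603)) (.leaf (nat_lit 20709934))) (.leaf (nat_lit 12059664))) (.node (.leaf (nat_lit 7078913)) (.leaf (nat_lit 18014398517609025)))) (.node (.node (.node (.leaf (nat_lit 4456976)) (.leaf (nat_lit 0x694914203000001a43008580043))) (.leaf (nat_lit 14942743))) (.node (.leaf (nat_lit 9700361)) (.leaf (nat_lit 0x770a9bdc804000000429009240429))))) (.node (.node (.node (.node (.leaf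 (nat_lit 3146763)) (.leaf (nat_lit 0x86c4dbc02008000e4600940043c))) (.leaf (nat_lit 0x498ed1c03000000e32008c00a32))) (.node (.leaf (nat_lit 18014398511055903)) (.leaf (nat_lit 512584556740188112328591940)))) (.node (.node (.node (.leaf (nat_lit 0x6832180b8582a140984822100783400068000400010000218)) (.leaf (nat_lit 0x9b17a7e6803008000434008d80252))) (.leaf (nat_lit 16253466))) (.node (.leaf (nat_lit 18014398512366121)) (.leaf (nat_lit 0xf53b85cf80400000044c008ac044c)))))) (.node (.node (.node (.node (.node (.leaf (nat_lit 2098183)) (.leaf (nat_lit 0x1c2dd86a311c00028000430008c00047))) (.leaf (nat_lit 18014398513939504))) (.node (.leaf (nat_lit 183756733805007052655823389)) (.leaf (nat_lit 243129489452784086377227093056)))) (.node (.node (.node (.leaf (nat_lit 5505556)) (.leaf (nat_lit 0x534a9b203000001a39008840039))) (.leaf (nat_lit 213331890564065814425639846970))) (.node (.leaf (nat_lit 10224650)) (.leaf (nat_lit 0xe376ba0e801018040427008ac0248))))) (.node (.node (.node (.node (.leaf (nat_lit 3408396)) (.leaf (nat_lit 0x2b4cc712002010040412009440433)))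 (.leaf (nat_lit 14156821))) (.node (.leaf (nat_lit 18014398511579683)) (.leaf (nat_lit 0x8870284258b70c005010001208008f00a46)))) (.node (.node (.node (.leaf (nat_lit 77371261678920303759329806)) (.leaf (nat_lit 18014398523376212))) (.leaf (nat_lit 230711408146845726121276212285))) (.node (.leaf (nat_lit 11535373)) (.leaf (nat_lit 0xeb7dbd1f00101804044a00934022c)))))))))

noncomputable def k2aP : NT := (.node (.node (.node (.node (.node (.node (.node (.leaf (nat_lit 0)) (.leaf (nat_lit 1055))) (.leaf (nat_lit 1543))) (.node (.node (.leaf (nat_lit 5135)) (.leaf (nat_lit 5167))) (.leaf (nat_lit 2577)))) (.node (.node (.node (.leaf (nat_lit 2055)) (.leaf (nat_lit 1063))) (.leaf (nat_lit 2570))) (.node (.leaf (nat_lit 5143)) (.leaf (nat_lit 2070))))) (.node (.node (.node (.node (.leaf (nat_lit 2051)) (.leaf (nat_lit 5152))) (.leaf (nat_lit 5128))) (.node (.node (.leaf (nat_lit 5139)) (.leaf (nat_lit 1589))) (.leaf (nat_lit 1556)))) (.node (.node (.node (.leaf (nat_lit 2059)) (.leaf (nat_lit 1577))) (.leaf (nat_lit 2061))) (.node (.leaf (nat_lit 5123))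 (.leaf (nat_lit 1049)))))) (.node (.node (.node (.node (.node (.leaf (nat_lit 5121)) (.leaf (nat_lit 1568))) (.leaf (nat_lit 5127))) (.node (.node (.leaf (nat_lit 5137)) (.leaf (nat_lit 2100))) (.leaf (nat_lit 2578)))) (.node (.node (.node (.leaf (nat_lit 5129)) (.leaf (nat_lit 1064))) (.leaf (nat_lit 2571))) (.node (.leaf (nat_lit 1025)) (.leaf (nat_lit 2072))))) (.node (.node (.node (.node (.leaf (nat_lit 5125)) (.leaf (nat_lit 1060))) (.leaf (nat_lit 1034))) (.node (.leaf (nat_lit 5141)) (.leaf (nat_lit 2069)))) (.node (.node (.node (.leaf (nat_lit 5133)) (.leaf (nat_lit 1578))) (.leaf (nat_lit 2064))) (.node (.leaf (nat_lit 1030)) (.leaf (nat_lit 1050))))))) (.node (.node (.node (.node (.node (.node (.leaf (nat_lit 1024)) (.leaf (nat_lit 1567))) (.leaf (nat_lit 2567))) (.node (.node (.leaf (nat_lit 1040)) (.leaf (nat_lit 1073))) (.leaf (nat_lit 2066)))) (.node (.node (.node (.leaf (nat_lit 1032)) (.leaf (nat_lit 1575))) (.leaf (nat_lit 1547))) (.node (.leaf (nat_lit 2560)) (.leaf (nat_lit 1047))))) (.node (.node (.node (.node (.leaf (nat_lit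 1028)) (.leaf (nat_lit 1569))) (.leaf (nat_lit 2057))) (.node (.node (.leaf (nat_lit 1044)) (.leaf (nat_lit 1078))) (.leaf (nat_lit 2580)))) (.node (.node (.node (.leaf (nat_lit 1036)) (.leaf (nat_lit 2601))) (.leaf (nat_lit 2063))) (.node (.leaf (nat_lit 5124)) (.leaf (nat_lit 1561)))))) (.node (.node (.node (.node (.node (.leaf (nat_lit 1538)) (.leaf (nat_lit 2592))) (.leaf (nat_lit 1544))) (.node (.node (.leaf (nat_lit 1042)) (.leaf (nat_lit 2612))) (.leaf (nat_lit 1043)))) (.node (.node (.node (.leaf (nat_lit 1546)) (.leaf (nat_lit 1576))) (.leaf (nat_lit 1548))) (.node (.leaf (nat_lit 2049)) (.leaf (nat_lit 2584))))) (.node (.node (.node (.node (.leaf (nat_lit 1542)) (.leaf (nat_lit 1572))) (.leaf (nat_lit 2058))) (.node (.leaf (nat_lit 1046)) (.leaf (nat_lit 1558)))) (.node (.node (.node (.leaf (nat_lit 1038)) (.leaf (nat_lit 1070))) (.leaf (nat_lit 1041))) (.node (.leaf (nat_lit 2566)) (.leaf (nat_lit 1051))))))))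

noncomputable def k2aL : NT := (.leaf (nat_lit 0))

noncomputable def k2aFi : NT := (.leaf (nat_lit 0))

noncomputable def k2a : Cert := mkCert 9 511 k2aF k2aP k2aL k2aFi 163 1

theorem k2a_c0 : allR 0 163 (checkFact ((rels4 ++ x2a) ++ trivRels 7) s2a k2a) = true := by decide +kernel

theorem k2a_c : CfsgH9.allLt k2a.nfacts (checkFact ((rels4 ++ x2a) ++ trivRels 7) s2a k2a) = true := by
  have h0 := k2a_c0
  exact allLt_of_allR_zero h0

theorem k2a_t : checkTgt k2a [55, 56, 306, 90, 89, 304, 322, 324, 321, 316, 178, 64] t2a = true := by decide +kernel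

noncomputable def k3F : NT := (.node (.node (.node (.node (.node (.node (.node (.leaf (nat_lit 33554688)) (.leaf (nat_lit 0x7e167d0d040000270101000001))) (.leaf (nat_lit 13954923577873844619862083333))) (.node (.leaf (nat_lit 8992103601680362317629424899)) (.leaf (nat_lit 25181159836168060887500390923)))) (.node (.node (.leaf (nat_lit 320403158095295325537370369)) (.leaf (nat_lit 55978932432053122097873414))) (.node (.leaf (nat_lit 459014)) (.leaf (nat_lit 129879282271896027458174987))))) (.node (.node (.node (.leaf (nat_lit 67328)) (.leaf (nat_lit 786699))) (.node (.leaf (nat_lit 5925115484090240931882729986)) (.leaf (nat_lit 0x664440546644060000160c0108000c)))) (.node (.node (.leaf (nat_lit 0xc16140806010400160001020504)) (.leaf (nat_lit 0x314f56500103010206010e0107))) (.node (.leaf (nat_lit 0xe282718363532302e2d141004080019010104010a)) (.leaf (nat_lit 0x6c33731a040000220501020005)))))) (.node (.node (.node (.node (.node (.leaf (nat_lit 3298568438784)) (.leaf (nat_lit 7586042629987448871440089090))) (.leaf (nat_lit 236118396217599055037704)))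 (.node (.leaf (nat_lit 9624409602645081333562475521)) (.leaf (nat_lit 25178751447636480549578278662)))) (.node (.node (.leaf (nat_lit 197889)) (.leaf (nat_lit 100690335041554702041154828))) (.node (.leaf (nat_lit 281474977235209)) (.leaf (nat_lit 29537826276978988146239930374))))) (.node (.node (.node (.leaf (nat_lit 12127037272131034071172866)) (.leaf (nat_lit 281474977562894))) (.node (.leaf (nat_lit 281474976907525)) (.leaf (nat_lit 21171110409582700761415221255)))) (.node (.node (.leaf (nat_lit 4667785408026204495100969988)) (.leaf (nat_lit 24530597203129659337602565134))) (.node (.leaf (nat_lit 70372742221524995584557577)) (.leaf (nat_lit 0x76587b270400001b0301020003))))))) (.node (.node (.node (.node (.node (.node (.leaf (nat_lit 1099545182720)) (.leaf (nat_lit 154142801260880234501111812))) (.leaf (nat_lit 13964594984430764951794615301))) (.node (.leaf (nat_lit 10234917104801375383399367171)) (.leaf (nat_lit 0x493d3460010301020b0109010c)))) (.node (.node (.leaf (nat_lit 939373177737986562498560513)) (.leaf (nat_lit 0x4d2d232c4e010400020e010d0005)))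 (.node (.leaf (nat_lit 525575)) (.leaf (nat_lit 22110242709664496543131238408))))) (.node (.node (.node (.leaf (nat_lit 132865)) (.leaf (nat_lit 853260))) (.node (.leaf (nat_lit 7785595615330273722577977860)) (.leaf (nat_lit 22719588546415096157497262091)))) (.node (.node (.leaf (nat_lit 113336867662975394383106)) (.leaf (nat_lit 24528179351490426780718270222))) (.node (.leaf (nat_lit 0x35392b383601040002090108000a)) (.leaf (nat_lit 132344357575953965079724039)))))) (.node (.node (.node (.node (.node (.leaf (nat_lit 4398080066816)) (.leaf (nat_lit 159639635846938285326731008))) (.leaf (nat_lit 721416))) (.node (.leaf (nat_lit 5306145464447549694921539842)) (.leaf (nat_lit 15252280395497599290768623367)))) (.node (.node (.leaf (nat_lit 263939)) (.leaf (nat_lit 100699779774511645238558990))) (.node (.leaf (nat_lit 655881)) (.leaf (nat_lit 0x576c30750400001a0e0103000e))))) (.node (.node (.node (.leaf (nat_lit 3723510432470138869547860994)) (.leaf (nat_lit 0x241211202c4d4a48463f1a2605070019020105020e))) (.node (.leaf (nat_lit 393733)) (.leaf (nat_lit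 30456765737980035532635504649)))) (.node (.node (.leaf (nat_lit 132226333585657882215427)) (.leaf (nat_lit 0x2e2d14101211202c4e575448000c00190b010b0406))) (.node (.leaf (nat_lit 70386909320688831008342280)) (.leaf (nat_lit 7887126549835767750408077316))))))))

noncomputable def k3P : NT := (.node (.node (.node (.node (.leaf (nat_lit 0)) (.leaf (nat_lit 2567))) (.node (.leaf (nat_lit 3587)) (.leaf (nat_lit 523)))) (.node (.node (.leaf (nat_lit 3585)) (.leaf (nat_lit 1033))) (.node (.leaf (nat_lit 1029)) (.leaf (nat_lit 781))))) (.node (.node (.node (.leaf (nat_lit 3584)) (.leaf (nat_lit 776))) (.node (.leaf (nat_lit 771)) (.leaf (nat_lit 2572)))) (.node (.node (.leaf (nat_lit 2561)) (.leaf (nat_lit 1032))) (.leaf (nat_lit 518)))))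

noncomputable def k3L : NT := (.leaf (nat_lit 0))

noncomputable def k3Fi : NT := (.leaf (nat_lit 0))

noncomputable def k3 : Cert := mkCert 8 255 k3F k3P k3L k3Fi 68 1

theorem k3_c0 : allR 0 68 (checkFact ((rels ++ [wA ++ [8]]) ++ trivRels 7) sC k3) = true := by decide +kernel

theorem k3_c : CfsgH9.allLt k3.nfacts (checkFact ((rels ++ [wA ++ [8]]) ++ trivRels 7) sC k3) = true := by
  have h0 := k3_c0
  exact allLt_of_allR_zero h0

theorem k3_t : checkTgt k3 [134] [14] = true := by decide +kernel

def x4 : List (List ℕ) := [[2, 10, 3, 4, 2, 10, 3, 4, 2, 10, 3, 4], [10, 2, 12, 3, 4, 2, 12, 3, 4, 2, 12, 3, 4, 11, 5, 2, 13, 3, 5, 2, 13, 3, 5, 2, 13, 3], [2, 10, 2, 12, 3, 10, 2, 12, 3, 3, 2, 13, 3, 11, 2, 13, 3, 11], [10, 10, 2, 12, 3, 10, 2, 12, 3, 11, 2, 13, 3, 11, 2, 13, 3, 11], [2, 10, 2, 2, 2, 12, 3, 3, 3, 10, 2, 2, 2, 12, 3, 3, 3, 3, 2, 2, 2, 13, 3, 3, 3, 11, 2, 2, 2, 13, 3, 3, 3, 11], [12, 10, 2, 2, 2, 12, 3, 3, 3, 10, 2, 2, 2, 12, 3, 3, 3, 13, 2, 2, 2, 13, 3, 3, 3, 11, 2, 2, 2, 13, 3, 3, 3, 11]]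

noncomputable def k4F : NT := (.node (.node (.node (.node (.node (.node (.node (.node (.node (.leaf (nat_lit 2147484672)) (.leaf (nat_lit 631349421216152514286888948844))) (.leaf (nat_lit 1152921504630965298))) (.node (.node (.leaf (nat_lit 1152921504615236631)) (.leaf (nat_lit 0x805e69f80000c01044580046c00858))) (.leaf (nat_lit 84939823)))) (.node (.node (.node (.leaf (nat_lit 0xa4350e8020040004c03004080100b)) (.leaf (nat_lit 0x1638f63a5800200801008290047500876))) (.leaf (nat_lit 1152921504643548225))) (.node (.node (.leaf (nat_lit 0x13c7d2f002004000500d0041501023)) (.leaf (nat_lit 151000187))) (.leaf (nat_lit 0x1b36f5b86d80100c01008610045f0045d))))) (.node (.node (.node (.node (.leaf (nat_lit 5249025)) (.leaf (nat_lit 0x14f87d935300300400008260045500443))) (.leaf (nat_lit 0x2449947802004000441b0041d00839))) (.node (.node (.leaf (nat_lit 1152921504618382367)) (.leaf (nat_lit 142607460))) (.leaf (nat_lit 0x11b67d9a46002008010081a0045a0085c)))) (.node (.node (.node (.leaf (nat_lit 17830918)) (.leaf (nat_lit 132125775))) (.leaf (nat_lit 0x3655d37002004000440f0044700829)))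 (.node (.node (.leaf (nat_lit 0x174dd260020040004c0a004290101d)) (.leaf (nat_lit 0x2d4b78000080000497004970088a))) (.leaf (nat_lit 0x775b07100100801044630046101467)))))) (.node (.node (.node (.node (.node (.leaf (nat_lit 0xc0d0300200400044000040200802)) (.leaf (nat_lit 1152921504673956976))) (.leaf (nat_lit 0x2148b4380200400044180041a00835))) (.node (.node (.leaf (nat_lit 0x8f0e4170e004000000081b0040a0081b)) (.leaf (nat_lit 809612786873248432757649971332))) (.leaf (nat_lit 90182707)))) (.node (.node (.node (.leaf (nat_lit 0xb41f1300300000030070040d01007)) (.leaf (nat_lit 1152921504683394169))) (.leaf (nat_lit 0x53d1a3380100801030260043701044))) (.node (.node (.leaf (nat_lit 0x154cd228020040004c09004260101a)) (.leaf (nat_lit 154141826))) (.leaf (nat_lit 109057082))))) (.node (.node (.node (.node (.leaf (nat_lit 0x442f0b80200400048020040800808)) (.leaf (nat_lit 119538754))) (.leaf (nat_lit 0x12f2843f28004000000083e0041f0083e))) (.node (.node (.leaf (nat_lit 215401568016264690243687420961)) (.leaf (nat_lit 0xabe668b80100801030710047f0108c))) (.leaf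 (nat_lit 101713976)))) (.node (.node (.node (.leaf (nat_lit 136173405502000357048194176007)) (.leaf (nat_lit 0x9ae409b80100801044800047501479))) (.leaf (nat_lit 453086055559058863009119082571))) (.node (.node (.leaf (nat_lit 0xba2e0b03b0030040005412004210182d)) (.leaf (nat_lit 0x8a2ee6d40300000088450043800045))) (.leaf (nat_lit 0x49ded4a802004000441e004650083d))))))) (.node (.node (.node (.node (.node (.node (.leaf (nat_lit 0x4050100200400030000040100401)) (.leaf (nat_lit 0x4d60381802004000443f0046d0086e))) (.leaf (nat_lit 0x811fcfb4100300400008170043000433))) (.node (.node (.leaf (nat_lit 0x842180100400004090041800819)) (.leaf (nat_lit 1152921504699123843))) (.leaf (nat_lit 0x3ed873f00200400044160045200831)))) (.node (.node (.node (.leaf (nat_lit 0xac460780100801030020040c01006)) (.leaf (nat_lit 125835336))) (.leaf (nat_lit 70259749))) (.node (.node (.leaf (nat_lit 38799374)) (.leaf (nat_lit 878937429073228640735037756561))) (.leaf (nat_lit 1152921504666616933))))) (.node (.node (.node (.node (.leaf (nat_lit 0x14210480200400050000040501003))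 (.leaf (nat_lit 0x6d5558980200400034620044500857))) (.leaf (nat_lit 0x49cfa27801008010341e004300103c))) (.node (.node (.leaf (nat_lit 0x17ca61200100801034060042001010)) (.leaf (nat_lit 1152921504716948619))) (.leaf (nat_lit 0x1976951a4400100c01008350045e00458)))) (.node (.node (.node (.leaf (nat_lit 20973575)) (.leaf (nat_lit 134219859))) (.leaf (nat_lit 1152921504649839689))) (.node (.node (.leaf (nat_lit 45089810)) (.leaf (nat_lit 0x2b4b53cd7a97ecfb9ae7af648588dc164200201a1300602c0106c0d0048f01892))) (.leaf (nat_lit 0x1e675001004000043b0046b0086a)))))) (.node (.node (.node (.node (.node (.leaf (nat_lit 4199425)) (.leaf (nat_lit 0x6759b816108500200c000085b0045a0006d))) (.leaf (nat_lit 0x21d13228020040004409004360081a))) (.node (.node (.leaf (nat_lit 30413834)) (.leaf (nat_lit 0x6c6977180200400048380048600864))) (.leaf (nat_lit 1152921504662422617)))) (.node (.node (.node (.leaf (nat_lit 1152921504612090895)) (.leaf (nat_lit 0x79d6b95003000000346b0047a0106b))) (.leaf (nat_lit 0x354dd5580200400044270042900846))) (.node (.node (.leaf (nat_lit 41945103))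 (.leaf (nat_lit 1152921504748405910))) (.leaf (nat_lit 0x9425d14671ae6b5c4759d44949823807014000641b0046300066))))) (.node (.node (.node (.node (.leaf (nat_lit 1152921504609993738)) (.leaf (nat_lit 121635910))) (.leaf (nat_lit 0x415322900100801034170043f01033))) (.node (.node (.leaf (nat_lit 35657740)) (.leaf (nat_lit 0xadea69300100801030780048a0108e))) (.leaf (nat_lit 0x1994451c6d00001001008620045900462)))) (.node (.node (.node (.leaf (nat_lit 0x731a80200001088110041100814)) (.leaf (nat_lit 0x1f78ee779a00300400008530048100480))) (.leaf (nat_lit 462989575873341906307824752717))) (.node (.node (.leaf (nat_lit 0x7f3dc7e0c0020080100808004160082f)) (.leaf (nat_lit 0x86f704803000000a4010040000001))) (.leaf (nat_lit 0x1df7c5ea7a00100c010086a0043d00463)))))))) (.node (.node (.node (.node (.node (.node (.node (.leaf (nat_lit 1052672)) (.leaf (nat_lit 0x4c53b80802004000443e004400086d))) (.leaf (nat_lit 53479447))) (.node (.node (.leaf (nat_lit 0x3720c360580200801008030040900818)) (.leaf (nat_lit 136321111))) (.leaf (nat_lit 0x3e4fd60002004000442f0043100851))))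 (.node (.node (.node (.leaf (nat_lit 0x260801a0e8030040005403004040180b)) (.leaf (nat_lit 0x2427f00100400004480047700854))) (.leaf (nat_lit 69211172))) (.node (.node (.leaf (nat_lit 0x5330c520900200801008050040e00824)) (.leaf (nat_lit 0x26c39054000342b18cea3ace95c25ab0a8e6e1e44880d0100106c1d0048400490))) (.leaf (nat_lit 557073018859029694494403466339))))) (.node (.node (.node (.node (.leaf (nat_lit 0x2c210800200400048010040500805)) (.leaf (nat_lit 0x2228300200001080620046200440))) (.leaf (nat_lit 1152921504637256763))) (.node (.node (.leaf (nat_lit 0x204432800300000030170041f01017)) (.leaf (nat_lit 0x735d3a880200400048670046900889))) (.leaf (nat_lit 1152921504664520798)))) (.node (.node (.node (.leaf (nat_lit 1152921504614188051)) (.leaf (nat_lit 0x5f6615f802004000442e0047e00850))) (.leaf (nat_lit 0x48d6238001008010301d004480103a))) (.node (.node (.leaf (nat_lit 279774450059105594836399429674)) (.leaf (nat_lit 0xb8eb5af802004000348b0048d0088f))) (.leaf (nat_lit 0x1e374002000010a062004620143a)))))) (.node (.node (.node (.node (.node (.leaf (nat_lit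 22282921887746480065178769411)) (.leaf (nat_lit 0x4c12f4f21067512258920e43c2800401c000641f004700085b))) (.leaf (nat_lit 339195571944802732027264635958))) (.node (.node (.leaf (nat_lit 0x9024801004000040a0041b0081c)) (.leaf (nat_lit 814564547030389961553835202693))) (.leaf (nat_lit 91227188)))) (.node (.node (.node (.leaf (nat_lit 0xdc520a00100801030030040e01009)) (.leaf (nat_lit 1152921504683395194))) (.leaf (nat_lit 0x474d15480300000030380044501038))) (.node (.node (.leaf (nat_lit 0xd3164251600400000008270040f00827)) (.leaf (nat_lit 0x2cdb4ea6a900200801008890048a00894))) (.leaf (nat_lit 111151163))))) (.node (.node (.node (.node (.leaf (nat_lit 61897003144877531758145311749)) (.leaf (nat_lit 120592453))) (.leaf (nat_lit 0x1304c801004000041f0043e0083f))) (.node (.node (.leaf (nat_lit 0x1ecb32a00200400030100042100420)) (.leaf (nat_lit 0xa86b28d80100801030640048d01088))) (.leaf (nat_lit 1152921504665569378)))) (.node (.node (.node (.leaf (nat_lit 0x73194020000007c110040700411)) (.leaf (nat_lit 0x9a66f9c80200400044530047600881))) (.leaf (nat_lit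 0x1733ace75b004000000084c0044a0084c))) (.node (.node (.leaf (nat_lit 1152921504628868142)) (.leaf (nat_lit 0x336f3228030000009c0e004090000e))) (.leaf (nat_lit 0x7255b7c80200400030650044600452))))))) (.node (.node (.node (.node (.node (.node (.leaf (nat_lit 2102272)) (.leaf (nat_lit 116393024))) (.leaf (nat_lit 54531095))) (.node (.node (.leaf (nat_lit 170835726601990997048780919834)) (.leaf (nat_lit 0x1b369da8a200001001008830046100483))) (.leaf (nat_lit 1152921504658228308)))) (.node (.node (.node (.leaf (nat_lit 1152921504611042317)) (.leaf (nat_lit 0x59dd39200200400050480046901078))) (.leaf (nat_lit 0x3254933002004000440e0044300826))) (.node (.node (.leaf (nat_lit 39851022)) (.leaf (nat_lit 0xb2e95a0a8ba3697a96a7ab666996635f0f51f0741e06d3916c5d1735e25cb200604c00068910048600489))) (.leaf (nat_lit 1152921504667666535))))) (.node (.node (.node (.node (.leaf (nat_lit 1152921504608945159)) (.leaf (nat_lit 685818782944709252979526472817))) (.leaf (nat_lit 0x27cfd4a8020040004c1e004310103d))) (.node (.node (.leaf (nat_lit 0x13c712a8030000004c0d004200140d))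 (.leaf (nat_lit 844275107973239122236307150986))) (.leaf (nat_lit 1152921504665568352)))) (.node (.node (.node (.leaf (nat_lit 0x2d0ac5f1a00300400008070041000414)) (.leaf (nat_lit 0x18d62e699100300400008540048000477))) (.leaf (nat_lit 1152921504650888266))) (.node (.node (.leaf (nat_lit 47191058)) (.leaf (nat_lit 0xb5eebb40030000007c870048200087))) (.leaf (nat_lit 0x799eb4d9322843a0e09023c9a49002024000643b004650143c)))))) (.node (.node (.node (.node (.node (.leaf (nat_lit 0x1c0d060020040004c010040201004)) (.leaf (nat_lit 0x21a82802000010985c0045c01056))) (.leaf (nat_lit 1152921504634111032))) (.node (.node (.leaf (nat_lit 31458315)) (.leaf (nat_lit 824468067344673005952053549191))) (.leaf (nat_lit 1152921504663471195)))) (.node (.node (.node (.leaf (nat_lit 0xe42916003000000300a0040f0100a)) (.leaf (nat_lit 1152921504687588476))) (.leaf (nat_lit 74454056))) (.node (.node (.leaf (nat_lit 42996751)) (.leaf (nat_lit 158336136))) (.leaf (nat_lit 0x1d873c0200000084630046700863))))) (.node (.node (.node (.node (.leaf (nat_lit 71800523459160568459774923787))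 (.leaf (nat_lit 123733064))) (.leaf (nat_lit 388713173516217949620305663040))) (.node (.node (.leaf (nat_lit 36706317)) (.leaf (nat_lit 1152921504732677263))) (.leaf (nat_lit 0x68dbb6a8020040004437004590085f)))) (.node (.node (.node (.leaf (nat_lit 22026247)) (.leaf (nat_lit 0x9d27b8c14a8858e428fa3dd828f80202400064760047a01472))) (.leaf (nat_lit 82839598))) (.node (.leaf (nat_lit 51385366)) (.leaf (nat_lit 0x76dfb59002004000343a0045400848))))))))) (.node (.node (.node (.node (.node (.node (.node (.node (.leaf (nat_lit 1125902054328320)) (.leaf (nat_lit 114299966))) (.leaf (nat_lit 0x101204312000400000008320041700832))) (.node (.node (.leaf (nat_lit 25166857)) (.leaf (nat_lit 0x1a985e13a00030040000858004600046c))) (.leaf (nat_lit 475368976266194586455447180369)))) (.node (.node (.node (.leaf (nat_lit 0x9c3b0d0020040004c050040b01008)) (.leaf (nat_lit 1152921504682346615))) (.leaf (nat_lit 0x504c13d00300000030410042e01041))) (.node (.node (.leaf (nat_lit 37749774)) (.leaf (nat_lit 871509788837516357986130334864))) (.leaf (nat_lit 103814200)))))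 (.node (.node (.node (.node (.leaf (nat_lit 39614082437741805013279184901)) (.leaf (nat_lit 0x6a196661b8832108580400c000005e004620006f))) (.leaf (nat_lit 60818461))) (.node (.node (.leaf (nat_lit 0x2844120003000000301f004170101f)) (.leaf (nat_lit 143661159))) (.leaf (nat_lit 97519671)))) (.node (.node (.node (.leaf (nat_lit 18880518)) (.leaf (nat_lit 752667545066119803217256649854))) (.leaf (nat_lit 75498537))) (.node (.node (.leaf (nat_lit 44046352)) (.leaf (nat_lit 0x2a9a9ee1b7004000000088b004880088b))) (.leaf (nat_lit 0x1cd745b67800200800044670046800062)))))) (.node (.node (.node (.node (.node (.leaf (nat_lit 3151872)) (.leaf (nat_lit 0x4d1377b9ea7a1df709ac8453a4b80800c000643e0046000870))) (.leaf (nat_lit 56628249))) (.node (.node (.leaf (nat_lit 29362186)) (.leaf (nat_lit 139466848))) (.leaf (nat_lit 0x41d8f6400200400044330045500856)))) (.node (.node (.node (.leaf (nat_lit 14681093)) (.leaf (nat_lit 0x2515a5617d80400000008790045300879))) (.leaf (nat_lit 1152921504646693957))) (.node (.node (.leaf (nat_lit 1152921504622576679)) (.leaf (nat_lit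 155190406))) (.leaf (nat_lit 110106682))))) (.node (.node (.node (.node (.leaf (nat_lit 0x60882e0300200800054000040501408)) (.leaf (nat_lit 0x65e305180100801030350047201058))) (.leaf (nat_lit 66062367))) (.node (.node (.leaf (nat_lit 0x124af180020040004c060042101011)) (.leaf (nat_lit 147850355))) (.leaf (nat_lit 0x11d46da36c00300400008380045d00461)))) (.node (.node (.node (.leaf (nat_lit 0x5f1bc661800300400044060041300011)) (.leaf (nat_lit 135271507))) (.leaf (nat_lit 1152921504652985420))) (.node (.node (.leaf (nat_lit 297105610609100950570854783009)) (.leaf (nat_lit 0x54af14740300000080260041a00026))) (.leaf (nat_lit 0x4a5877b0020040004c3c0045201065))))))) (.node (.node (.node (.node (.node (.node (.leaf (nat_lit 0xc050100200400034000040100801)) (.leaf (nat_lit 0x4e607640020040004c330046e01056))) (.leaf (nat_lit 0x10940d004180100c01008330043200430))) (.node (.node (.leaf (nat_lit 27268105)) (.leaf (nat_lit 0x288a00010040000458004830086c))) (.leaf (nat_lit 87032881)))) (.node (.node (.node (.leaf (nat_lit 0x11c2a070010080103004004060100c)) (.leaf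 (nat_lit 722956984123271794822995777656))) (.leaf (nat_lit 0x32d455200200400044250044200843))) (.node (.node (.leaf (nat_lit 0xc432001004000040e0042400825)) (.leaf (nat_lit 0x7fe83a4ec9975795c9733ac620a80c004140e09a490030380006c3b0048500491))) (.leaf (nat_lit 106956858))))) (.node (.node (.node (.node (.leaf (nat_lit 6292482)) (.leaf (nat_lit 118494273))) (.leaf (nat_lit 63968286))) (.node (.node (.leaf (nat_lit 0x29c5e12801008010340c0041001020)) (.leaf (nat_lit 0x3c0104c382652374ea8aa6a79997e3d47c1d0600a80a01c0006c020048a0187f))) (.leaf (nat_lit 99619895)))) (.node (.node (.node (.leaf (nat_lit 0x661a00100400004070041300814)) (.leaf (nat_lit 0x2529a00100400004530047900880))) (.leaf (nat_lit 0x494e15a003000000303b004490103b))) (.node (.node (.leaf (nat_lit 1152921504625722412)) (.leaf (nat_lit 0x25fb3ee9b9adbb669d892256e690b12c096d6e3a0ee5e8040380006c4e0049300095))) (.leaf (nat_lit 0x1c94852479800010010086b004650046b)))))) (.node (.node (.node (.node (.node (.leaf (nat_lit 29710562123457636914179347460)) (.leaf (nat_lit 0x8261968003000000846e0045c0006e)))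 (.leaf (nat_lit 57672730))) (.node (.node (.leaf (nat_lit 188166887151986321996881335325)) (.leaf (nat_lit 141564002))) (.leaf (nat_lit 94372918)))) (.node (.node (.node (.leaf (nat_lit 0x164270e003000000300f0040a0100f)) (.leaf (nat_lit 1152921504685491323))) (.leaf (nat_lit 0x35d57478020040004c1b0044601039))) (.node (.node (.leaf (nat_lit 0xd436001004000040f0042700828)) (.leaf (nat_lit 0xa7eb7aeeae8b5412fcb62dc4d110a04f225a72d8b58100040006c870049601495))) (.leaf (nat_lit 0x1d8728020000108863004630083a))))) (.node (.node (.node (.node (.leaf (nat_lit 11539459)) (.leaf (nat_lit 122684487))) (.leaf (nat_lit 67114015))) (.node (.node (.leaf (nat_lit 0x12c632e002004000500c0041201022)) (.leaf (nat_lit 0xae6adac003000000508e0048c0188e))) (.leaf (nat_lit 0x6d1b96c9b04748a0d8160dc8c470020240006438004590145d)))) (.node (.node (.node (.leaf (nat_lit 0x6d1dc741e00100c01008140041100410)) (.leaf (nat_lit 0x26c91a387d2569e00500400000800047a00481))) (.leaf (nat_lit 1152921504654033998))) (.node (.node (.leaf (nat_lit 50333718)) (.leaf (nat_lit 0x2f801c0200000094000040001000)))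 (.leaf (nat_lit 0x7e52d6300300000030630045401063)))))))) (.node (.node (.node (.node (.node (.node (.node (.leaf (nat_lit 4951761337741023117429444609)) (.leaf (nat_lit 115348543))) (.leaf (nat_lit 0x1024100100400004170043200833))) (.node (.node (.leaf (nat_lit 26216457)) (.leaf (nat_lit 0x8a635a100200400048570047300882))) (.leaf (nat_lit 85988400)))) (.node (.node (.node (.leaf (nat_lit 12583940)) (.leaf (nat_lit 0x23990d625600100c01008460047700474))) (.leaf (nat_lit 0x31d45438020040004c180044201035))) (.node (.node (.leaf (nat_lit 0x20cc21500100801030090042401018)) (.leaf (nat_lit 152048764))) (.leaf (nat_lit 104863800))))) (.node (.node (.node (.node (.leaf (nat_lit 0x1c130800200400050010040301005)) (.leaf (nat_lit 0x22283c0200000094620045701062))) (.leaf (nat_lit 62916638))) (.node (.node (.leaf (nat_lit 33556492)) (.leaf (nat_lit 144704617))) (.leaf (nat_lit 0x1a46880100400004370045e0085d)))) (.node (.node (.node (.leaf (nat_lit 0x650b4110b00400000008130040700813)) (.leaf (nat_lit 133170256))) (.leaf (nat_lit 0x58d223780100801030290043a01048)))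 (.node (.node (.leaf (nat_lit 0x17ce31880200400048060042a00812)) (.leaf (nat_lit 0x2d1b96b2a180100c01008820048f00493))) (.leaf (nat_lit 1152921504668715115)))))) (.node (.node (.node (.node (.node (.leaf (nat_lit 0xc130480200400048000040300803)) (.leaf (nat_lit 0x1c16fe1569803004000085d004700045e))) (.leaf (nat_lit 0x2250f4480200400044190043500836))) (.node (.node (.leaf (nat_lit 0x390dc8724803004000080a004190041c)) (.leaf (nat_lit 140515425))) (.leaf (nat_lit 92275765)))) (.node (.node (.node (.leaf (nat_lit 0x14c36098010080103005004090100e)) (.leaf (nat_lit 0x1f55656895000010010087a004520047a))) (.leaf (nat_lit 73405479))) (.node (.node (.leaf (nat_lit 0x23c5d34803000000301b004270101b)) (.leaf (nat_lit 156238983))) (.leaf (nat_lit 0x12548dcb75003004000083b004660046a))))) (.node (.node (.node (.node (.leaf (nat_lit 9438211)) (.leaf (nat_lit 0x556357180200400050380047301064))) (.leaf (nat_lit 0xa1275274c803004000081f0043c0043f))) (.node (.node (.leaf (nat_lit 0x1d4512c80200400030110040d00421)) (.leaf (nat_lit 148898936))) (.leaf (nat_lit 0x1b46c00100400004380046200861))))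 (.node (.node (.node (.leaf (nat_lit 0x7319c0200000084110040700811)) (.leaf (nat_lit 0x94e739c00200400044790048100875))) (.leaf (nat_lit 80746540))) (.node (.node (.leaf (nat_lit 49284118)) (.leaf (nat_lit 0x14ef50d8030000007c050040300005))) (.leaf (nat_lit 0x18b57df46200100c01008310044700453))))))) (.node (.node (.node (.node (.node (.node (.leaf (nat_lit 14855281652033072515877180418)) (.leaf (nat_lit 0x835944f8010080103040004570106f))) (.leaf (nat_lit 55579672))) (.node (.node (.leaf (nat_lit 1152921504617333787)) (.leaf (nat_lit 138418265))) (.leaf (nat_lit 89134130)))) (.node (.node (.node (.leaf (nat_lit 0x1341d0b003000000300d004070100d)) (.leaf (nat_lit 0x5964974802004000503a0047801069))) (.leaf (nat_lit 71304230))) (.node (.node (.leaf (nat_lit 0x15c8b330020040004c0e0041a01026)) (.leaf (nat_lit 153093245))) (.leaf (nat_lit 0x1cc72801004000043a0046700866))))) (.node (.node (.node (.node (.leaf (nat_lit 8394754)) (.leaf (nat_lit 0x50d7f8a8020040004c410045001071))) (.leaf (nat_lit 1152921504639353918))) (.node (.node (.leaf (nat_lit 34608140))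 (.leaf (nat_lit 146801777))) (.leaf (nat_lit 0x1ad475196700400000008600045b00860)))) (.node (.node (.node (.leaf (nat_lit 0x8010382c198651b0680b40c0000601400064000040701410)) (.leaf (nat_lit 0x7f23d9b244634fc1f8301fcfe6300202400064540047601480))) (.leaf (nat_lit 78649387))) (.node (.node (.leaf (nat_lit 292153850451958273884509180973)) (.leaf (nat_lit 0xa6eeda1003000000a4620045700062))) (.leaf (nat_lit 609067708254243709429957530725)))))) (.node (.node (.node (.node (.node (.leaf (nat_lit 0x1419030020040004c000040401002)) (.leaf (nat_lit 0x8759e5400000c01030440045600444))) (.leaf (nat_lit 59773979))) (.node (.node (.leaf (nat_lit 0x2747e10001008010300b004160101e)) (.leaf (nat_lit 0x16692a9a79002008000543a0047801487))) (.leaf (nat_lit 96470071)))) (.node (.node (.node (.leaf (nat_lit 16779270)) (.leaf (nat_lit 131077198))) (.leaf (nat_lit 0x36d575700200400044280044600847))) (.node (.node (.leaf (nat_lit 0x16c99370020040004c0f0041d01029)) (.leaf (nat_lit 0x2a1b76d2a600200801008640049400897))) (.leaf (nat_lit 0x1d8758020000108063004630046a)))))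 (.node (.node (.node (.node (.leaf (nat_lit 0x5c3b0e80200400044030040b0080b)) (.leaf (nat_lit 0x23d6158c7f00100c01008480045100476))) (.leaf (nat_lit 0x28d0d4e8020040004c1f0043401040))) (.node (.node (.leaf (nat_lit 232732728566261141091694680099)) (.leaf (nat_lit 0xaa64faf003000000308b0048f0108b))) (.leaf (nat_lit 0x19d45d986f000010010085f0045b0045f)))) (.node (.node (.node (.leaf (nat_lit 23069704)) (.leaf (nat_lit 0x8ce7d960030000004c580046b01458))) (.leaf (nat_lit 83891246))) (.node (.leaf (nat_lit 311960891080524362680945873969)) (.leaf (nat_lit 113251387))))))))))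

noncomputable def k4P : NT := (.node (.node (.node (.node (.node (.node (.node (.node (.leaf (nat_lit 0)) (.leaf (nat_lit 4179))) (.leaf (nat_lit 10271))) (.node (.leaf (nat_lit 4108)) (.leaf (nat_lit 3128)))) (.node (.node (.node (.leaf (nat_lit 4102)) (.leaf (nat_lit 10363))) (.leaf (nat_lit 10286))) (.node (.leaf (nat_lit 4118)) (.leaf (nat_lit 3136))))) (.node (.node (.node (.node (.leaf (nat_lit 12290)) (.leaf (nat_lit 2148))) (.leaf (nat_lit 2089))) (.node (.leaf (nat_lit 4111)) (.leaf (nat_lit 10298)))) (.node (.node (.leaf (nat_lit 2057)) (.leaf (nat_lit 2101))) (.node (.leaf (nat_lit 3098)) (.leaf (nat_lit 12360)))))) (.node (.node (.node (.node (.node (.leaf (nat_lit 10241)) (.leaf (nat_lit 12377))) (.leaf (nat_lit 2086))) (.node (.leaf (nat_lit 2062)) (.leaf (nat_lit 12344)))) (.node (.node (.node (.leaf (nat_lit 4103)) (.leaf (nat_lit 2182))) (.leaf (nat_lit 3121))) (.node (.leaf (nat_lit 10263)) (.leaf (nat_lit 2118))))) (.node (.node (.node (.node (.leaf (nat_lit 2052)) (.leaf (nat_lit 2161))) (.leaf (nat_lit 3116))) (.node (.leaf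 (nat_lit 3090)) (.leaf (nat_lit 10299)))) (.node (.node (.leaf (nat_lit 4106)) (.leaf (nat_lit 2103))) (.node (.leaf (nat_lit 4126)) (.leaf (nat_lit 3149))))))) (.node (.node (.node (.node (.node (.node (.leaf (nat_lit 10240)) (.leaf (nat_lit 12375))) (.leaf (nat_lit 10276))) (.node (.leaf (nat_lit 12300)) (.leaf (nat_lit 5176)))) (.node (.node (.node (.leaf (nat_lit 12294)) (.leaf (nat_lit 2173))) (.leaf (nat_lit 10288))) (.node (.leaf (nat_lit 3095)) (.leaf (nat_lit 2114))))) (.node (.node (.node (.node (.leaf (nat_lit 3075)) (.leaf (nat_lit 2153))) (.leaf (nat_lit 3114))) (.node (.leaf (nat_lit 12304)) (.leaf (nat_lit 4155)))) (.node (.node (.leaf (nat_lit 10249)) (.leaf (nat_lit 2102))) (.node (.leaf (nat_lit 2077)) (.leaf (nat_lit 5193)))))) (.node (.node (.node (.node (.node (.leaf (nat_lit 2050)) (.leaf (nat_lit 12385))) (.leaf (nat_lit 10279))) (.node (.leaf (nat_lit 10254)) (.leaf (nat_lit 4154)))) (.node (.node (.node (.leaf (nat_lit 2056)) (.leaf (nat_lit 3207))) (.leaf (nat_lit 10291))) (.node (.leaf (nat_lit 10265)) (.leaf (nat_lit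 2120))))) (.node (.node (.node (.node (.leaf (nat_lit 2053)) (.leaf (nat_lit 2168))) (.leaf (nat_lit 3117))) (.node (.leaf (nat_lit 3093)) (.leaf (nat_lit 10303)))) (.node (.node (.leaf (nat_lit 2059)) (.leaf (nat_lit 5175))) (.node (.leaf (nat_lit 3103)) (.leaf (nat_lit 10319)))))))) (.node (.node (.node (.node (.node (.node (.node (.leaf (nat_lit 8192)) (.leaf (nat_lit 10323))) (.leaf (nat_lit 3107))) (.node (.leaf (nat_lit 10252)) (.leaf (nat_lit 4152)))) (.node (.node (.node (.leaf (nat_lit 10246)) (.leaf (nat_lit 10364))) (.leaf (nat_lit 10287))) (.node (.leaf (nat_lit 10262)) (.leaf (nat_lit 10305))))) (.node (.node (.node (.node (.leaf (nat_lit 2051)) (.leaf (nat_lit 12391))) (.leaf (nat_lit 3113))) (.node (.leaf (nat_lit 10255)) (.leaf (nat_lit 12346)))) (.node (.node (.leaf (nat_lit 4105)) (.leaf (nat_lit 3125))) (.node (.leaf (nat_lit 10267)) (.leaf (nat_lit 3145)))))) (.node (.node (.node (.node (.node (.leaf (nat_lit 12289)) (.leaf (nat_lit 12384))) (.leaf (nat_lit 3110))) (.node (.leaf (nat_lit 4110)) (.leaf (nat_lit 3129)))) (.node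 (.node (.node (.leaf (nat_lit 12295)) (.leaf (nat_lit 2183))) (.leaf (nat_lit 10290))) (.node (.leaf (nat_lit 10264)) (.leaf (nat_lit 2119))))) (.node (.node (.node (.node (.leaf (nat_lit 3076)) (.leaf (nat_lit 2163))) (.leaf (nat_lit 12332))) (.node (.leaf (nat_lit 10258)) (.leaf (nat_lit 10302)))) (.node (.node (.leaf (nat_lit 10250)) (.leaf (nat_lit 4151))) (.node (.leaf (nat_lit 10270)) (.leaf (nat_lit 10318))))))) (.node (.node (.node (.node (.node (.node (.leaf (nat_lit 12288)) (.leaf (nat_lit 5208))) (.leaf (nat_lit 10277))) (.node (.leaf (nat_lit 12301)) (.leaf (nat_lit 10296)))) (.node (.node (.node (.leaf (nat_lit 3079)) (.leaf (nat_lit 2178))) (.leaf (nat_lit 2097))) (.node (.leaf (nat_lit 4119)) (.leaf (nat_lit 12357))))) (.node (.node (.node (.node (.leaf (nat_lit 10243)) (.leaf (nat_lit 3177))) (.leaf (nat_lit 12331))) (.node (.leaf (nat_lit 2066)) (.leaf (nat_lit 5179)))) (.node (.node (.leaf (nat_lit 3082)) (.leaf (nat_lit 3126))) (.node (.leaf (nat_lit 3101)) (.leaf (nat_lit 3147)))))) (.node (.node (.node (.node (.node (.leaf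 (nat_lit 3074)) (.leaf (nat_lit 12386))) (.leaf (nat_lit 10280))) (.node (.leaf (nat_lit 3087)) (.leaf (nat_lit 5178)))) (.node (.node (.node (.leaf (nat_lit 3080)) (.leaf (nat_lit 2184))) (.leaf (nat_lit 2100))) (.node (.leaf (nat_lit 2074)) (.leaf (nat_lit 5192))))) (.node (.node (.node (.node (.leaf (nat_lit 3077)) (.leaf (nat_lit 3192))) (.leaf (nat_lit 4142))) (.node (.leaf (nat_lit 2070)) (.leaf (nat_lit 2112)))) (.node (.node (.leaf (nat_lit 3083)) (.leaf (nat_lit 10295))) (.node (.leaf (nat_lit 4127)) (.leaf (nat_lit 2128)))))))))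

noncomputable def k4L : NT := (.leaf (nat_lit 0))

noncomputable def k4Fi : NT := (.leaf (nat_lit 0))

noncomputable def k4 : Cert := mkCert 10 1023 k4F k4P k4L k4Fi 382 1

theorem k4_c0 : allR 0 382 (checkFact ((rels ++ x4) ++ trivRels 7) sD k4) = true := by decide +kernel

theorem k4_c : CfsgH9.allLt k4.nfacts (checkFact ((rels ++ x4) ++ trivRels 7) sD k4) = true := by
  have h0 := k4_c0
  exact allLt_of_allR_zero h0

theorem k4_t : checkTgt k4 [762] [8] = true := by decide +kernel

def s5 : List (List ℕ) := [[8], [3, 3, 12, 2, 2, 3, 6, 2, 12, 3, 7, 2, 3, 3, 13, 2, 2, 3, 6, 2, 13, 3, 7, 2]]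

def t5 : List ℕ := [4, 3, 6, 2, 12, 3, 7, 2, 2, 2, 2, 12, 3, 3, 3, 5, 2, 2, 2, 13, 3, 3, 3, 3, 6, 2, 13, 3, 7, 2]

noncomputable def k5F : NT := (.node (.node (.node (.node (.node (.node (.node (.node (.leaf (nat_lit 268437504)) (.leaf (nat_lit 17302059))) (.leaf (nat_lit 8914444))) (.node (.node (.leaf (nat_lit 0x178f85c0001804280c00830080c)) (.leaf (nat_lit 0x7cc8e7c0200800243c009200452))) (.leaf (nat_lit 0x38af5680200800241c008cc0431)))) (.node (.node (.node (.leaf (nat_lit 4195854)) (.leaf (nat_lit 0x1138eb097c01018040433009300248))) (.leaf (nat_lit 11273749))) (.node (.leaf (nat_lit 6555143)) (.leaf (nat_lit 15991333))))) (.node (.node (.node (.node (.leaf (nat_lit 2100231)) (.leaf (nat_lit 18014398522327623))) (.leaf (nat_lit 9962510))) (.node (.node (.leaf (nat_lit 5243904)) (.leaf (nat_lit 22283337))) (.leaf (nat_lit 14680610)))) (.node (.node (.node (.leaf (nat_lit 48361755151174208361858569)) (.leaf (nat_lit 18014398524163152))) (.leaf (nat_lit 0x6933ab55003008003018008bc0c2e))) (.node (.leaf (nat_lit 136434537030018480918848865308))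 (.leaf (nat_lit 0xdd47b91d80002004043f008f0023f)))))) (.node (.node (.node (.node (.node (.leaf (nat_lit 1049091)) (.leaf (nat_lit 0x6353c1d540300800041900910022e))) (.leaf (nat_lit 9438221))) (.node (.node (.leaf (nat_lit 0x891820000180428070081c0807)) (.leaf (nat_lit 347411435365885110095052276819))) (.leaf (nat_lit 0x7b63ae8fc02010040420008c80436)))) (.node (.node (.node (.leaf (nat_lit 0x109c4a221007c3c1c0d8642e160a84c200e0602c14080301406010b00402000104c0601)) (.leaf (nat_lit 18014398523376718))) (.leaf (nat_lit 12060184))) (.node (.leaf (nat_lit 0x2f844c803000002418008680c18)) (.leaf (nat_lit 16515622))))) (.node (.node (.node (.node (.leaf (nat_lit 18014398512103948)) (.leaf (nat_lit 0xc38bc396c0201004041e00918044a))) (.leaf (nat_lit 10748943))) (.node (.leaf (nat_lit 6030851)) (.leaf (nat_lit 18014398518658107)))) (.node (.node (.node (.leaf (nat_lit 0x168d85800018042811008440811)) (.leaf (nat_lit 749534017385010504119618626))) (.leaf (nat_lit 18014398517084722))) (.node (.leaf (nat_lit 8389644)) (.leaf (nat_lit 0xe978bd1280201004042600900043c)))))))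 (.node (.node (.node (.node (.node (.node (.leaf (nat_lit 18014398509744642)) (.leaf (nat_lit 0x10181a91440101804042b0090c0242))) (.leaf (nat_lit 0xd4120a0610400028000a2200888021b))) (.node (.node (.leaf (nat_lit 0x189086000018041c09008240809)) (.leaf (nat_lit 0x10fa0c498001018040431009480246))) (.leaf (nat_lit 18014398517346869)))) (.node (.node (.node (.leaf (nat_lit 18014398513941522)) (.leaf (nat_lit 20186165))) (.leaf (nat_lit 11534870))) (.node (.leaf (nat_lit 18014398511580186)) (.leaf (nat_lit 18014398519181886))))) (.node (.node (.node (.node (.leaf (nat_lit 18014398511842826)) (.leaf (nat_lit 18014398522851913))) (.leaf (nat_lit 181087421103304424390676710438))) (.node (.node (.leaf (nat_lit 0x501944a403008000402008500215)) (.leaf (nat_lit 0x14b96d46900300800045300954024a))) (.leaf (nat_lit 15205411)))) (.node (.node (.node (.leaf (nat_lit 0x158c85400018041c130084c0813)) (.leaf (nat_lit 0x12f98b419c0101804043700940024f))) (.leaf (nat_lit 12848156))) (.node (.leaf (nat_lit 275635096096071125972814878)) (.leaf (nat_lit 16777767))))))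 (.node (.node (.node (.node (.node (.leaf (nat_lit 1574404)) (.leaf (nat_lit 0x8568c295c0201004041b009140438))) (.leaf (nat_lit 18014398512890917))) (.node (.node (.leaf (nat_lit 0x69281800018041c04008100804)) (.leaf (nat_lit 18014398528094804))) (.leaf (nat_lit 14419488)))) (.node (.node (.node (.leaf (nat_lit 87047381379300288547523601)) (.leaf (nat_lit 0x1155fb12500002004044e00924024e))) (.leaf (nat_lit 12322330))) (.node (.leaf (nat_lit 7341066)) (.leaf (nat_lit 0xd774b99b40201004043a008f8043f))))) (.node (.node (.node (.node (.leaf (nat_lit 3670541)) (.leaf (nat_lit 18014398523114572))) (.leaf (nat_lit 18014398513415210))) (.node (.leaf (nat_lit 0x727964ac030080030020085c0c16)) (.leaf (nat_lit 18014398518919740)))) (.node (.node (.node (.leaf (nat_lit 0x108e84000018041c0e00838080e)) (.leaf (nat_lit 0x7dcee4402008002440009440448))) (.leaf (nat_lit 13372445))) (.node (.leaf (nat_lit 18014398512628769)) (.leaf (nat_lit 17039912)))))))) (.node (.node (.node (.node (.node (.node (.node (.leaf (nat_lit 18014398509482497)) (.leaf (nat_lit 18014398521017411)))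 (.leaf (nat_lit 309485019044823483466909218))) (.node (.node (.leaf (nat_lit 0xc860800101004180c00828080a)) (.leaf (nat_lit 0x1278fc828000020040452009340252))) (.leaf (nat_lit 13632030)))) (.node (.node (.node (.leaf (nat_lit 4456976)) (.leaf (nat_lit 0x8e481ee9e4d228f6760b1d18602048003434009200c40))) (.leaf (nat_lit 0x2915d400200800081500858042b))) (.node (.leaf (nat_lit 0x1c0c04168c004008000a070085c0219)) (.leaf (nat_lit 0xe14987118010180404250089c023d))))) (.node (.node (.node (.node (.leaf (nat_lit 18014398511579657)) (.leaf (nat_lit 18874931))) (.leaf (nat_lit 18014398513153063))) (.node (.node (.leaf (nat_lit 5506050)) (.leaf (nat_lit 0x11589cf6a003008000449009440255))) (.leaf (nat_lit 18014398518657593)))) (.node (.node (.node (.leaf (nat_lit 0x18040403000001801008040801)) (.leaf (nat_lit 376981760913658938746294240325))) (.leaf (nat_lit 18014398516822576))) (.node (.leaf (nat_lit 7867402)) (.leaf (nat_lit 0xe777a59380002004042a008ec022a)))))) (.node (.node (.node (.node (.node (.leaf (nat_lit 1311236)) (.leaf (nat_lit 18088495))) (.leaf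 (nat_lit 0x3ca205c0101004240c008900c20))) (.node (.node (.leaf (nat_lit 0x79241c03000001806008180806)) (.leaf (nat_lit 0x145a1cae8c03008000446009380253))) (.leaf (nat_lit 0xb338ae19000020040436008c00236)))) (.node (.node (.node (.leaf (nat_lit 96718787935760062542513683)) (.leaf (nat_lit 367136269038717398541328188493))) (.leaf (nat_lit 0x2f2a4c002008000807008b80419))) (.node (.leaf (nat_lit 7079432)) (.leaf (nat_lit 0x1f4bba1200201004040e008fc0428))))) (.node (.node (.node (.node (.leaf (nat_lit 18014398512630797)) (.leaf (nat_lit 19661876))) (.leaf (nat_lit 0x1d0fa65100300800040d008a40224))) (.node (.leaf (nat_lit 212770953475652531012765207)) (.leaf (nat_lit 267907637764748634644489700410)))) (.node (.node (.node (.leaf (nat_lit 0x118e44403000001810008400810)) (.leaf (nat_lit 21236793))) (.leaf (nat_lit 0xb937860f800020040421008c80221))) (.node (.leaf (nat_lit 0x190b9dcf00300800040c0087c0220)) (.leaf (nat_lit 307545902251416208850410538048))))))) (.node (.node (.node (.node (.node (.node (.leaf (nat_lit 789506)) (.leaf (nat_lit 17826861)))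 (.leaf (nat_lit 18014398512890403))) (.node (.node (.leaf (nat_lit 0x98488801010041809008200808)) (.leaf (nat_lit 21759046))) (.leaf (nat_lit 14156319)))) (.node (.node (.node (.leaf (nat_lit 18014398514201107)) (.leaf (nat_lit 0xc561c6e48030080004350092c024d))) (.leaf (nat_lit 11797015))) (.node (.leaf (nat_lit 0x3291cc803000001a1a00868081a)) (.leaf (nat_lit 0xe546a19b00002004043b008f8023b))))) (.node (.node (.node (.node (.leaf (nat_lit 2884106)) (.leaf (nat_lit 19399220))) (.leaf (nat_lit 10486287))) (.node (.leaf (nat_lit 5768706)) (.leaf (nat_lit 0x870ea45a80300800042300898023a)))) (.node (.node (.node (.leaf (nat_lit 0x138986801010041813008480812)) (.leaf (nat_lit 0x99429610983298b8a5814126a0a008003450009080c4f))) (.leaf (nat_lit 0x36ad4e40200800240a008c4041e))) (.node (.leaf (nat_lit 8127499)) (.leaf (nat_lit 0x389c0e4733c9e805008000027008a80240)))))) (.node (.node (.node (.node (.node (.leaf (nat_lit 1835526)) (.leaf (nat_lit 18350641))) (.leaf (nat_lit 173640438054478308605766665252))) (.node (.node (.leaf (nat_lit 0x493410030000018030080c0803))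 (.leaf (nat_lit 0x5324d42a243a200102800004700950024b))) (.leaf (nat_lit 0x3c2059802008000820008880437)))) (.node (.node (.node (.leaf (nat_lit 62868864987007361454705676)) (.leaf (nat_lit 20709943))) (.leaf (nat_lit 0x322b4d402008000808008bc041b))) (.node (.leaf (nat_lit 18014398512104477)) (.leaf (nat_lit 290248586911226983717200200766))))) (.node (.node (.node (.node (.leaf (nat_lit 3932686)) (.leaf (nat_lit 352256810050900542590324573259))) (.leaf (nat_lit 193486164309272061275183514665))) (.node (.leaf (nat_lit 18014398511318040)) (.leaf (nat_lit 0xd343a25b804000000439008f00439)))) (.node (.node (.node (.leaf (nat_lit 0xe8f4380300000180d00834080d)) (.leaf (nat_lit 21498940))) (.leaf (nat_lit 0x379cd780200800241d008780433))) (.node (.leaf (nat_lit 153794711799684556005069554720)) (.leaf (nat_lit 0x2583c1c43349f805008000028008e40241)))))))))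

noncomputable def k5P : NT := (.node (.node (.node (.node (.node (.node (.node (.leaf (nat_lit 0)) (.leaf (nat_lit 1063))) (.leaf (nat_lit 2060))) (.node (.node (.leaf (nat_lit 3086)) (.leaf (nat_lit 2616))) (.leaf (nat_lit 1564)))) (.node (.node (.node (.leaf (nat_lit 6151)) (.leaf (nat_lit 1075))) (.leaf (nat_lit 1039))) (.node (.leaf (nat_lit 2567)) (.leaf (nat_lit 1058))))) (.node (.node (.node (.node (.leaf (nat_lit 1027)) (.leaf (nat_lit 2093))) (.leaf (nat_lit 2061))) (.node (.node (.leaf (nat_lit 2048)) (.leaf (nat_lit 1607))) (.leaf (nat_lit 1054)))) (.node (.node (.node (.leaf (nat_lit 1546)) (.leaf (nat_lit 2612))) (.leaf (nat_lit 1046))) (.node (.leaf (nat_lit 2058)) (.leaf (nat_lit 1572)))))) (.node (.node (.node (.node (.node (.leaf (nat_lit 1537)) (.leaf (nat_lit 1067))) (.leaf (nat_lit 3084))) (.node (.node (.leaf (nat_lit 6673)) (.leaf (nat_lit 6204))) (.leaf (nat_lit 1565)))) (.node (.node (.node (.leaf (nat_lit 3593)) (.leaf (nat_lit 1076))) (.leaf (nat_lit 2575))) (.node (.leaf (nat_lit 2568)) (.leaf (nat_lit 2083))))) (.node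 (.node (.node (.node (.leaf (nat_lit 3076)) (.leaf (nat_lit 1073))) (.leaf (nat_lit 2062))) (.node (.leaf (nat_lit 3074)) (.leaf (nat_lit 1055)))) (.node (.node (.node (.leaf (nat_lit 1037)) (.leaf (nat_lit 2613))) (.leaf (nat_lit 3096))) (.node (.leaf (nat_lit 6154)) (.leaf (nat_lit 1573))))))) (.node (.node (.node (.node (.node (.node (.leaf (nat_lit 1536)) (.leaf (nat_lit 1064))) (.leaf (nat_lit 2572))) (.node (.node (.leaf (nat_lit 1040)) (.leaf (nat_lit 6201))) (.leaf (nat_lit 6172)))) (.node (.node (.node (.leaf (nat_lit 1544)) (.leaf (nat_lit 1587))) (.leaf (nat_lit 2063))) (.node (.leaf (nat_lit 3079)) (.leaf (nat_lit 1571))))) (.node (.node (.node (.node (.leaf (nat_lit 1028)) (.leaf (nat_lit 1071))) (.leaf (nat_lit 2573))) (.node (.node (.leaf (nat_lit 2050)) (.leaf (nat_lit 2121))) (.leaf (nat_lit 1566)))) (.node (.node (.node (.leaf (nat_lit 6668)) (.leaf (nat_lit 2101))) (.leaf (nat_lit 1047))) (.node (.leaf (nat_lit 2570)) (.leaf (nat_lit 1061)))))) (.node (.node (.node (.node (.node (.leaf (nat_lit 6146)) (.leaf (nat_lit 2604)))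 (.leaf (nat_lit 1549))) (.node (.node (.leaf (nat_lit 1554)) (.leaf (nat_lit 2118))) (.leaf (nat_lit 6173)))) (.node (.node (.node (.leaf (nat_lit 1034)) (.leaf (nat_lit 2100))) (.leaf (nat_lit 3093))) (.node (.leaf (nat_lit 3080)) (.leaf (nat_lit 2595))))) (.node (.node (.node (.node (.leaf (nat_lit 1030)) (.leaf (nat_lit 1585))) (.leaf (nat_lit 2574))) (.node (.leaf (nat_lit 3075)) (.leaf (nat_lit 3104)))) (.node (.node (.node (.leaf (nat_lit 1038)) (.leaf (nat_lit 1079))) (.leaf (nat_lit 3098))) (.node (.leaf (nat_lit 2059)) (.leaf (nat_lit 1062))))))))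

noncomputable def k5L : NT := (.leaf (nat_lit 0))

noncomputable def k5Fi : NT := (.leaf (nat_lit 0))

noncomputable def k5 : Cert := mkCert 9 511 k5F k5P k5L k5Fi 171 1

theorem k5_c0 : allR 0 171 (checkFact ((rels ++ [wA, wB]) ++ trivRels 7) s5 k5) = true := by decide +kernel

theorem k5_c : CfsgH9.allLt k5.nfacts (checkFact ((rels ++ [wA, wB]) ++ trivRels 7) s5 k5) = true := by
  have h0 := k5_c0
  exact allLt_of_allR_zero h0

theorem k5_t : checkTgt k5 [80, 85, 160, 256, 312, 303, 205, 122, 198, 202, 178, 180, 273, 333, 335, 283, 278, 340, 338, 315, 255, 253, 151, 31, 32, 34, 37, 39, 41, 2] t5 = true := by decide +kernel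

def s6 : List (List ℕ) := [[8], [3, 3, 3, 10, 2, 2, 2, 2, 2, 6, 2, 10, 3, 7, 3, 3, 3, 3, 3, 11, 2, 2, 2, 2, 2, 6, 2, 11, 3, 7, 3, 3]]

def t6 : List ℕ := [4, 2, 2, 6, 2, 10, 3, 7, 3, 3, 2, 2, 2, 2, 10, 3, 3, 3, 3, 5, 2, 2, 2, 2, 11, 3, 3, 3, 3, 2, 2, 6, 2, 11, 3, 7, 3, 3]

noncomputable def k6F : NT := (.node (.node (.node (.node (.node (.node (.node (.node (.leaf (nat_lit 18014398509482497)) (.leaf (nat_lit 18014398526260307))) (.leaf (nat_lit 0x7f2d878c80002004042a008bc022a))) (.node (.leaf (nat_lit 140240117441887400034305565)) (.leaf (nat_lit 18014398517085250)))) (.node (.node (.node (.leaf (nat_lit 18014398513676817)) (.leaf (nat_lit 0x6440a31449653b723d1c6c9783c07028003210009240059))) (.leaf (nat_lit 0x914da7d1403008000431008dc0232))) (.node (.leaf (nat_lit 10748944)) (.leaf (nat_lit 0xa91aacdbc03008000439008f0024a))))) (.node (.node (.node (.node (.leaf (nat_lit 2359816)) (.leaf (nat_lit 0x43a18f87b3e9f801028000042009540253))) (.leaf (nat_lit 0x2915a3d0c03008000414008cc0231))) (.node (.leaf (nat_lit 0x703c20110909c0500800000e0084c0223))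 (.leaf (nat_lit 18352679)))) (.node (.node (.node (.leaf (nat_lit 6554136)) (.leaf (nat_lit 18014398529143389))) (.leaf (nat_lit 420706194449792542081288763))) (.node (.leaf (nat_lit 136429701326740022951910048812)) (.leaf (nat_lit 295195511365090046162668880973)))))) (.node (.node (.node (.node (.node (.leaf (nat_lit 1311236)) (.leaf (nat_lit 0xff5eafe0804000000452009500452))) (.leaf (nat_lit 18014398514725938))) (.node (.leaf (nat_lit 18014398510268961)) (.leaf (nat_lit 0x60308800101004081d0090c0642)))) (.node (.node (.node (.leaf (nat_lit 5505556)) (.leaf (nat_lit 0x11969b62480002004045b00960025b))) (.leaf (nat_lit 18014398516298297))) (.node (.leaf (nat_lit 0x210f964cc0300800041100898022b)) (.leaf (nat_lit 18014398524949068))))) (.node (.node (.node (.node (.leaf (nat_lit 18014398512628237)) (.leaf (nat_lit 18014398527832664))) (.leaf (nat_lit 14156824))) (.node (.leaf (nat_lit 9962511)) (.leaf (nat_lit 18014398519968328)))) (.node (.node (.node (.leaf (nat_lit 18014398516822557)) (.leaf (nat_lit 24906326))) (.leaf (nat_lit 0x59ad8840101004221b008f80a3c)))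 (.node (.leaf (nat_lit 0x251199cec03008000413008ac022e)) (.leaf (nat_lit 0xf777ad1740101804043f009380250))))))) (.node (.node (.node (.node (.node (.node (.leaf (nat_lit 18014398510006787)) (.leaf (nat_lit 18014398526521940))) (.leaf (nat_lit 0x208602e160a85001028000014008c00219))) (.node (.leaf (nat_lit 120892591184942225569351194)) (.leaf (nat_lit 0x4b24935840300800041e008880243)))) (.node (.node (.node (.leaf (nat_lit 18014398514201107)) (.leaf (nat_lit 18014398528357467))) (.leaf (nat_lit 14681113))) (.node (.leaf (nat_lit 18014398513677354)) (.leaf (nat_lit 0x55abdc40200800223a008ec044b))))) (.node (.node (.node (.node (.leaf (nat_lit 2884106)) (.leaf (nat_lit 0x188c8874499403010000a22009540656))) (.leaf (nat_lit 18014398515512373))) (.node (.leaf (nat_lit 18014398513153061)) (.leaf (nat_lit 0x2eb459802008002226009180445)))) (.node (.node (.node (.leaf (nat_lit 7078426)) (.leaf (nat_lit 0x13172ba2640002004045e00974025e))) (.leaf (nat_lit 15991324))) (.node (.leaf (nat_lit 0x732a870b400020040427008b40227)) (.leaf (nat_lit 0xbd1cadde4040000004400093c0440))))))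 (.node (.node (.node (.node (.node (.leaf (nat_lit 1835526)) (.leaf (nat_lit 0xf980bfa14010180404500094c024e))) (.leaf (nat_lit 0x4489cf803000002232008bc0a32))) (.node (.leaf (nat_lit 8913923)) (.leaf (nat_lit 18090534)))) (.node (.node (.node (.leaf (nat_lit 6029846)) (.leaf (nat_lit 0x12395ca24c0201004045a00960045c))) (.leaf (nat_lit 0x55290880101004081a008e0063a))) (.node (.leaf (nat_lit 0x2310984d403008000412008a4022c)) (.leaf (nat_lit 0x395abad7c0300800041d009340241))))) (.node (.node (.node (.node (.leaf (nat_lit 18014398513152527)) (.leaf (nat_lit 23594056))) (.leaf (nat_lit 18014398515774519))) (.node (.leaf (nat_lit 111627379211526290597478138918)) (.leaf (nat_lit 527091666575881971047598665)))) (.node (.node (.node (.leaf (nat_lit 18014398517346847)) (.leaf (nat_lit 25167452))) (.leaf (nat_lit 18014398517084736))) (.node (.leaf (nat_lit 18014398514463791)) (.leaf (nat_lit 0xfb5d8e18000020040442009440242)))))))) (.node (.node (.node (.node (.node (.node (.node (.leaf (nat_lit 18014398509744642)) (.leaf (nat_lit 317502610588619183900506981455)))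 (.leaf (nat_lit 18014398514725424))) (.node (.leaf (nat_lit 130568710885392441662245403)) (.leaf (nat_lit 17564702)))) (.node (.node (.node (.leaf (nat_lit 18014398513938962)) (.leaf (nat_lit 357218246327761057375773262426))) (.leaf (nat_lit 0xa14e8b92800020040435008c80235))) (.node (.leaf (nat_lit 0x1f0e94cc003008000410008900229)) (.leaf (nat_lit 19663418))))) (.node (.node (.node (.node (.leaf (nat_lit 2622985)) (.leaf (nat_lit 22544964))) (.leaf (nat_lit 13632535))) (.node (.leaf (nat_lit 9438222)) (.leaf (nat_lit 0x2d97da002008002227008a00446)))) (.node (.node (.node (.leaf (nat_lit 6817305)) (.leaf (nat_lit 18014398529406046))) (.leaf (nat_lit 15729691))) (.node (.leaf (nat_lit 0x6d3195ce00300800042c00894022d)) (.leaf (nat_lit 18014398525735503)))))) (.node (.node (.node (.node (.node (.leaf (nat_lit 1573381)) (.leaf (nat_lit 327449652232408354124378670160))) (.leaf (nat_lit 168683842194058329470511088689))) (.node (.leaf (nat_lit 0x120783e00008080102800000300884021e)) (.leaf (nat_lit 17827362)))) (.node (.node (.node (.leaf (nat_lit 5767701))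 (.leaf (nat_lit 24117833))) (.leaf (nat_lit 18014398516298810))) (.node (.leaf (nat_lit 11535378)) (.leaf (nat_lit 20186173))))) (.node (.node (.node (.node (.leaf (nat_lit 18014398512891406)) (.leaf (nat_lit 23331911))) (.leaf (nat_lit 0x2d17a651c03008000416008d80233))) (.node (.leaf (nat_lit 18014398513415207)) (.leaf (nat_lit 19139128)))) (.node (.node (.node (.leaf (nat_lit 18014398517085726)) (.leaf (nat_lit 0x9ccda2801010042e5600974065f))) (.leaf (nat_lit 18014398516823103))) (.node (.leaf (nat_lit 0x4f289dca40300800040e008b80224)) (.leaf (nat_lit 18014398525997649))))))) (.node (.node (.node (.node (.node (.node (.leaf (nat_lit 1051139)) (.leaf (nat_lit 0x10576bc5f004000000454009400454))) (.leaf (nat_lit 12846100))) (.node (.leaf (nat_lit 8389632)) (.leaf (nat_lit 0x3f1eb0c8c030080004000090c0220)))) (.node (.node (.node (.leaf (nat_lit 18014398514465300)) (.leaf (nat_lit 362165166068462044680609858650))) (.leaf (nat_lit 0x2f18a952403008000417008e00234))) (.node (.leaf (nat_lit 11273233)) (.leaf (nat_lit 0x71b695801010042e3a00924064b)))))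 (.node (.node (.node (.node (.leaf (nat_lit 3148299)) (.leaf (nat_lit 18014398527570519))) (.leaf (nat_lit 183568136885153644075652744244))) (.node (.leaf (nat_lit 104185231865978633329266918436)) (.leaf (nat_lit 18612776)))) (.node (.node (.node (.leaf (nat_lit 18014398516562460)) (.leaf (nat_lit 0x994d6210279ae1c0de54ac1d00204800324c009740a55))) (.leaf (nat_lit 16253980))) (.node (.leaf (nat_lit 12059667)) (.leaf (nat_lit 20972095)))))) (.node (.node (.node (.node (.node (.leaf (nat_lit 2097671)) (.leaf (nat_lit 18014398526784085))) (.leaf (nat_lit 13370390))) (.node (.leaf (nat_lit 9175566)) (.leaf (nat_lit 493241743626671117200525893)))) (.node (.node (.node (.leaf (nat_lit 6291991)) (.leaf (nat_lit 0x1176ac62580002004045c0095c025c))) (.leaf (nat_lit 15469082))) (.node (.leaf (nat_lit 18014398514201645)) (.leaf (nat_lit 18014398525473870))))) (.node (.node (.node (.node (.leaf (nat_lit 18014398513414672)) (.leaf (nat_lit 0xd96bc6e380300800044800964025a))) (.leaf (nat_lit 193486164309272061893662213174))) (.node (.leaf (nat_lit 10488335))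 (.leaf (nat_lit 19399737)))) (.node (.node (.node (.leaf (nat_lit 0x1e8ec72371a0c8602e160a850271288c421f0e86c32160a048200e0602810060280c02000f80402000107c0200)) (.leaf (nat_lit 0x254e6984ea7804008000a5c0097c0260))) (.leaf (nat_lit 17040413))) (.node (.leaf (nat_lit 0x7537890f80002004042f0089c022f)) (.leaf (nat_lit 18014398526259794)))))))))

noncomputable def k6P : NT := (.node (.node (.node (.node (.node (.node (.node (.leaf (nat_lit 0)) (.leaf (nat_lit 1565))) (.node (.leaf (nat_lit 2048)) (.leaf (nat_lit 3164)))) (.node (.node (.leaf (nat_lit 1551)) (.leaf (nat_lit 1087))) (.leaf (nat_lit 1556)))) (.node (.node (.node (.leaf (nat_lit 1031)) (.leaf (nat_lit 1576))) (.leaf (nat_lit 5135))) (.node (.node (.leaf (nat_lit 1047)) (.leaf (nat_lit 1606))) (.leaf (nat_lit 2073))))) (.node (.node (.node (.node (.leaf (nat_lit 5123)) (.leaf (nat_lit 3106))) (.leaf (nat_lit 2062))) (.node (.node (.leaf (nat_lit 5651)) (.leaf (nat_lit 1601))) (.leaf (nat_lit 2071)))) (.node (.node (.node (.leaf (nat_lit 5131)) (.leaf (nat_lit 1595))) (.leaf (nat_lit 2066)))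 (.node (.node (.leaf (nat_lit 5659)) (.leaf (nat_lit 1097))) (.leaf (nat_lit 2075)))))) (.node (.node (.node (.node (.node (.leaf (nat_lit 1537)) (.leaf (nat_lit 2589))) (.leaf (nat_lit 2051))) (.node (.node (.leaf (nat_lit 1553)) (.leaf (nat_lit 1600))) (.leaf (nat_lit 2580)))) (.node (.node (.node (.leaf (nat_lit 3081)) (.leaf (nat_lit 2105))) (.leaf (nat_lit 2576))) (.node (.node (.leaf (nat_lit 3097)) (.leaf (nat_lit 2120))) (.leaf (nat_lit 2586))))) (.node (.node (.node (.node (.leaf (nat_lit 1029)) (.leaf (nat_lit 5159))) (.leaf (nat_lit 2063))) (.node (.node (.leaf (nat_lit 1045)) (.leaf (nat_lit 1092))) (.leaf (nat_lit 2072)))) (.node (.node (.node (.leaf (nat_lit 3597)) (.leaf (nat_lit 2621))) (.leaf (nat_lit 2067))) (.node (.node (.leaf (nat_lit 3613)) (.leaf (nat_lit 2636))) (.leaf (nat_lit 2076))))))) (.node (.node (.node (.node (.node (.node (.leaf (nat_lit 1536)) (.leaf (nat_lit 2077))) (.leaf (nat_lit 1539))) (.node (.node (.leaf (nat_lit 1552)) (.leaf (nat_lit 1599))) (.leaf (nat_lit 2068)))) (.node (.node (.node (.leaf (nat_lit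 1032)) (.leaf (nat_lit 5176))) (.leaf (nat_lit 2064))) (.node (.node (.leaf (nat_lit 1048)) (.leaf (nat_lit 2119))) (.leaf (nat_lit 1562))))) (.node (.node (.node (.node (.leaf (nat_lit 1028)) (.leaf (nat_lit 5158))) (.leaf (nat_lit 2574))) (.node (.node (.leaf (nat_lit 1044)) (.leaf (nat_lit 1602))) (.leaf (nat_lit 2583)))) (.node (.node (.node (.leaf (nat_lit 1548)) (.leaf (nat_lit 2109))) (.leaf (nat_lit 2578))) (.node (.node (.leaf (nat_lit 1564)) (.leaf (nat_lit 1611))) (.leaf (nat_lit 1052)))))) (.node (.node (.node (.node (.node (.leaf (nat_lit 1538)) (.leaf (nat_lit 2078))) (.leaf (nat_lit 1038))) (.node (.node (.leaf (nat_lit 1554)) (.leaf (nat_lit 2624))) (.leaf (nat_lit 2070)))) (.node (.node (.node (.leaf (nat_lit 1034)) (.leaf (nat_lit 5178))) (.leaf (nat_lit 2065))) (.node (.node (.leaf (nat_lit 1050)) (.leaf (nat_lit 2632))) (.leaf (nat_lit 5146))))) (.node (.node (.node (.node (.leaf (nat_lit 1030)) (.leaf (nat_lit 1064))) (.leaf (nat_lit 2575))) (.node (.node (.leaf (nat_lit 1046)) (.leaf (nat_lit 1605))) (.leaf (nat_lit 2584))))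 (.node (.node (.node (.leaf (nat_lit 1550)) (.leaf (nat_lit 1598))) (.leaf (nat_lit 2579))) (.node (.node (.leaf (nat_lit 1566)) (.leaf (nat_lit 5206))) (.leaf (nat_lit 2588))))))))

noncomputable def k6L : NT := (.leaf (nat_lit 0))

noncomputable def k6Fi : NT := (.leaf (nat_lit 0))

noncomputable def k6 : Cert := mkCert 9 511 k6F k6P k6L k6Fi 160 1

theorem k6_c0 : allR 0 160 (checkFact ((rels ++ [wA, wB]) ++ trivRels 7) s6 k6) = true := by decide +kernel

theorem k6_c : CfsgH9.allLt k6.nfacts (checkFact ((rels ++ [wA, wB]) ++ trivRels 7) s6 k6) = true := by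
  have h0 := k6_c0
  exact allLt_of_allR_zero h0

theorem k6_t : checkTgt k6 [70, 198, 196, 202, 274, 312, 319, 317, 299, 291, 290, 298, 302, 278, 206, 105, 121, 123, 99, 97, 30, 28, 78, 80, 39, 131, 133, 49, 47, 46, 48, 50, 52, 55, 57, 59, 61, 63] t6 = true := by decide +kernel

noncomputable def g0F : NT := (.node (.node (.node (.node (.node (.node (.leaf (nat_lit 4194432)) (.leaf (nat_lit 0xf9b385068e010a000050230089))) (.leaf (nat_lit 4115745377194011456012804))) (.node (.node (.leaf (nat_lit 468805698568011051467010)) (.leaf (nat_lit 11985679729866074451247238))) (.leaf (nat_lit 164228)))) (.node (.node (.node (.leaf (nat_lit 55340795411602342401)) (.leaf (nat_lit 10360300430522639379005836))) (.leaf (nat_lit 131204))) (.node (.node (.leaf (nat_lit 370708222467475263579013506)) (.leaf (nat_lit 2974021189225689385009153))) (.leaf (nat_lit 1071004771499820133224988808))))) (.node (.node (.node (.node (.leaf (nat_lit 68723671424)) (.leaf (nat_lit 1073756915321127335165624587))) (.leaf (nat_lit 4398046560391))) (.node (.node (.leaf (nat_lit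 1375555403511273049063939)) (.leaf (nat_lit 0x74da978fa03671368d27d21f8b0600d85021c005))) (.leaf (nat_lit 461169165343523930891)))) (.node (.node (.node (.leaf (nat_lit 33536)) (.leaf (nat_lit 682530093781898854792))) (.leaf (nat_lit 147716))) (.node (.leaf (nat_lit 4398046544005)) (.leaf (nat_lit 8978786873354862796604165)))))) (.node (.node (.node (.node (.node (.leaf (nat_lit 34363932928)) (.leaf (nat_lit 1222999910867848914882609420))) (.leaf (nat_lit 4715467473774382957003270))) (.node (.node (.leaf (nat_lit 49921)) (.leaf (nat_lit 5966249098677425178575623))) (.leaf (nat_lit 180996)))) (.node (.node (.node (.leaf (nat_lit 1064930608563625444524417)) (.leaf (nat_lit 139233229273112188916041122182))) (.leaf (nat_lit 528482542000381575651459336))) (.node (.node (.leaf (nat_lit 65666)) (.leaf (nat_lit 103975217087820196741632))) (.leaf (nat_lit 565075329915640030410490117))))) (.node (.node (.node (.node (.leaf (nat_lit 16896)) (.leaf (nat_lit 0x20bf3a3000000002811c71b8c0200d89021418b))) (.leaf (nat_lit 5616332810342953815982599))) (.node (.node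 (.leaf (nat_lit 1080352158099698826134018)) (.leaf (nat_lit 5539603578368941977796611))) (.leaf (nat_lit 0x5868601040071b54a1a0b0004d09022408b)))) (.node (.node (.node (.leaf (nat_lit 110681027941968642818)) (.leaf (nat_lit 5075806244000540364243466))) (.leaf (nat_lit 49990749060332311937289))) (.node (.leaf (nat_lit 98435)) (.leaf (nat_lit 4398046593164)))))))

noncomputable def g0P : NT := (.node (.node (.node (.node (.leaf (nat_lit 0)) (.leaf (nat_lit 260))) (.node (.leaf (nat_lit 258)) (.leaf (nat_lit 389)))) (.node (.node (.leaf (nat_lit 1536)) (.leaf (nat_lit 772))) (.leaf (nat_lit 259)))) (.node (.node (.node (.leaf (nat_lit 1024)) (.leaf (nat_lit 516))) (.leaf (nat_lit 386))) (.node (.node (.leaf (nat_lit 1537)) (.leaf (nat_lit 1540))) (.leaf (nat_lit 387)))))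

noncomputable def g0L : NT := (.leaf (nat_lit 0))

noncomputable def g0Fi : NT := (.leaf (nat_lit 0))

noncomputable def g0 : Cert := mkCert 7 127 g0F g0P g0L g0Fi 46 1

theorem g0_c0 : allR 0 46 (checkFact ((rels ++ [wA, wB, wG ++ []]) ++ trivRels 7) sD g0) = true := by decide +kernel

theorem g0_c : CfsgH9.allLt g0.nfacts (checkFact ((rels ++ [wA, wB, wG ++ []]) ++ trivRels 7) sD g0) = true := by
  have h0 := g0_c0
  exact allLt_of_allR_zero h0

theorem g0_t : checkTgt g0 [90] [8] = true := by decide +kernel

noncomputable def g2F : NT := (.node (.node (.node (.node (.node (.node (.node (.node (.leaf (nat_lit 268435968)) (.leaf (nat_lit 0x2cbf0a801010042e06008b80611))) (.node (.leaf (nat_lit 304649315766822088726285339)) (.leaf (nat_lit 0x9c567d5f1d403010000a0e008b40643)))) (.node (.node (.leaf (nat_lit 0x1888478030000018070082c0807)) (.leaf (nat_lit 0x94cae7c02008002419008a40439))) (.node (.leaf (nat_lit 0x5d9c08c0101004180c0085c0824)) (.leaf (nat_lit 0x13d94efacc0002004043e008e0023e))))) (.node (.node (.node (.leaf (nat_lit 0x38741c02008002600008100802))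 (.leaf (nat_lit 13634581))) (.node (.leaf (nat_lit 0x4f9947c0300000261f0082c0a1f)) (.leaf (nat_lit 0x132ac5427738a262b139ece53a8a0603000341a008e80046)))) (.node (.node (.leaf (nat_lit 5243911)) (.leaf (nat_lit 0xe07a9e57a4803010000a17008e0063d))) (.leaf (nat_lit 0xdd248949004000000428008340428))))) (.node (.node (.node (.node (.leaf (nat_lit 33849932173109419462101506)) (.leaf (nat_lit 12846610))) (.node (.leaf (nat_lit 0x8d1a86c680400000041c00824041c)) (.leaf (nat_lit 18614831)))) (.node (.node (.leaf (nat_lit 0x2f278b8240201004040200818040e)) (.leaf (nat_lit 15731741))) (.leaf (nat_lit 10226700)))) (.node (.node (.node (.leaf (nat_lit 18014398510006791)) (.leaf (nat_lit 730191204271137404646853174))) (.node (.leaf (nat_lit 8913931)) (.leaf (nat_lit 0xb56baee03000003a3f00898003f)))) (.node (.node (.leaf (nat_lit 6029832)) (.leaf (nat_lit 0x63dbd940200800220c009040426))) (.leaf (nat_lit 0x29155dc0200800080f00840042b)))))) (.node (.node (.node (.node (.node (.leaf (nat_lit 14507119058993877690091521)) (.leaf (nat_lit 633481851844657340265793071)))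 (.node (.leaf (nat_lit 0x43a04e4030000024090085c0c09)) (.leaf (nat_lit 18088494)))) (.node (.node (.leaf (nat_lit 18014398510793229)) (.leaf (nat_lit 0x4325e8c0200800081b00874043b))) (.node (.leaf (nat_lit 0x3ab188801010041a08008940818)) (.leaf (nat_lit 0x2471c6a03000003a050080c0005))))) (.node (.node (.node (.leaf (nat_lit 0x388c2c02008002800008140803)) (.leaf (nat_lit 0x39494f002008000808008d40419))) (.node (.leaf (nat_lit 8653834)) (.leaf (nat_lit 0x1a6c368e0604000004215008440015)))) (.node (.node (.leaf (nat_lit 5506567)) (.leaf (nat_lit 0x58d95680200800240b008f80423))) (.leaf (nat_lit 0x26b9d2c02008001c09008a4081d))))) (.node (.node (.node (.node (.leaf (nat_lit 53192745286978670629489667)) (.leaf (nat_lit 0x56c561c02008002621008c80830))) (.node (.leaf (nat_lit 362677755107866960994764317)) (.leaf (nat_lit 19137074)))) (.node (.node (.leaf (nat_lit 4459014)) (.leaf (nat_lit 0x4c50a8347a510484380c8564369362ac0e000043636008d8023c))) (.leaf (nat_lit 0x42b5d7c020080018170089c0224)))) (.node (.node (.node (.leaf (nat_lit 0x178d84001010041802008280806))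 (.leaf (nat_lit 0x3acd4f802008002208008dc041a))) (.node (.leaf (nat_lit 0x20ad4dc020080028070088c0816)) (.leaf (nat_lit 538148502342907673422617903673)))) (.node (.node (.leaf (nat_lit 6555144)) (.leaf (nat_lit 0x177b8dd28000020040439009080239))) (.leaf (nat_lit 0x3e5b3d0cc02010002a070088c0a2c))))))) (.node (.node (.node (.node (.node (.node (.leaf (nat_lit 70369012614656)) (.leaf (nat_lit 12323856))) (.node (.leaf (nat_lit 0x833b9c0e4000200404170086c0217)) (.leaf (nat_lit 0xfb36bff040300800042d008b80244)))) (.node (.node (.leaf (nat_lit 0x199085001010041803008300808)) (.leaf (nat_lit 18014398516298298))) (.node (.leaf (nat_lit 0x60a2c9403000002824008340c24)) (.leaf (nat_lit 0x96f0aa003000004c29008740029))))) (.node (.node (.node (.leaf (nat_lit 0x588c4402008002401008140405)) (.leaf (nat_lit 13895191))) (.node (.leaf (nat_lit 391691974779040342372518432)) (.leaf (nat_lit 0xc9e86f403000004447009080047)))) (.node (.node (.leaf (nat_lit 0x100420302f174c4601883800060280032000081c0a0f)) (.leaf (nat_lit 16256034))) (.leaf (nat_lit 0x6a371bee26c308922424311b202048003427008a00c25)))))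 (.node (.node (.node (.node (.leaf (nat_lit 0x78380801010042e00008080602)) (.leaf (nat_lit 13109778))) (.node (.leaf (nat_lit 0x432311e92422206a1a1a2290a0204800341b008700c18)) (.leaf (nat_lit 0xc8c3a1001010042e2f008c00647)))) (.node (.node (.leaf (nat_lit 4195846)) (.leaf (nat_lit 0x895fd412c02010043009008f00624))) (.leaf (nat_lit 0x5eb4588020080024240089c040d)))) (.node (.node (.node (.leaf (nat_lit 18014398510268937)) (.leaf (nat_lit 14420504))) (.node (.leaf (nat_lit 9178123)) (.leaf (nat_lit 533346648987398505566348248611)))) (.node (.node (.leaf (nat_lit 6292488)) (.leaf (nat_lit 0x9ddcdd00200800181d009040229))) (.leaf (nat_lit 11537423)))))) (.node (.node (.node (.node (.node (.leaf (nat_lit 0x38180801010041c00008040601)) (.leaf (nat_lit 0x3a55428b002010002a06008840a30))) (.node (.leaf (nat_lit 18014398511841820)) (.leaf (nat_lit 0x10b8ce2a0002010043011009180632)))) (.node (.node (.leaf (nat_lit 0x1a8a49003000001809008340809)) (.leaf (nat_lit 0x44020100860688c4720a8f4b8f1a0620b018003602008e80c33))) (.node (.leaf (nat_lit 488406040348210813788490278))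 (.leaf (nat_lit 566998308102191391237019273216))))) (.node (.node (.node (.leaf (nat_lit 101554491214217617169188357)) (.leaf (nat_lit 0xc360c95cc0300800300d008d40c29))) (.node (.leaf (nat_lit 0x1d96d500200800280a008480821)) (.leaf (nat_lit 0x906a61603000004e34008c00034)))) (.node (.node (.leaf (nat_lit 0xa82e0a0c0d400028000a15008540210)) (.leaf (nat_lit 18014398518657600))) (.leaf (nat_lit 0x283aca802008000806008a80410))))) (.node (.node (.node (.node (.leaf (nat_lit 1051137)) (.leaf (nat_lit 681834171486589277463645216))) (.node (.leaf (nat_lit 8127498)) (.leaf (nat_lit 19399219)))) (.node (.node (.leaf (nat_lit 18014398511317523)) (.leaf (nat_lit 0x4a625693402010002a09008900a3d))) (.leaf (nat_lit 18014398512890408)))) (.node (.node (.node (.leaf (nat_lit 18014398510531083)) (.leaf (nat_lit 18014398516036152))) (.node (.leaf (nat_lit 0x435d9084802010040405008300424)) (.leaf (nat_lit 0xcd6eea603000004649008d40049)))) (.node (.node (.leaf (nat_lit 6818312)) (.leaf (nat_lit 17564202))) (.leaf (nat_lit 12061200)))))))) (.node (.node (.node (.node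 (.node (.node (.node (.leaf (nat_lit 35184640525312)) (.leaf (nat_lit 0x7e960ac01010042e1000844062e))) (.node (.leaf (nat_lit 0x3a0c82c01010003033391c1000b00004341800860021b)) (.leaf (nat_lit 17826861)))) (.node (.node (.leaf (nat_lit 3146245)) (.leaf (nat_lit 0x7f6bcf8f002010043008008e40627))) (.node (.leaf (nat_lit 0x25a25800300000280d008900c0d)) (.leaf (nat_lit 0x168dbb28842421b336d16dfd8b800a01000323e008d4003c))))) (.node (.node (.node (.leaf (nat_lit 1313793)) (.leaf (nat_lit 0x6f5cc80d002010043007008d00623))) (.node (.leaf (nat_lit 8391178)) (.leaf (nat_lit 0xa6e831403000004c33008b80033)))) (.node (.node (.leaf (nat_lit 0x311794cc0030080004070083c0214)) (.leaf (nat_lit 0xaed56c002008002e3d008f00a38))) (.leaf (nat_lit 0xdb6fb85b804000000427008a00427))))) (.node (.node (.node (.node (.leaf (nat_lit 0x183c1c02008002200008080402)) (.leaf (nat_lit 0x56c460c02008001c21008c4082f))) (.node (.leaf (nat_lit 0x8347a45180400000041b00870041b)) (.leaf (nat_lit 0x89e3f200200800262f009180847)))) (.node (.node (.leaf (nat_lit 3933190)) (.leaf (nat_lit 0x74cb6a00200800281d008d4083c)))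 (.leaf (nat_lit 502913150183621548257053735)))) (.node (.node (.node (.leaf (nat_lit 2097667)) (.leaf (nat_lit 0x399f65c02008002217008680436))) (.node (.leaf (nat_lit 205923593141467365949680124962)) (.leaf (nat_lit 0xb6ebaf003000003840008e40040)))) (.node (.node (.leaf (nat_lit 0x33388c83402010040403008200417)) (.leaf (nat_lit 0x64dbe6802008002618009040837))) (.leaf (nat_lit 0x329a5dc02008002e0f008540a2b)))))) (.node (.node (.node (.node (.node (.leaf (nat_lit 0x181c0c02008001a00008040401)) (.leaf (nat_lit 12586001))) (.node (.leaf (nat_lit 0x399fd0c03000002417008240c17)) (.leaf (nat_lit 18353198)))) (.node (.node (.leaf (nat_lit 0x2489c680300000180d00824080d)) (.leaf (nat_lit 0x1459ccea900002004043b008e8023b))) (.node (.leaf (nat_lit 9964044)) (.leaf (nat_lit 0x11f242c03000004c01008000001))))) (.node (.node (.node (.leaf (nat_lit 0x23138881802010043001008140603)) (.leaf (nat_lit 0x8b26b9e4803008003017008a40c35))) (.node (.leaf (nat_lit 406199084614451076841081889)) (.leaf (nat_lit 520914055858481661263973713474)))) (.node (.node (.leaf (nat_lit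 251456579703320939482318357)) (.leaf (nat_lit 16515619))) (.leaf (nat_lit 11011598))))) (.node (.node (.node (.node (.leaf (nat_lit 0x185c2c020080024000080c0403)) (.leaf (nat_lit 0xac542922803008002a12008800c32))) (.node (.leaf (nat_lit 7866889)) (.leaf (nat_lit 0xcbe623001010041830009240848)))) (.node (.node (.leaf (nat_lit 4721670)) (.leaf (nat_lit 15993886))) (.leaf (nat_lit 0x41b25ac0200800181b008940227)))) (.node (.node (.node (.leaf (nat_lit 0x1b8b83c0101004180400818080a)) (.leaf (nat_lit 0x4dd1e8d1a8580000000000a010c0d1300e000043637008dc021d))) (.node (.leaf (nat_lit 9437708)) (.leaf (nat_lit 0x362ad96da6e28402020000a27008f00048)))) (.node (.node (.leaf (nat_lit 290142205930989141792654873)) (.leaf (nat_lit 0xbbb3e8803000001842008e80842))) (.leaf (nat_lit 18014398513676845))))))) (.node (.node (.node (.node (.node (.node (.leaf (nat_lit 264192)) (.leaf (nat_lit 0x5b57c10a802010043006008bc0621))) (.node (.leaf (nat_lit 0x35199d504040000004090086c0409)) (.leaf (nat_lit 0xbf60b0001010040843009100633)))) (.node (.node (.leaf (nat_lit 0x218c84c0101004180500820080c))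 (.leaf (nat_lit 15468059))) (.node (.leaf (nat_lit 9700364)) (.leaf (nat_lit 0x73f152c0300000400d00824000d))))) (.node (.node (.node (.leaf (nat_lit 0x485c44020080028010080c0805)) (.leaf (nat_lit 706012687878422608687662645))) (.node (.leaf (nat_lit 0x4ea85440200800220a0082c0420)) (.leaf (nat_lit 0xc2e8a3c03000003844008540044)))) (.node (.node (.leaf (nat_lit 241785173146826668307646983)) (.leaf (nat_lit 0x59c76c802008002422008c8043e))) (.leaf (nat_lit 10749453))))) (.node (.node (.node (.node (.leaf (nat_lit 789504)) (.leaf (nat_lit 0x7bbe628020080022120088c0432))) (.node (.leaf (nat_lit 7603721)) (.leaf (nat_lit 18874928)))) (.node (.node (.leaf (nat_lit 203099546918735703774332432)) (.leaf (nat_lit 822074279704540384873940540))) (.leaf (nat_lit 0x22b44fc020080028080089c081b)))) (.node (.node (.node (.leaf (nat_lit 2621956)) (.leaf (nat_lit 744698314106513023463066167))) (.node (.leaf (nat_lit 435213304285202245753768995)) (.leaf (nat_lit 535665368709437273374983717411)))) (.node (.node (.leaf (nat_lit 141405640000273835947800134680)) (.leaf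 (nat_lit 18014398519444034))) (.leaf (nat_lit 0x29bd4b402008002406008b00412)))))) (.node (.node (.node (.node (.node (.leaf (nat_lit 526848)) (.leaf (nat_lit 647984248537344338760305185))) (.node (.leaf (nat_lit 0x2310484380c86801028000009008700218)) (.leaf (nat_lit 0x8ae362002008002e12009180a31)))) (.node (.node (.leaf (nat_lit 3670534)) (.leaf (nat_lit 802726753448052263654001722))) (.leaf (nat_lit 0x239f5940200800260c008680826)))) (.node (.node (.node (.leaf (nat_lit 1573378)) (.leaf (nat_lit 14158359))) (.node (.leaf (nat_lit 0x1caa4b402008002806008840812)) (.leaf (nat_lit 0xd5eb244030000040420088c0042)))) (.node (.node (.leaf (nat_lit 5770247)) (.leaf (nat_lit 17041957))) (.leaf (nat_lit 11273743))))) (.node (.node (.node (.node (.leaf (nat_lit 0x483c3802008002601008080804)) (.leaf (nat_lit 13369877))) (.node (.leaf (nat_lit 0x4e9487401010041a0a0083c081f)) (.leaf (nat_lit 0x11fcee21fc0201004041500914044a)))) (.node (.node (.leaf (nat_lit 0x5d1884c60040000004130081c0413)) (.leaf (nat_lit 0x575b2db6fb91b4d85d1085a33402124c0e00004363d008f40235)))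 (.leaf (nat_lit 0x371b4d85d108900102800000d008a00225)))) (.node (.node (.node (.leaf (nat_lit 0x1e87c600300000180b0081c080b)) (.leaf (nat_lit 14945305))) (.node (.leaf (nat_lit 0x38ae88801010041808008900817)) (.leaf (nat_lit 550631870356266383588642259506)))) (.node (.node (.leaf (nat_lit 7080968)) (.leaf (nat_lit 0x6d8fdf1d8020100404100090c0433))) (.leaf (nat_lit 0x78bf5e40200800222b008b80415)))))))))

noncomputable def g2P : NT := (.node (.node (.node (.node (.node (.node (.node (.leaf (nat_lit 0)) (.leaf (nat_lit 1571))) (.leaf (nat_lit 5130))) (.node (.leaf (nat_lit 3078)) (.leaf (nat_lit 6161)))) (.node (.node (.node (.leaf (nat_lit 1027)) (.leaf (nat_lit 1072))) (.leaf (nat_lit 1549))) (.node (.leaf (nat_lit 2056)) (.leaf (nat_lit 1561))))) (.node (.node (.node (.node (.leaf (nat_lit 5121)) (.leaf (nat_lit 2093))) (.leaf (nat_lit 1036))) (.node (.leaf (nat_lit 2055)) (.leaf (nat_lit 6165)))) (.node (.node (.leaf (nat_lit 1029)) (.leaf (nat_lit 6159))) (.node (.leaf (nat_lit 1545)) (.leaf (nat_lit 6173)))))) (.node (.node (.node (.node (.node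 (.leaf (nat_lit 5120)) (.leaf (nat_lit 1574))) (.leaf (nat_lit 2059))) (.node (.leaf (nat_lit 6150)) (.leaf (nat_lit 5138)))) (.node (.node (.node (.leaf (nat_lit 1028)) (.leaf (nat_lit 1075))) (.leaf (nat_lit 3086))) (.node (.leaf (nat_lit 5128)) (.leaf (nat_lit 1562))))) (.node (.node (.node (.node (.leaf (nat_lit 1026)) (.leaf (nat_lit 6190))) (.leaf (nat_lit 5132))) (.node (.leaf (nat_lit 6151)) (.leaf (nat_lit 5143)))) (.node (.node (.leaf (nat_lit 1030)) (.leaf (nat_lit 5136))) (.node (.leaf (nat_lit 5129)) (.leaf (nat_lit 6178))))))) (.node (.node (.node (.node (.node (.node (.leaf (nat_lit 4096)) (.leaf (nat_lit 5157))) (.leaf (nat_lit 6154))) (.node (.leaf (nat_lit 5126)) (.leaf (nat_lit 3090)))) (.node (.node (.node (.leaf (nat_lit 1539)) (.leaf (nat_lit 1074))) (.leaf (nat_lit 3085))) (.node (.leaf (nat_lit 3080)) (.leaf (nat_lit 6169))))) (.node (.node (.node (.node (.leaf (nat_lit 6145)) (.leaf (nat_lit 1070))) (.leaf (nat_lit 2060))) (.node (.leaf (nat_lit 3079)) (.leaf (nat_lit 3095)))) (.node (.node (.leaf (nat_lit 1541)) (.leaf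 (nat_lit 1552))) (.node (.leaf (nat_lit 3081)) (.leaf (nat_lit 6174)))))) (.node (.node (.node (.node (.node (.leaf (nat_lit 6144)) (.leaf (nat_lit 1066))) (.leaf (nat_lit 6155))) (.node (.leaf (nat_lit 1543)) (.leaf (nat_lit 1045)))) (.node (.node (.leaf (nat_lit 1540)) (.leaf (nat_lit 3087))) (.node (.leaf (nat_lit 6152)) (.leaf (nat_lit 3099))))) (.node (.node (.node (.node (.leaf (nat_lit 1538)) (.leaf (nat_lit 5167))) (.leaf (nat_lit 6156))) (.node (.leaf (nat_lit 1032)) (.leaf (nat_lit 5144)))) (.node (.node (.leaf (nat_lit 2054)) (.leaf (nat_lit 6160))) (.node (.leaf (nat_lit 2058)) (.leaf (nat_lit 1059))))))))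

noncomputable def g2L : NT := (.leaf (nat_lit 0))

noncomputable def g2Fi : NT := (.leaf (nat_lit 0))

noncomputable def g2 : Cert := mkCert 9 511 g2F g2P g2L g2Fi 231 1

theorem g2_c0 : allR 0 231 (checkFact ((rels ++ [wA, wB, wG ++ [11]]) ++ trivRels 7) sD g2) = true := by decide +kernel

theorem g2_c : CfsgH9.allLt g2.nfacts (checkFact ((rels ++ [wA, wB, wG ++ [11]]) ++ trivRels 7) sD g2) = true := by
  have h0 := g2_c0
  exact allLt_of_allR_zero h0

theorem g2_t : checkTgt g2 [460] [8] = true := by decide +kernel

noncomputable def g3F : NT := (.node (.node (.node (.node (.node (.node (.node (.node (.node (.leaf (nat_lit 2147484672)) (.leaf (nat_lit 0x1ff79de87b000010010083f0045e0043f))) (.leaf (nat_lit 0xf93f4ff3e80400000008290042a00829))) (.node (.leaf (nat_lit 0x7f1c40200000070130040700413)) (.leaf (nat_lit 0x2657d278020040004409004430081e)))) (.node (.node (.node (.leaf (nat_lit 1152921504609993738)) (.leaf (nat_lit 0x1e57d6388f000010000485a0045a00059))) (.leaf (nat_lit 0x3153f4c00200400038230043701033))) (.node (.leaf (nat_lit 36706316))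 (.leaf (nat_lit 81789998))))) (.node (.node (.node (.node (.leaf (nat_lit 0x2411078020040004c010040201004)) (.leaf (nat_lit 0x21c8640200000080240043400c24))) (.leaf (nat_lit 0x1951d1b00200400048060043000814))) (.node (.leaf (nat_lit 32512009)) (.leaf (nat_lit 0x2c99d2d802004000100a0044800821)))) (.node (.node (.leaf (nat_lit 16778246)) (.leaf (nat_lit 433279014930492759919017596991))) (.node (.leaf (nat_lit 40897550)) (.leaf (nat_lit 0x13b77dc24800200801008140044f00857)))))) (.node (.node (.node (.node (.node (.leaf (nat_lit 2102272)) (.leaf (nat_lit 0x63e0e7380300000098390043200039))) (.leaf (nat_lit 0x1890f1980200400010060042d00812))) (.node (.leaf (nat_lit 26215432)) (.leaf (nat_lit 492700136816191047199068526661)))) (.node (.node (.node (.leaf (nat_lit 0x13c210d003000000300d004070100d)) (.leaf (nat_lit 0x1973cca52c4af2b0940f8402b99d6ae447a24e8d40c0100006c460043e0004a))) (.leaf (nat_lit 61868057))) (.node (.leaf (nat_lit 0x5533c540a00200801008050040e00825)) (.leaf (nat_lit 0x135525ce4a80200801060130045300c38))))) (.node (.node (.node (.node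 (.leaf (nat_lit 56946450732950490472889977861)) (.leaf (nat_lit 0x80e2e4300300000090360042c00036))) (.leaf (nat_lit 0x6d31d2e1980200801060060043300c23))) (.node (.leaf (nat_lit 0xae290a62503e10001014000000a004200041c)) (.leaf (nat_lit 0x2fdad568020040004c1a0044a0103e)))) (.node (.node (.leaf (nat_lit 1152921504614188053)) (.leaf (nat_lit 0x25c9f5b002004000441b0041e00841))) (.node (.leaf (nat_lit 0x344ed360020040004825004290080f)) (.leaf (nat_lit 611542380587572912492544789594))))))) (.node (.node (.node (.node (.node (.node (.leaf (nat_lit 7427641416311783667227693057)) (.leaf (nat_lit 0x81d477700300000030600045601060))) (.leaf (nat_lit 0x38d073900200400030270042b0041d))) (.node (.leaf (nat_lit 24120327)) (.leaf (nat_lit 0xa13d5842700200801060090044400c29)))) (.node (.node (.node (.leaf (nat_lit 12583940)) (.leaf (nat_lit 0xbe582466b00200800054220043f01459))) (.leaf (nat_lit 0x315434e0020040004c230043801034))) (.node (.leaf (nat_lit 37754893)) (.leaf (nat_lit 0x125235297180300400008310043200451))))) (.node (.node (.node (.node (.leaf (nat_lit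 0x34250900200400048010040500805)) (.leaf (nat_lit 0x22677402000000704a004340044a))) (.leaf (nat_lit 0x4652746802004000442f0043200817))) (.node (.leaf (nat_lit 0x410fc9929004000000080a0041f0080a)) (.leaf (nat_lit 0x694da3a00000c01044280044900828)))) (.node (.node (.leaf (nat_lit 126269885187703793054992305170)) (.leaf (nat_lit 0xad17d0558803004000601b0042b01840))) (.node (.leaf (nat_lit 284726210216245987837063730216)) (.leaf (nat_lit 0x1c17953a4500100c010082e004590044e)))))) (.node (.node (.node (.node (.node (.leaf (nat_lit 3151872)) (.leaf (nat_lit 0x21276402000000804c0043400c4c))) (.leaf (nat_lit 0x19067458020040001011004120082f))) (.node (.leaf (nat_lit 29362185)) (.leaf (nat_lit 74451999)))) (.node (.node (.node (.leaf (nat_lit 0x1543e0a8010080103005004090100e)) (.leaf (nat_lit 0x96570600300000098010040000001))) (.leaf (nat_lit 0x932455155803004000081a0043b0043d))) (.node (.leaf (nat_lit 0x354ad1700300000050250040f01825)) (.leaf (nat_lit 0x755384c8010080105c330043400c54))))) (.node (.node (.node (.node (.leaf (nat_lit 0x54370d80200400048020040800808))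 (.leaf (nat_lit 0x2298b57b8d804000000084a0045c0084a))) (.leaf (nat_lit 383761413359076451610475369507))) (.node (.leaf (nat_lit 225305088330534219444972948513)) (.leaf (nat_lit 0x6d4eb62803000000304c004450104c)))) (.node (.node (.leaf (nat_lit 0x350cc651d00300400008070041100416)) (.leaf (nat_lit 462989575873327252016832973890))) (.node (.leaf (nat_lit 0x294dd3d002004000301f0042600429)) (.leaf (nat_lit 1152921504663471197)))))))) (.node (.node (.node (.node (.node (.node (.node (.leaf (nat_lit 2251801961171968)) (.leaf (nat_lit 636301181373294029888922063967))) (.leaf (nat_lit 45091855))) (.node (.leaf (nat_lit 0x7f1d8020000107c130041300816)) (.leaf (nat_lit 71309341)))) (.node (.node (.node (.leaf (nat_lit 0xb43d108020040004c03004080100b)) (.leaf (nat_lit 0x2418f40200000098590044a01859))) (.leaf (nat_lit 0x485235080200400044140042400838))) (.node (.leaf (nat_lit 0x1346d30002004000500c0041401023)) (.leaf (nat_lit 1152921504657179728))))) (.node (.node (.node (.node (.leaf (nat_lit 5249025)) (.leaf (nat_lit 0x6ae07516226780101000008480043e00060)))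 (.leaf (nat_lit 1152921504625722417))) (.node (.leaf (nat_lit 0x2603e06001008000683f258942880b000010681c0041c0041f)) (.leaf (nat_lit 0x37cb12bc410600000000000050041a100b868c0003c0106c490042601449)))) (.node (.node (.leaf (nat_lit 17827846)) (.leaf (nat_lit 438230775087619645419337813056))) (.node (.leaf (nat_lit 0x1649d38002004000380e0041d01027)) (.leaf (nat_lit 1152921504662423641)))))) (.node (.node (.node (.node (.node (.leaf (nat_lit 0xc110400200400044000040200802)) (.leaf (nat_lit 0x726105280300000070510041700051))) (.leaf (nat_lit 0x18c6d448020040004810004140082e))) (.node (.leaf (nat_lit 28312585)) (.leaf (nat_lit 0x5c5935c8020040004841004460082c)))) (.node (.node (.node (.leaf (nat_lit 14681093)) (.leaf (nat_lit 0x2ea5324c03000000740b004080000b))) (.leaf (nat_lit 0x15324c3924804000000083c0041a0083c))) (.node (.leaf (nat_lit 0x33c9416001008010300e0041b01025)) (.leaf (nat_lit 88085555))))) (.node (.node (.node (.node (.leaf (nat_lit 1152921504608945159)) (.leaf (nat_lit 0x232800020000107446004460043f))) (.leaf (nat_lit 54532115))) (.node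 (.leaf (nat_lit 0xa52c4b32b804000000081f004200081f)) (.leaf (nat_lit 1152921504648791116)))) (.node (.node (.leaf (nat_lit 23070727)) (.leaf (nat_lit 0x5bcd33dcf93f5023e0f6338540c43f288a65900f0000106c410044100440))) (.node (.leaf (nat_lit 0x15ced280020040005009004290101f)) (.leaf (nat_lit 96475189))))))) (.node (.node (.node (.node (.node (.node (.leaf (nat_lit 0xc070180200400034000040100801)) (.leaf (nat_lit 0x14b82dcc4a00200801008170045200861))) (.leaf (nat_lit 329292051630519678832944878636))) (.node (.leaf (nat_lit 0x19832058342280001400014170041700412)) (.leaf (nat_lit 0x18b605826180001001008440044500444)))) (.node (.node (.node (.leaf (nat_lit 0x12432080010080103004004060100c)) (.leaf (nat_lit 0x24b7c802000010944e0044e01435))) (.leaf (nat_lit 60823575))) (.node (.leaf (nat_lit 0x14cc92380200400050070042401018)) (.leaf (nat_lit 85984306))))) (.node (.node (.node (.node (.leaf (nat_lit 0x1c250600200400050000040501003)) (.leaf (nat_lit 0x22a7680200001074400044000434))) (.leaf (nat_lit 0x49c6a1a0010080105c120041300c32))) (.node (.leaf (nat_lit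 0x25ca12a003000000481b0040a0181b)) (.leaf (nat_lit 77599778)))) (.node (.node (.leaf (nat_lit 20977670)) (.leaf (nat_lit 68162587))) (.node (.leaf (nat_lit 42997774)) (.leaf (nat_lit 0x55deb57802004000481a0044e0083f)))))) (.node (.node (.node (.node (.node (.leaf (nat_lit 0xc190600200400048000040300803)) (.leaf (nat_lit 0x8661a53803000000804c004240004c))) (.leaf (nat_lit 50337809))) (.node (.leaf (nat_lit 30411785)) (.leaf (nat_lit 75500576)))) (.node (.node (.leaf (nat_lit 0x16c2b10003000000300f0040a0100f)) (.leaf (nat_lit 428327254773350112919514256446))) (.node (.leaf (nat_lit 0x264da158010080103409004260101c)) (.leaf (nat_lit 1152921504661374038))))) (.node (.node (.node (.node (.leaf (nat_lit 71800523459160573957338305541)) (.leaf (nat_lit 0x1af8edf47c000010010605a0044a0185a))) (.leaf (nat_lit 1152921504627819574))) (.node (.leaf (nat_lit 0x2ec452480300000030220041a01022)) (.leaf (nat_lit 0x8d52dba4400200801008120044d00839)))) (.node (.node (.leaf (nat_lit 151028685973424921446496343047)) (.leaf (nat_lit 70259740))) (.node (.leaf (nat_lit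 0xfa3e0f63385416801014000000f0042a00426)) (.leaf (nat_lit 98568246))))))))) (.node (.node (.node (.node (.node (.node (.node (.node (.leaf (nat_lit 1125902054328320)) (.leaf (nat_lit 99619894))) (.leaf (nat_lit 0x3c0fa3f5003d8d616c28168d83dc0202400068290042a01826))) (.node (.leaf (nat_lit 0x7f1cc0200000078130040700813)) (.leaf (nat_lit 0x1095fd745980100c010081d004430042b)))) (.node (.node (.node (.leaf (nat_lit 11539459)) (.leaf (nat_lit 0x2417c40200000080590043500c59))) (.leaf (nat_lit 58725396))) (.node (.leaf (nat_lit 237684488723402661091778500643)) (.leaf (nat_lit 82838576))))) (.node (.node (.node (.node (.leaf (nat_lit 0x1c1f040020040004c000040401002)) (.leaf (nat_lit 0x21e6cc0200000070470042400447))) (.leaf (nat_lit 0x503291c1f00200800054070042401430))) (.node (.leaf (nat_lit 198070407466270488996468496415)) (.leaf (nat_lit 76547105)))) (.node (.node (.leaf (nat_lit 0x33184320500200801008020040600810)) (.leaf (nat_lit 67111963))) (.node (.leaf (nat_lit 0x1502e100b838004004000140e0042100427)) (.leaf (nat_lit 92276789)))))) (.node (.node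 (.node (.node (.node (.leaf (nat_lit 19807041809174593615473677314)) (.leaf (nat_lit 0x75e0f6e00300000088540044c00054))) (.leaf (nat_lit 48240656))) (.node (.leaf (nat_lit 1152921504615236634)) (.leaf (nat_lit 73406494)))) (.node (.node (.node (.leaf (nat_lit 0xd4231380300000030070040d01007)) (.leaf (nat_lit 0x6b6515680300000090220041a00022))) (.leaf (nat_lit 1152921504634111036))) (.node (.leaf (nat_lit 0x254ce158010080103009004250101b)) (.leaf (nat_lit 0x50dd14f8020040005c140045301437))))) (.node (.node (.node (.node (.leaf (nat_lit 6292482)) (.leaf (nat_lit 0x7f231654030000007c5e004460005e))) (.leaf (nat_lit 376334980868578651974432459827))) (.node (.leaf (nat_lit 0xaf1041d1000400000008200040a00820)) (.leaf (nat_lit 1152921504644596811)))) (.node (.node (.leaf (nat_lit 0x710d4150d00400000008150040700815)) (.leaf (nat_lit 0xd43590c5b003004000541b0042c01841))) (.node (.leaf (nat_lit 0x164a13b002004000500e0041f01029)) (.leaf (nat_lit 95425589))))))) (.node (.node (.node (.node (.node (.node (.leaf (nat_lit 0x4070180200400030000040100401)) (.leaf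 (nat_lit 101712953))) (.leaf (nat_lit 46142479))) (.node (.leaf (nat_lit 168359846523406723501075205143)) (.leaf (nat_lit 1152921504638305349)))) (.node (.node (.node (.leaf (nat_lit 0xcc480880100801030020040c01006)) (.leaf (nat_lit 0x1e57cdec9200200800044590045b0004e))) (.leaf (nat_lit 59769879))) (.node (.leaf (nat_lit 247588009037685704390484170788)) (.leaf (nat_lit 0x6f1c66f801008010104d0045100c39))))) (.node (.node (.node (.node (.leaf (nat_lit 0x24190900200400050010040301005)) (.leaf (nat_lit 0xa6591da8822266002010000141f0044000055))) (.leaf (nat_lit 0x1ad26198010080105c060043200c13))) (.node (.leaf (nat_lit 0x2a4a325803000000480a0041b0180a)) (.leaf (nat_lit 0x3c05b0e89255153571a068da63e00701000064290043e00448)))) (.node (.node (.leaf (nat_lit 19928070)) (.leaf (nat_lit 0xd73556341003004000600f004400182b))) (.node (.leaf (nat_lit 0x1649f398020040004c0e0041e01028)) (.leaf (nat_lit 0x791e856550240360cc621806e4ec0202400068350044e0183d)))))) (.node (.node (.node (.node (.node (.leaf (nat_lit 29710562123458761714573514755)) (.leaf (nat_lit 0x532174d4030000009c3a004340003a)))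 (.leaf (nat_lit 0x1ec89458020040005c11004170142f))) (.node (.leaf (nat_lit 0x962600100400004090041b0081c)) (.leaf (nat_lit 0x2a0b766002004000101f0042100847)))) (.node (.node (.node (.leaf (nat_lit 1152921504612090895)) (.leaf (nat_lit 0x2580240200000088000040001000))) (.leaf (nat_lit 65016858))) (.node (.leaf (nat_lit 39847950)) (.leaf (nat_lit 89130036))))) (.node (.node (.node (.node (.leaf (nat_lit 0x8098360400200800054000040501408)) (.leaf (nat_lit 0x6a99c2c1788d805000000143e0045c00c3e))) (.leaf (nat_lit 55575572))) (.node (.leaf (nat_lit 1152921504618382370)) (.leaf (nat_lit 80741421)))) (.node (.node (.leaf (nat_lit 0x801048341c8711e0740d4100000601400064000040701411)) (.leaf (nat_lit 0x2697758802004000101b0044200840))) (.node (.leaf (nat_lit 1152921504622576682)) (.leaf (nat_lit 0x1f94f52171004000000085d004500085d)))))))) (.node (.node (.node (.node (.node (.node (.node (.leaf (nat_lit 1052672)) (.leaf (nat_lit 1152921504665568352))) (.leaf (nat_lit 0x17d052d802004000380a0042b01021))) (.node (.leaf (nat_lit 0x7920c802100100c01008160041300411))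 (.leaf (nat_lit 0x59d6961002004000481d0042b00844)))) (.node (.node (.node (.leaf (nat_lit 0xac430f0020040004c050040b01008)) (.leaf (nat_lit 0x2418f8020000109c59004590184a))) (.leaf (nat_lit 0x31d39508020040004c140043401038))) (.node (.leaf (nat_lit 0x12cc11b00200400050060042301014)) (.leaf (nat_lit 84936753))))) (.node (.node (.node (.node (.leaf (nat_lit 44565842594883326112875681797)) (.leaf (nat_lit 0x822256c4030000008c560044a00056))) (.leaf (nat_lit 52433938))) (.node (.leaf (nat_lit 0xa526c9425800010010081b0041f0041b)) (.leaf (nat_lit 519934817680468304939145237542)))) (.node (.node (.leaf (nat_lit 18877446)) (.leaf (nat_lit 0x25963270020040001009004400081d))) (.node (.leaf (nat_lit 41948174)) (.leaf (nat_lit 0x1e47880100400004350045900858)))))) (.node (.node (.node (.node (.node (.leaf (nat_lit 0x4410010010080105c000040200c02)) (.leaf (nat_lit 0x21472a114b40400000084170041300017))) (.leaf (nat_lit 49286161))) (.node (.leaf (nat_lit 0x3f2543e070020080100803004090081b)) (.leaf (nat_lit 0x583b9922780200800054090042901446)))) (.node (.node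 (.node (.leaf (nat_lit 0xfc540b00100801030030040e01009)) (.leaf (nat_lit 0xf6541080300000090050040300005))) (.leaf (nat_lit 63965210))) (.node (.leaf (nat_lit 0x174ab35003000000500f004250180f)) (.leaf (nat_lit 0x505d3750020040004c330045301054))))) (.node (.node (.node (.node (.leaf (nat_lit 8394754)) (.leaf (nat_lit 0x5ea2c4d08120886479c3781de7d80b0000106842004420045c))) (.leaf (nat_lit 0x4c309341a80200800054060042301434))) (.node (.leaf (nat_lit 34606090)) (.leaf (nat_lit 0x1b56a5a26680001001008470044c00447)))) (.node (.node (.leaf (nat_lit 0x721d00100400004070041500816)) (.leaf (nat_lit 69209116))) (.node (.leaf (nat_lit 0x29cf534802004000301b0042900425)) (.leaf (nat_lit 618970020823299830840728492124))))))) (.node (.node (.node (.node (.node (.node (.leaf (nat_lit 0x1c060100100801038000040100c01)) (.leaf (nat_lit 0x1705d16a60d80629ce7360c8299062c06018000681e0044500053))) (.leaf (nat_lit 47189008))) (.node (.leaf (nat_lit 25171975)) (.leaf (nat_lit 0x4c0702c0b02c26168fa3f0f86258d528880d40c00c0006c020044501839)))) (.node (.node (.node (.leaf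 (nat_lit 1152921504611042317)) (.leaf (nat_lit 0x9264c908010080105c590044e00c3f))) (.leaf (nat_lit 0x8f3354c2200200801060070043a00c24))) (.node (.leaf (nat_lit 38798350)) (.leaf (nat_lit 87038002))))) (.node (.node (.node (.node (.leaf (nat_lit 0x250ac240380200801060010040500c03)) (.leaf (nat_lit 0x19a88d22711fa7e6043e9003e5a46880701400064210045f0000f))) (.leaf (nat_lit 53483538))) (.node (.leaf (nat_lit 1152921504617333792)) (.leaf (nat_lit 0x2f55b6b0020040004c220043e0104a)))) (.node (.node (.leaf (nat_lit 133697525423430711403176007700)) (.leaf (nat_lit 450610175480486958967211168833))) (.node (.leaf (nat_lit 292153850451959395386365319209)) (.leaf (nat_lit 94374965)))))) (.node (.node (.node (.node (.node (.leaf (nat_lit 4199425)) (.leaf (nat_lit 0x6ce1c6d803000000704b004470004b))) (.leaf (nat_lit 351574972337657651880061311024))) (.node (.leaf (nat_lit 31462409)) (.leaf (nat_lit 0x2d1996700200400010200044700848)))) (.node (.node (.leaf (nat_lit 0x1042d16803000000300a0040f0100a)) (.leaf (nat_lit 66066458))) (.node (.leaf (nat_lit 0x36c9816001008010340e0041c01026))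 (.leaf (nat_lit 91227189))))) (.node (.node (.node (.node (.leaf (nat_lit 9438211)) (.leaf (nat_lit 708101703651847251315434461258))) (.leaf (nat_lit 57674772))) (.node (.leaf (nat_lit 0x24c472e803000000301a004220101a)) (.leaf (nat_lit 0x18068491ba4380300800014100043100c4d)))) (.node (.node (.leaf (nat_lit 0x651ec721a80300400044060041500013)) (.leaf (nat_lit 0x26d6d5f002004000441c0044100843))) (.node (.leaf (nat_lit 0xfb16c2916804000000082a0040f0082a)) (.leaf (nat_lit 0x13d4ede37f0030040000836004580045e))))))))))

noncomputable def g3P : NT := (.node (.node (.node (.node (.node (.node (.node (.leaf (nat_lit 0)) (.leaf (nat_lit 6171))) (.node (.leaf (nat_lit 3082)) (.leaf (nat_lit 3128)))) (.node (.node (.leaf (nat_lit 2054)) (.leaf (nat_lit 3120))) (.leaf (nat_lit 12305)))) (.node (.node (.node (.leaf (nat_lit 12290)) (.leaf (nat_lit 6176))) (.leaf (nat_lit 10254))) (.node (.node (.leaf (nat_lit 12295)) (.leaf (nat_lit 4149))) (.leaf (nat_lit 10260))))) (.node (.node (.node (.node (.leaf (nat_lit 10241)) (.leaf (nat_lit 12317))) (.leaf (nat_lit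 12301))) (.node (.node (.leaf (nat_lit 12294)) (.leaf (nat_lit 10291))) (.leaf (nat_lit 12307)))) (.node (.node (.node (.leaf (nat_lit 2052)) (.leaf (nat_lit 3112))) (.leaf (nat_lit 10255))) (.node (.node (.leaf (nat_lit 4105)) (.leaf (nat_lit 12341))) (.leaf (nat_lit 3098)))))) (.node (.node (.node (.node (.node (.leaf (nat_lit 10240)) (.leaf (nat_lit 6172))) (.leaf (nat_lit 3083))) (.node (.node (.leaf (nat_lit 6150)) (.leaf (nat_lit 2098))) (.leaf (nat_lit 10258)))) (.node (.node (.node (.leaf (nat_lit 3075)) (.leaf (nat_lit 10274))) (.leaf (nat_lit 3087))) (.node (.node (.leaf (nat_lit 3080)) (.leaf (nat_lit 6197))) (.leaf (nat_lit 12311))))) (.node (.node (.node (.node (.leaf (nat_lit 2050)) (.leaf (nat_lit 12318))) (.leaf (nat_lit 4110))) (.node (.node (.leaf (nat_lit 4103)) (.leaf (nat_lit 3124))) (.leaf (nat_lit 3092)))) (.node (.node (.node (.leaf (nat_lit 2053)) (.leaf (nat_lit 2094))) (.leaf (nat_lit 12304))) (.node (.node (.leaf (nat_lit 10249)) (.leaf (nat_lit 4150))) (.leaf (nat_lit 10266))))))) (.node (.node (.node (.node (.node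 (.node (.leaf (nat_lit 8192)) (.leaf (nat_lit 10267))) (.node (.leaf (nat_lit 6154)) (.leaf (nat_lit 2105)))) (.node (.node (.leaf (nat_lit 4102)) (.leaf (nat_lit 4145))) (.leaf (nat_lit 3090)))) (.node (.node (.node (.leaf (nat_lit 2051)) (.leaf (nat_lit 2081))) (.leaf (nat_lit 12302))) (.node (.node (.leaf (nat_lit 2056)) (.leaf (nat_lit 5173))) (.leaf (nat_lit 2071))))) (.node (.node (.node (.node (.leaf (nat_lit 12289)) (.leaf (nat_lit 3102))) (.leaf (nat_lit 2062))) (.node (.node (.leaf (nat_lit 3079)) (.leaf (nat_lit 2100))) (.leaf (nat_lit 2068)))) (.node (.node (.node (.leaf (nat_lit 3076)) (.leaf (nat_lit 2093))) (.leaf (nat_lit 6160))) (.node (.node (.leaf (nat_lit 6153)) (.leaf (nat_lit 3126))) (.leaf (nat_lit 4122)))))) (.node (.node (.node (.node (.node (.leaf (nat_lit 12288)) (.leaf (nat_lit 10268))) (.leaf (nat_lit 12300))) (.node (.node (.leaf (nat_lit 10246)) (.leaf (nat_lit 12338))) (.leaf (nat_lit 12306)))) (.node (.node (.node (.leaf (nat_lit 10243)) (.leaf (nat_lit 3108))) (.leaf (nat_lit 6159))) (.node (.node (.leaf (nat_lit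 2057)) (.leaf (nat_lit 10293))) (.leaf (nat_lit 4121))))) (.node (.node (.node (.node (.leaf (nat_lit 3074)) (.leaf (nat_lit 6175))) (.leaf (nat_lit 6158))) (.node (.node (.leaf (nat_lit 6151)) (.leaf (nat_lit 2101))) (.leaf (nat_lit 6164)))) (.node (.node (.node (.leaf (nat_lit 3077)) (.leaf (nat_lit 2096))) (.leaf (nat_lit 6161))) (.node (.node (.leaf (nat_lit 12297)) (.leaf (nat_lit 10294))) (.leaf (nat_lit 12314))))))))

noncomputable def g3L : NT := (.leaf (nat_lit 0))

noncomputable def g3Fi : NT := (.leaf (nat_lit 0))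

noncomputable def g3 : Cert := mkCert 10 1023 g3F g3P g3L g3Fi 302 1

theorem g3_c0 : allR 0 302 (checkFact ((rels ++ [wA, wB, wG ++ [9, 11]]) ++ trivRels 7) sD g3) = true := by decide +kernel

theorem g3_c : CfsgH9.allLt g3.nfacts (checkFact ((rels ++ [wA, wB, wG ++ [9, 11]]) ++ trivRels 7) sD g3) = true := by
  have h0 := g3_c0
  exact allLt_of_allR_zero h0

theorem g3_t : checkTgt g3 [602] [8] = true := by decide +kernel

noncomputable def g4F : NT := (.node (.node (.node (.node (.node (.node (.leaf (nat_lit 4194432)) (.leaf (nat_lit 2945686990328471513726977))) (.leaf (nat_lit 488283397314953720769872135))) (.node (.leaf (nat_lit 468805698568011051467010)) (.leaf (nat_lit 526075574083140696865407237)))) (.node (.node (.leaf (nat_lit 55340795411602342401)) (.leaf (nat_lit 164612))) (.node (.leaf (nat_lit 65666)) (.leaf (nat_lit 663606325846105241738690570))))) (.node (.node (.node (.leaf (nat_lit 68723671424)) (.leaf (nat_lit 38092599132789651128584))) (.node (.leaf (nat_lit 1375555403511273049063939)) (.leaf (nat_lit 0xc962e3c60d010a00005022c088))))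 (.node (.node (.leaf (nat_lit 33536)) (.leaf (nat_lit 0x44606010400719407950b0004d08022008a))) (.node (.leaf (nat_lit 98435)) (.leaf (nat_lit 0xe931c2c69b0208002880210006)))))) (.node (.node (.node (.node (.node (.leaf (nat_lit 34363932928)) (.leaf (nat_lit 75641018190602325459456))) (.leaf (nat_lit 131332))) (.node (.leaf (nat_lit 49921)) (.leaf (nat_lit 4398046593163)))) (.node (.node (.leaf (nat_lit 1064930608563625444524417)) (.leaf (nat_lit 368935444974976172810))) (.node (.leaf (nat_lit 4398046544005)) (.leaf (nat_lit 66528326617986064580745))))) (.node (.node (.node (.leaf (nat_lit 16896)) (.leaf (nat_lit 147844))) (.node (.leaf (nat_lit 370708222467475263579013506)) (.leaf (nat_lit 0x34c9f5ea0c1a64d0d8c00100890a04d800214188)))) (.node (.node (.leaf (nat_lit 110681027941968642818)) (.leaf (nat_lit 876053584937033635874373767))) (.node (.leaf (nat_lit 114820)) (.leaf (nat_lit 4454593762069422356332547)))))))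

noncomputable def g4P : NT := (.node (.node (.node (.node (.leaf (nat_lit 0)) (.leaf (nat_lit 516))) (.leaf (nat_lit 258))) (.node (.node (.leaf (nat_lit 1536)) (.leaf (nat_lit 1540))) (.leaf (nat_lit 259)))) (.node (.node (.node (.leaf (nat_lit 1024)) (.leaf (nat_lit 772))) (.leaf (nat_lit 386))) (.node (.node (.leaf (nat_lit 1537)) (.leaf (nat_lit 389))) (.leaf (nat_lit 260)))))

noncomputable def g4L : NT := (.leaf (nat_lit 0))

noncomputable def g4Fi : NT := (.leaf (nat_lit 0))

noncomputable def g4 : Cert := mkCert 7 127 g4F g4P g4L g4Fi 34 1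

theorem g4_c0 : allR 0 34 (checkFact ((rels ++ [wA, wB, wG ++ [13]]) ++ trivRels 7) sD g4) = true := by decide +kernel

theorem g4_c : CfsgH9.allLt g4.nfacts (checkFact ((rels ++ [wA, wB, wG ++ [13]]) ++ trivRels 7) sD g4) = true := by
  have h0 := g4_c0
  exact allLt_of_allR_zero h0

theorem g4_t : checkTgt g4 [66] [8] = true := by decide +kernel

noncomputable def g5F : NT := (.node (.node (.node (.node (.node (.node (.leaf (nat_lit 4194432)) (.leaf (nat_lit 9292916478186475336318982))) (.leaf (nat_lit 4398046560390))) (.node (.leaf (nat_lit 129127772015678194434)) (.leaf (nat_lit 0x4c70701040081d488970b0004d08022008a)))) (.node (.node (.leaf (nat_lit 55340795411602342401)) (.leaf (nat_lit 42851859103806715445512))) (.node (.leaf (nat_lit 409698459780032562995446146)) (.leaf (nat_lit 0xd98324470f010a00005022c088))))) (.node (.node (.node (.node (.leaf (nat_lit 68723671424)) (.leaf (nat_lit 3252659258459072162168833))) (.leaf (nat_lit 566263853493324245893185799))) (.node (.leaf (nat_lit 49921)) (.leaf (nat_lit 604056048708255295698272517))))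 (.node (.node (.leaf (nat_lit 1064930608563625444524417)) (.leaf (nat_lit 164612))) (.node (.leaf (nat_lit 65666)) (.leaf (nat_lit 5793698183116752460857606)))))) (.node (.node (.node (.node (.node (.leaf (nat_lit 34363932928)) (.leaf (nat_lit 4912727874512070285230083))) (.leaf (nat_lit 114820))) (.node (.leaf (nat_lit 471185328553519583625474)) (.leaf (nat_lit 954034059562148234707239047)))) (.node (.node (.leaf (nat_lit 159435353707622002868353)) (.leaf (nat_lit 147844))) (.node (.leaf (nat_lit 221432986582439199107)) (.leaf (nat_lit 0x2a5cea366b0e1e6ce1094143058a0a04d810218188))))) (.node (.node (.node (.node (.leaf (nat_lit 16896)) (.leaf (nat_lit 80363384673471970673152))) (.leaf (nat_lit 131332))) (.node (.leaf (nat_lit 1377935033496781581222403)) (.leaf (nat_lit 4398046593163)))) (.node (.node (.leaf (nat_lit 33536)) (.leaf (nat_lit 405828933122395276042))) (.node (.leaf (nat_lit 4398046544005)) (.leaf (nat_lit 0xc151c3481d010a002880228009)))))))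

noncomputable def g5P : NT := (.node (.node (.node (.node (.leaf (nat_lit 0)) (.leaf (nat_lit 516))) (.leaf (nat_lit 258))) (.node (.node (.leaf (nat_lit 1536)) (.leaf (nat_lit 1540))) (.leaf (nat_lit 387)))) (.node (.node (.node (.leaf (nat_lit 1024)) (.leaf (nat_lit 772))) (.leaf (nat_lit 386))) (.node (.node (.leaf (nat_lit 1537)) (.leaf (nat_lit 389))) (.leaf (nat_lit 260)))))

noncomputable def g5L : NT := (.leaf (nat_lit 0))

noncomputable def g5Fi : NT := (.leaf (nat_lit 0))

noncomputable def g5 : Cert := mkCert 7 127 g5F g5P g5L g5Fi 36 1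

theorem g5_c0 : allR 0 36 (checkFact ((rels ++ [wA, wB, wG ++ [9, 13]]) ++ trivRels 7) sD g5) = true := by decide +kernel

theorem g5_c : CfsgH9.allLt g5.nfacts (checkFact ((rels ++ [wA, wB, wG ++ [9, 13]]) ++ trivRels 7) sD g5) = true := by
  have h0 := g5_c0
  exact allLt_of_allR_zero h0

theorem g5_t : checkTgt g5 [70] [8] = true := by decide +kernel

noncomputable def g6F : NT := (.node (.node (.node (.node (.node (.node (.node (.leaf (nat_lit 33554688)) (.leaf (nat_lit 25822032191558299378594742548))) (.node (.leaf (nat_lit 281474977038603)) (.leaf (nat_lit 40770126072211886782040899605)))) (.node (.node (.leaf (nat_lit 2196703253802040595761595395)) (.leaf (nat_lit 0x413f979c030100020b0118011a))) (.leaf (nat_lit 1114376)))) (.node (.node (.node (.leaf (nat_lit 946655066854579251999539714)) (.leaf (nat_lit 35764200353137146771396755726))) (.node (.leaf (nat_lit 368344657739044337616399)) (.leaf (nat_lit 0xcc8bcb18040000260401010004)))) (.node (.node (.leaf (nat_lit 281474976907527)) (.leaf (nat_lit 0x868394aeac91a09c412c38060500190901160518)))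 (.leaf (nat_lit 1245960))))) (.node (.node (.node (.node (.leaf (nat_lit 28334270962508507382785)) (.leaf (nat_lit 0x81858782040000021401150214))) (.node (.leaf (nat_lit 82537539906398452091453965)) (.leaf (nat_lit 0xc083c738c70500001c0601040006)))) (.node (.node (.leaf (nat_lit 5308572760819751293926310405)) (.leaf (nat_lit 1835788))) (.leaf (nat_lit 18367691714126568005156537865)))) (.node (.node (.node (.leaf (nat_lit 263681)) (.leaf (nat_lit 281474977431833))) (.node (.leaf (nat_lit 27023440022106893120501974535)) (.leaf (nat_lit 258752663589402001025270784)))) (.node (.node (.leaf (nat_lit 281474976973065)) (.leaf (nat_lit 53449760358947096293383274524))) (.leaf (nat_lit 30783378752660052463634874889)))))) (.node (.node (.node (.node (.node (.leaf (nat_lit 2199056810752)) (.leaf (nat_lit 0x82807e603238010500000901150112))) (.node (.leaf (nat_lit 0x2f432e1602020102030106020c)) (.leaf (nat_lit 26225497035129938428085665807)))) (.node (.node (.leaf (nat_lit 160578907164957378544388)) (.leaf (nat_lit 1770251))) (.leaf (nat_lit 20851798118361387183572583436))))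 (.node (.node (.node (.leaf (nat_lit 85002668766839854597635)) (.leaf (nat_lit 689465578573093585618199))) (.node (.leaf (nat_lit 0x53494244000401020c010f010c)) (.leaf (nat_lit 239145397952536094615601167)))) (.node (.node (.leaf (nat_lit 14606392886902555461250712582)) (.leaf (nat_lit 0xa2b2aea8424c000600050e010e0019))) (.leaf (nat_lit 17112873918656718537227109395))))) (.node (.node (.node (.node (.leaf (nat_lit 2173667531724190864644309761)) (.leaf (nat_lit 1442569))) (.node (.leaf (nat_lit 349455191793272105599758)) (.leaf (nat_lit 0x85cb38c70400001c1201040012)))) (.node (.node (.leaf (nat_lit 198339464354633303262468)) (.leaf (nat_lit 21249638623451619522848227854))) (.leaf (nat_lit 1180168)))) (.node (.node (.node (.leaf (nat_lit 3434671627286315893803713028)) (.leaf (nat_lit 1704459))) (.leaf (nat_lit 1049351))) (.node (.node (.leaf (nat_lit 15204924541156477275761869831)) (.leaf (nat_lit 0xa9b9a6bb040000200c0109000c))) (.leaf (nat_lit 16546936074616661104007578639))))))) (.node (.node (.node (.node (.node (.node (.leaf (nat_lit 1099545182720))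 (.leaf (nat_lit 281474977300757))) (.node (.leaf (nat_lit 786694)) (.leaf (nat_lit 37365805131276542929243865108)))) (.node (.node (.leaf (nat_lit 0x191f180c020201180101040303)) (.leaf (nat_lit 0xa19b989e010301021a01190118))) (.leaf (nat_lit 0x3361321c020201020401080211)))) (.node (.node (.node (.leaf (nat_lit 198144)) (.leaf (nat_lit 1508617))) (.node (.leaf (nat_lit 0x462e12010200142f4442500b00011a0d010d010f)) (.leaf (nat_lit 251234656148682407837499412)))) (.node (.node (.leaf (nat_lit 524548)) (.leaf (nat_lit 46284556195787320619882251031))) (.leaf (nat_lit 0x3222305e70040100050801100113))))) (.node (.node (.node (.node (.leaf (nat_lit 936945881365794863393604097)) (.leaf (nat_lit 0x788285887e68391c386a7f0209001a1401150612))) (.node (.leaf (nat_lit 918278)) (.leaf (nat_lit 234271915742214646525067285)))) (.node (.node (.leaf (nat_lit 641917915700783415044123919621)) (.leaf (nat_lit 793357641183044525884188))) (.leaf (nat_lit 31987242213779734057366128145)))) (.node (.node (.node (.leaf (nat_lit 113336867664062020912644)) (.leaf (nat_lit 0x994129400400000219010b0219)))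 (.leaf (nat_lit 21450376996280144300194858508))) (.node (.node (.leaf (nat_lit 17678348989156145618638799881)) (.leaf (nat_lit 51904682325982358258647105563))) (.leaf (nat_lit 17117737956134080868867048468)))))) (.node (.node (.node (.node (.node (.leaf (nat_lit 66560)) (.leaf (nat_lit 0x83391d38040000021501090215))) (.node (.leaf (nat_lit 852486)) (.leaf (nat_lit 45725409114749637381520097289)))) (.node (.node (.leaf (nat_lit 329218)) (.leaf (nat_lit 774468175251561649996571))) (.leaf (nat_lit 30100090083146266117954864145)))) (.node (.node (.node (.leaf (nat_lit 951509659598970346790912515)) (.leaf (nat_lit 1573386))) (.node (.leaf (nat_lit 0x312f47520400000207010f0207)) (.leaf (nat_lit 0xd47ad309040000230101000001)))) (.node (.node (.leaf (nat_lit 15839487778176511484455420936)) (.leaf (nat_lit 44784170639216466405005918230))) (.leaf (nat_lit 1312264))))) (.node (.node (.node (.node (.leaf (nat_lit 132352)) (.leaf (nat_lit 19049478634349697077907686416))) (.node (.leaf (nat_lit 984582)) (.leaf (nat_lit 236689767381443900579512340)))) (.node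 (.node (.leaf (nat_lit 393475)) (.leaf (nat_lit 0x95697f81858a807e6032252f5054aa0f00011b170117011c))) (.leaf (nat_lit 22104245267482144108079875085)))) (.node (.node (.node (.leaf (nat_lit 2808448052725940180329104388)) (.leaf (nat_lit 186911283910783372080251418))) (.leaf (nat_lit 434457788484930014479120))) (.node (.node (.leaf (nat_lit 655621)) (.leaf (nat_lit 54074349994704399088138649623))) (.leaf (nat_lit 26457813835880005440120291601))))))))

noncomputable def g6P : NT := (.node (.node (.node (.node (.node (.leaf (nat_lit 0)) (.leaf (nat_lit 1543))) (.node (.leaf (nat_lit 516)) (.leaf (nat_lit 1034)))) (.node (.node (.leaf (nat_lit 3073)) (.leaf (nat_lit 3080))) (.node (.leaf (nat_lit 518)) (.leaf (nat_lit 1548))))) (.node (.node (.node (.leaf (nat_lit 2560)) (.leaf (nat_lit 1032))) (.node (.leaf (nat_lit 517)) (.leaf (nat_lit 1035)))) (.node (.node (.leaf (nat_lit 515)) (.leaf (nat_lit 1545))) (.leaf (nat_lit 1542))))) (.node (.node (.node (.node (.leaf (nat_lit 2048)) (.leaf (nat_lit 520))) (.node (.leaf (nat_lit 772)) (.leaf (nat_lit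 779)))) (.node (.node (.leaf (nat_lit 3074)) (.leaf (nat_lit 777))) (.leaf (nat_lit 1030)))) (.node (.node (.node (.leaf (nat_lit 3072)) (.leaf (nat_lit 1544))) (.node (.leaf (nat_lit 773)) (.leaf (nat_lit 1547)))) (.node (.node (.leaf (nat_lit 771)) (.leaf (nat_lit 2569))) (.leaf (nat_lit 3078))))))

noncomputable def g6L : NT := (.leaf (nat_lit 0))

noncomputable def g6Fi : NT := (.leaf (nat_lit 0))

noncomputable def g6 : Cert := mkCert 8 255 g6F g6P g6L g6Fi 109 1

theorem g6_c0 : allR 0 109 (checkFact ((rels ++ [wA, wB, wG ++ [13, 11]]) ++ trivRels 7) sD g6) = true := by decide +kernel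

theorem g6_c : CfsgH9.allLt g6.nfacts (checkFact ((rels ++ [wA, wB, wG ++ [13, 11]]) ++ trivRels 7) sD g6) = true := by
  have h0 := g6_c0
  exact allLt_of_allR_zero h0

theorem g6_t : checkTgt g6 [216] [8] = true := by decide +kernel

noncomputable def g7F : NT := (.node (.node (.node (.node (.node (.node (.node (.node (.leaf (nat_lit 268435968)) (.leaf (nat_lit 0xcb7cb21f60400000400d00828000d))) (.leaf (nat_lit 0x3d9287c01010041809008340815))) (.node (.leaf (nat_lit 18014398510531082)) (.leaf (nat_lit 233192123928694941683071321118)))) (.node (.node (.node (.leaf (nat_lit 0x485434020080028010080c0804)) (.leaf (nat_lit 333699803432960535676710027280))) (.leaf (nat_lit 18014398512103961))) (.node (.leaf (nat_lit 0x2f9649803000002407008340c07)) (.leaf (nat_lit 0x349cdbc020080022110084c0423))))) (.node (.node (.node (.node (.leaf (nat_lit 526848)) (.leaf (nat_lit 326233477571020586512200499225))) (.leaf (nat_lit 0x1f94d1802008001c090083c0817))) (.node (.leaf (nat_lit 94272040145138673546914169870)) (.leaf (nat_lit 0x75309fd3a9f51aa13c9c3d0e84e312c17198100000436130084c0220))))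 (.node (.node (.leaf (nat_lit 1573379)) (.leaf (nat_lit 0x22ab4dc02008001c07008680812))) (.node (.leaf (nat_lit 265963689538696489578792466)) (.leaf (nat_lit 0xb741a04ba5b339b0b45c250c04a3b4a271dc1000004361b0086c0225)))))) (.node (.node (.node (.node (.node (.leaf (nat_lit 14507119058993877690091521)) (.leaf (nat_lit 0x4b4009a03000003e18008180018))) (.leaf (nat_lit 0x27a187801010041a0600858080e))) (.node (.leaf (nat_lit 18014398510793228)) (.leaf (nat_lit 478734633790871567925773855)))) (.node (.node (.leaf (nat_lit 1313794)) (.leaf (nat_lit 0x4b28146a64e208821e202113a02048003418008640c16))) (.node (.leaf (nat_lit 0x651986464040000004110081c0411)) (.leaf (nat_lit 9702418))))) (.node (.node (.node (.node (.leaf (nat_lit 0x185428020080024000080c0403)) (.leaf (nat_lit 0x51c5c1403000003816008040016))) (.leaf (nat_lit 0x1f95d2402008002809008400818))) (.node (.leaf (nat_lit 207935250197651617310313488)) (.leaf (nat_lit 8914448)))) (.node (.node (.leaf (nat_lit 0x108d45c02008002604008200805)) (.leaf (nat_lit 7341067))) (.node (.leaf (nat_lit 0x248e4ec0300000180c00850080c))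 (.leaf (nat_lit 0x673d17a03000003e20008300020))))))) (.node (.node (.node (.node (.node (.node (.leaf (nat_lit 70369012614656)) (.leaf (nat_lit 0x6fbfc5c03000004811008100011))) (.leaf (nat_lit 0x4098c8403000002815008280c15))) (.node (.leaf (nat_lit 0x1988c8003000001807008280807)) (.leaf (nat_lit 0xc35eae9800101804041e00874021c)))) (.node (.node (.node (.leaf (nat_lit 0x1b108681c02010043001008100603)) (.leaf (nat_lit 359024381502247505053966403584))) (.leaf (nat_lit 0xa12087c8004000000419008280419))) (.node (.leaf (nat_lit 18014398511317521)) (.leaf (nat_lit 9437714))))) (.node (.node (.node (.node (.leaf (nat_lit 789504)) (.leaf (nat_lit 0x11236c143404000004c03008040003))) (.leaf (nat_lit 353006348551407324434271256))) (.node (.leaf (nat_lit 198263843640277187075507727)) (.leaf (nat_lit 0x1a4d065128a801020000a0f008840613)))) (.node (.node (.leaf (nat_lit 2099715)) (.leaf (nat_lit 7080458))) (.node (.leaf (nat_lit 275635096096035735441508883)) (.leaf (nat_lit 0x623cda603000003a1d0083c001d)))))) (.node (.node (.node (.node (.node (.leaf (nat_lit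 0x181c0c02008001a00008040401)) (.leaf (nat_lit 0x2e4048203000003a10008100010))) (.leaf (nat_lit 6030857))) (.node (.leaf (nat_lit 0x31258c0300201004040300818040d)) (.leaf (nat_lit 488406040347788670043162144)))) (.node (.node (.leaf (nat_lit 0x80e0a02002010002a00008100a05)) (.leaf (nat_lit 6817290))) (.node (.leaf (nat_lit 0x2f190ce6a2e180661819188ba02048003410008440c0e)) (.leaf (nat_lit 0x613fba0dc02010043007008940615))))) (.node (.node (.node (.node (.leaf (nat_lit 62864151843895772746877956)) (.leaf (nat_lit 328738371869262098093471694872))) (.leaf (nat_lit 0x2ea6cfc0200800180d008600215))) (.node (.leaf (nat_lit 0x5b28928980002004040d00840020d)) (.leaf (nat_lit 0x591ea35b0030080030100085c0c22)))) (.node (.node (.leaf (nat_lit 0x188e84401010041803008240806)) (.leaf (nat_lit 0xbb248ac900400000041d00830041d))) (.node (.leaf (nat_lit 0x3b3d8e83c02010040404008240415)) (.leaf (nat_lit 0x3c3d95e03000004614008480014)))))))) (.node (.node (.node (.node (.node (.node (.node (.leaf (nat_lit 35184640525312)) (.leaf (nat_lit 0x723f0ee03000003a24008200024)))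 (.leaf (nat_lit 0x21985000300000280a008540c0a))) (.node (.leaf (nat_lit 0x20884640300000180a0081c080a)) (.leaf (nat_lit 0x4923ae57c0300800040c00870021e)))) (.node (.node (.node (.leaf (nat_lit 0x386c2802008002800008100803)) (.leaf (nat_lit 0x1204c4741204000004601008000001))) (.leaf (nat_lit 0x2813c9c3d0e8800102800000a008640216))) (.node (.leaf (nat_lit 0x2695cbc0300000240d0081c0c0d)) (.leaf (nat_lit 0xb370b419c0101804040f0088c021a))))) (.node (.node (.node (.node (.leaf (nat_lit 0x18442002008002200008080402)) (.leaf (nat_lit 331185237728162106855882752014))) (.leaf (nat_lit 6294537))) (.node (.leaf (nat_lit 3933702)) (.leaf (nat_lit 18014398513414689)))) (.node (.node (.leaf (nat_lit 18014398510268935)) (.leaf (nat_lit 0x47ac5200200800181700868020f))) (.node (.leaf (nat_lit 4983303)) (.leaf (nat_lit 0xea47b5984be248b880a450ad9e00304800322500884001c)))))) (.node (.node (.node (.node (.node (.leaf (nat_lit 642505396952904498211486695937)) (.leaf (nat_lit 0x5180a920e04000003c0e00818000e))) (.leaf (nat_lit 0x439387c01010041a09008380816))) (.node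 (.leaf (nat_lit 3408390)) (.leaf (nat_lit 8390157)))) (.node (.node (.leaf (nat_lit 0x98a45002008002402008140405)) (.leaf (nat_lit 406203797757562940426816537))) (.node (.leaf (nat_lit 0x5b339a4c804000000410008440410)) (.leaf (nat_lit 0x6dba5b802008002422008940417))))) (.node (.node (.node (.node (.leaf (nat_lit 1051649)) (.leaf (nat_lit 336151504995139002955819384838))) (.leaf (nat_lit 0x1ea4cac02008002806008600810))) (.node (.leaf (nat_lit 0x270c02801010002c3126128b00b00004340e008380210)) (.leaf (nat_lit 0x2f1bdb002008000810008480422)))) (.node (.node (.leaf (nat_lit 2359812)) (.leaf (nat_lit 18014398512628253))) (.node (.leaf (nat_lit 5505545)) (.leaf (nat_lit 0x64bd9580300000401f00828001f))))))) (.node (.node (.node (.node (.node (.node (.leaf (nat_lit 264192)) (.leaf (nat_lit 0x50c009403000003819008180019))) (.leaf (nat_lit 5768201))) (.node (.leaf (nat_lit 2884101)) (.leaf (nat_lit 8128012)))) (.node (.node (.leaf (nat_lit 87047381378841998353237508)) (.leaf (nat_lit 0x9f51a954004000000418008640418))) (.node (.leaf (nat_lit 0x190b45c250c0640102800000700844020e))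 (.leaf (nat_lit 0xab4599cca330a0000000000140216191c1ca00080043624008640a24))))) (.node (.node (.node (.node (.leaf (nat_lit 48357042008520153930664963)) (.leaf (nat_lit 338627385073709764811287691289))) (.leaf (nat_lit 0x3ea4d080200800241500860040a))) (.node (.leaf (nat_lit 4197382)) (.leaf (nat_lit 0x3a9bda802008002e13008480a21)))) (.node (.node (.leaf (nat_lit 125728294463821442898987528)) (.leaf (nat_lit 435213304285166992661940763))) (.node (.leaf (nat_lit 18014398511579668)) (.leaf (nat_lit 0x593d17603000003a1a00830001a)))))) (.node (.node (.node (.node (.node (.leaf (nat_lit 0x38180801010041c00008040601)) (.leaf (nat_lit 0x1067340c6e04000004a060080c0006))) (.leaf (nat_lit 0x7424191c11804008000a09008480217))) (.node (.leaf (nat_lit 3671046)) (.leaf (nat_lit 0x2632ca40200800080600880040f)))) (.node (.node (.leaf (nat_lit 106385481349987513543166468)) (.leaf (nat_lit 0x219bd5802008001c0a00848081a))) (.node (.leaf (nat_lit 4720135)) (.leaf (nat_lit 570617709224695935983158821))))) (.node (.node (.node (.node (.leaf (nat_lit 0x686c3402008002401008100404))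 (.leaf (nat_lit 0x1d8b2a23204000004c04008040004))) (.leaf (nat_lit 0x2da253402008001810008580218))) (.node (.leaf (nat_lit 0x331893cb404000000407008400407)) (.leaf (nat_lit 9177617)))) (.node (.node (.leaf (nat_lit 0x1d8c04001010041804008180809)) (.leaf (nat_lit 7865356))) (.node (.leaf (nat_lit 0x259e8780101004180600854080d)) (.leaf (nat_lit 0x713dc9203000003a23008140023)))))))))

noncomputable def g7P : NT := (.node (.node (.node (.node (.node (.node (.leaf (nat_lit 0)) (.leaf (nat_lit 3085))) (.leaf (nat_lit 6150))) (.node (.leaf (nat_lit 5123)) (.leaf (nat_lit 6153)))) (.node (.node (.node (.leaf (nat_lit 6145)) (.leaf (nat_lit 1042))) (.leaf (nat_lit 1544))) (.node (.leaf (nat_lit 1541)) (.leaf (nat_lit 2059))))) (.node (.node (.node (.node (.leaf (nat_lit 5120)) (.leaf (nat_lit 3088))) (.leaf (nat_lit 3079))) (.node (.leaf (nat_lit 1540)) (.leaf (nat_lit 3082)))) (.node (.node (.leaf (nat_lit 1027)) (.leaf (nat_lit 2057))) (.node (.leaf (nat_lit 2054)) (.leaf (nat_lit 2060)))))) (.node (.node (.node (.node (.node (.leaf (nat_lit 4096))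 (.leaf (nat_lit 1551))) (.leaf (nat_lit 1543))) (.node (.leaf (nat_lit 1028)) (.leaf (nat_lit 1546)))) (.node (.node (.node (.leaf (nat_lit 6146)) (.leaf (nat_lit 6162))) (.leaf (nat_lit 1033))) (.node (.leaf (nat_lit 1030)) (.leaf (nat_lit 1548))))) (.node (.node (.node (.node (.leaf (nat_lit 6144)) (.leaf (nat_lit 5137))) (.leaf (nat_lit 5127))) (.node (.leaf (nat_lit 1029)) (.leaf (nat_lit 5130)))) (.node (.node (.leaf (nat_lit 1539)) (.leaf (nat_lit 3081))) (.node (.leaf (nat_lit 3078)) (.leaf (nat_lit 3084)))))))

noncomputable def g7L : NT := (.leaf (nat_lit 0))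

noncomputable def g7Fi : NT := (.leaf (nat_lit 0))

noncomputable def g7 : Cert := mkCert 9 511 g7F g7P g7L g7Fi 147 1

theorem g7_c0 : allR 0 147 (checkFact ((rels ++ [wA, wB, wG ++ [9, 13, 11]]) ++ trivRels 7) sD g7) = true := by decide +kernel

theorem g7_c : CfsgH9.allLt g7.nfacts (checkFact ((rels ++ [wA, wB, wG ++ [9, 13, 11]]) ++ trivRels 7) sD g7) = true := by
  have h0 := g7_c0
  exact allLt_of_allR_zero h0

theorem g7_t : checkTgt g7 [292] [8] = true := by decide +kernel

noncomputable def h1F : NT := (.node (.node (.node (.node (.node (.node (.leaf (nat_lit 4194432)) (.leaf (nat_lit 9285648461020850462786057))) (.leaf (nat_lit 0x4048163e70d182e380040e00c800210108))) (.node (.node (.leaf (nat_lit 129127771981318455938)) (.leaf (nat_lit 3266826357907612378333185))) (.leaf (nat_lit 55875331919849594077324)))) (.node (.node (.node (.leaf (nat_lit 55340795411602342401)) (.leaf (nat_lit 8990795703746710007333252))) (.leaf (nat_lit 196745))) (.node (.leaf (nat_lit 82180)) (.leaf (nat_lit 7469806314637069775864332))))) (.node (.node (.node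 (.node (.leaf (nat_lit 68723671424)) (.leaf (nat_lit 78195892249038419984520))) (.leaf (nat_lit 4398046658698))) (.node (.leaf (nat_lit 1079189941732774726648449)) (.leaf (nat_lit 7721530369787545492963587)))) (.node (.node (.node (.leaf (nat_lit 461666808611313656283393)) (.leaf (nat_lit 10665787735756302840823820))) (.leaf (nat_lit 0x1c58b162d52848993a5465c70008000051a00d80020428d))) (.node (.leaf (nat_lit 115334)) (.leaf (nat_lit 800523022678322581420048649)))))) (.node (.node (.node (.node (.node (.leaf (nat_lit 34363932928)) (.leaf (nat_lit 801704942321624355239428103))) (.leaf (nat_lit 4398046577033))) (.node (.node (.leaf (nat_lit 49666)) (.leaf (nat_lit 94530484122080906314240))) (.leaf (nat_lit 55903002031802630029955)))) (.node (.node (.node (.leaf (nat_lit 159435353707622002868353)) (.leaf (nat_lit 0x1124447ca24010a002840220009))) (.leaf (nat_lit 213132))) (.node (.leaf (nat_lit 98437)) (.leaf (nat_lit 516509397257562554884))))) (.node (.node (.node (.node (.leaf (nat_lit 16896)) (.leaf (nat_lit 9891310266208100408295816))) (.leaf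 (nat_lit 4398046675083))) (.node (.leaf (nat_lit 4398046544004)) (.leaf (nat_lit 2578873269942570574709251)))) (.node (.node (.node (.leaf (nat_lit 33408)) (.leaf (nat_lit 7344672826213642732077059))) (.leaf (nat_lit 24017661910388631093251))) (.node (.leaf (nat_lit 4398046625928)) (.leaf (nat_lit 9108559717912930334933388)))))))

noncomputable def h1P : NT := (.node (.node (.node (.node (.leaf (nat_lit 0)) (.leaf (nat_lit 391))) (.node (.leaf (nat_lit 386)) (.leaf (nat_lit 265)))) (.node (.node (.leaf (nat_lit 1280)) (.leaf (nat_lit 393))) (.leaf (nat_lit 261)))) (.node (.node (.node (.leaf (nat_lit 1024)) (.leaf (nat_lit 900))) (.node (.leaf (nat_lit 516)) (.leaf (nat_lit 268)))) (.node (.node (.leaf (nat_lit 1026)) (.leaf (nat_lit 394))) (.leaf (nat_lit 1286)))))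

noncomputable def h1L : NT := (.leaf (nat_lit 0))

noncomputable def h1Fi : NT := (.leaf (nat_lit 0))

noncomputable def h1 : Cert := mkCert 7 127 h1F h1P h1L h1Fi 42 1

theorem h1_c0 : allR 0 42 (checkFact ((rels ++ [wA, wB, wH ++ [9]]) ++ trivRels 7) sD h1) = true := by decide +kernel

theorem h1_c : CfsgH9.allLt h1.nfacts (checkFact ((rels ++ [wA, wB, wH ++ [9]]) ++ trivRels 7) sD h1) = true := by
  have h0 := h1_c0
  exact allLt_of_allR_zero h0

theorem h1_t : checkTgt h1 [82] [8] = true := by decide +kernel

noncomputable def h2F : NT := (.node (.node (.node (.node (.node (.node (.node (.node (.leaf (nat_lit 268435968)) (.leaf (nat_lit 9439766))) (.node (.leaf (nat_lit 0x3c1f09603000003e0f00818000f)) (.leaf (nat_lit 0x177bec421801018040425008f0023a)))) (.node (.node (.leaf (nat_lit 0x1a8f854010100418030082c0808)) (.leaf (nat_lit 0x510dd18446d35dc5369fbb93c08018003216008b80432))) (.leaf (nat_lit 223288603614411899415157802010)))) (.node (.node (.node (.leaf (nat_lit 0x483c3802008002601008080804)) (.leaf (nat_lit 0x61c75dc02008002614008a40820)))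 (.node (.leaf (nat_lit 0x9f4aa392000020040413008580213)) (.leaf (nat_lit 0xabe7af00300000382d00898002d)))) (.node (.node (.leaf (nat_lit 0x3318934b803008000407008380212)) (.leaf (nat_lit 0xa651dfcd2603665544793d6bc0b000003233008d40233))) (.leaf (nat_lit 7866892))))) (.node (.node (.node (.node (.leaf (nat_lit 33849932173109419462101506)) (.leaf (nat_lit 9962008))) (.node (.leaf (nat_lit 0x35478d03402010040403008200413)) (.leaf (nat_lit 0x5ca8cf47b5a31c05008000039008d8023f)))) (.node (.node (.leaf (nat_lit 3933702)) (.leaf (nat_lit 414274704597131017947075052595))) (.leaf (nat_lit 0x20b2d3402008002808008700816)))) (.node (.node (.node (.leaf (nat_lit 1573378)) (.leaf (nat_lit 0x6fc26500200800261d00894082c))) (.leaf (nat_lit 6294025))) (.node (.node (.leaf (nat_lit 0x271b4a830090c4ac6c26124dc0b00000320d00848020d)) (.leaf (nat_lit 884933709181388482461304376))) (.leaf (nat_lit 0x4ab9ddc020080022140087c0420)))))) (.node (.node (.node (.node (.node (.leaf (nat_lit 14507119058993877690091521)) (.leaf (nat_lit 9701911))) (.node (.leaf (nat_lit 0x10a1c1003000004404008040004))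 (.leaf (nat_lit 0x18789c16940400000043e008a8043e)))) (.node (.node (.leaf (nat_lit 3408390)) (.leaf (nat_lit 0xa2cc64002008001820008940229))) (.leaf (nat_lit 0x20b152c020080026080086c0815)))) (.node (.node (.node (.leaf (nat_lit 0x485c44020080028010080c0805)) (.leaf (nat_lit 11536925))) (.node (.leaf (nat_lit 18014398511841815)) (.leaf (nat_lit 0x11e9c2c03000004c01008000001)))) (.node (.node (.leaf (nat_lit 125251977911727292644708844560)) (.leaf (nat_lit 18014398518395446))) (.leaf (nat_lit 556105886246630528610208287))))) (.node (.node (.node (.node (.leaf (nat_lit 53192745286978670629489667)) (.leaf (nat_lit 0x465e4516002010002a09008640a28))) (.node (.leaf (nat_lit 362677755108289104740092437)) (.leaf (nat_lit 0x93c9b2801010041c22008ac062b)))) (.node (.node (.leaf (nat_lit 18014398511317521)) (.leaf (nat_lit 0x1579dbadec0400000042d00888042d))) (.leaf (nat_lit 0x359a8d2590f8880102800000c00874021a)))) (.node (.node (.node (.leaf (nat_lit 2624003)) (.leaf (nat_lit 12321311))) (.leaf (nat_lit 0x59a38840101004180b0084c0819))) (.node (.node (.leaf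 (nat_lit 146299376431236036090507559943)) (.leaf (nat_lit 15467046))) (.leaf (nat_lit 9178133))))))) (.node (.node (.node (.node (.node (.node (.leaf (nat_lit 70369012614656)) (.leaf (nat_lit 0x51c056002008002209008900418))) (.node (.leaf (nat_lit 157535132998716772338526322704)) (.leaf (nat_lit 933290741965973924328506941)))) (.node (.node (.leaf (nat_lit 18014398510793228)) (.leaf (nat_lit 400618683251926277939224642080))) (.leaf (nat_lit 7080459)))) (.node (.node (.node (.leaf (nat_lit 82206964957729839542176773)) (.leaf (nat_lit 18014398516560427))) (.node (.leaf (nat_lit 0x51a7520030000024090084c0c09)) (.leaf (nat_lit 0x70e8d600300000480c00824000c)))) (.node (.node (.leaf (nat_lit 0x4d31968a803008002206008440010)) (.leaf (nat_lit 0x1639fbc67404000000435008c00435))) (.leaf (nat_lit 0x23ac5c00200800260c00860081e))))) (.node (.node (.node (.node (.leaf (nat_lit 0x78380801010042e00008080602)) (.leaf (nat_lit 10488856))) (.node (.leaf (nat_lit 178616376728012121945255183380)) (.leaf (nat_lit 498544092492332560816183707170)))) (.node (.node (.leaf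 (nat_lit 4196870)) (.leaf (nat_lit 0x1377dd1a9c00020040434008b80234))) (.leaf (nat_lit 0x4fb0da00200800181600868021c)))) (.node (.node (.node (.leaf (nat_lit 2097667)) (.leaf (nat_lit 0x99c41c80101004181e00898082d))) (.leaf (nat_lit 0x3f598f84c020100404050082c0419))) (.node (.node (.leaf (nat_lit 0x34138e401010040807008340610)) (.leaf (nat_lit 0x133abdc9f40201004041e008e40430))) (.leaf (nat_lit 8651285)))))) (.node (.node (.node (.node (.node (.leaf (nat_lit 0x38180801010041c00008040601)) (.leaf (nat_lit 0x56ac61002008002217008600425))) (.node (.leaf (nat_lit 170978388112831236899112487429)) (.leaf (nat_lit 952633555080230272308611647)))) (.node (.node (.leaf (nat_lit 3671046)) (.leaf (nat_lit 13370401))) (.leaf (nat_lit 488406040348245929440840732)))) (.node (.node (.node (.leaf (nat_lit 0x23148881802010043001008140603)) (.leaf (nat_lit 0x6db86500200800221d00878042c))) (.leaf (nat_lit 0xa91b86c6c04000000417008240417))) (.node (.node (.leaf (nat_lit 0x6134998d40101804041200840020e)) (.leaf (nat_lit 0xf77ad36d403008000422008cc0237))) (.leaf (nat_lit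 0xb85d389cc03008002a13008780c1f))))) (.node (.node (.node (.node (.leaf (nat_lit 1051137)) (.leaf (nat_lit 10750490))) (.node (.leaf (nat_lit 372349161665241322509831190)) (.leaf (nat_lit 509733909878685570243971515964)))) (.node (.node (.leaf (nat_lit 4719623)) (.leaf (nat_lit 13896225))) (.leaf (nat_lit 0xd56cb6dac0400000041c00874041c)))) (.node (.node (.node (.leaf (nat_lit 0x28110787003008002a03008100c0a)) (.leaf (nat_lit 12845600))) (.leaf (nat_lit 0x5ca9c8c03000002819008300c19))) (.node (.node (.leaf (nat_lit 0x120a47a3a1b0e400030000a070081c000d)) (.leaf (nat_lit 18014398519444540))) (.leaf (nat_lit 0x42663e12c02010002a08008700a23)))))))) (.node (.node (.node (.node (.node (.node (.node (.leaf (nat_lit 35184640525312)) (.leaf (nat_lit 618970028866591451854146084))) (.node (.leaf (nat_lit 0x803d1f46604000003a06008080006)) (.leaf (nat_lit 15992358)))) (.node (.node (.leaf (nat_lit 0x1f8d0500101004180500820080b)) (.leaf (nat_lit 0x27f3d96cda8002018000432008c4002c))) (.leaf (nat_lit 0x49af88001010041a08008680814)))) (.node (.node (.node (.leaf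 (nat_lit 1313793)) (.leaf (nat_lit 11010587))) (.node (.leaf (nat_lit 0x371aa4d3c04000000409008580409)) (.leaf (nat_lit 0x99e86200300000381e00860001e)))) (.node (.node (.leaf (nat_lit 0x100420322d164c05c1983800060280032000081c0a0e)) (.leaf (nat_lit 0x161a0d52a001018040433008c80235))) (.leaf (nat_lit 541598776411254497475562014))))) (.node (.node (.node (.node (.leaf (nat_lit 0x183c1c02008002200008080402)) (.leaf (nat_lit 18014398515773991))) (.node (.leaf (nat_lit 5243912)) (.leaf (nat_lit 0xc6c4e2379bdc69643e22359ae45178d530f6b75a3201001800363f008880038)))) (.node (.node (.leaf (nat_lit 193428140361818670376683023)) (.leaf (nat_lit 0x139a7bd1d40101804041f008d0022f))) (.leaf (nat_lit 0x50b456c02008001813008700219)))) (.node (.node (.node (.leaf (nat_lit 18014398510006791)) (.leaf (nat_lit 11797022))) (.leaf (nat_lit 6554123))) (.node (.node (.leaf (nat_lit 0x15c9271309b4a83019198d86d339b4a8300a0c8cc0c030043610008380607)) (.leaf (nat_lit 14942755))) (.leaf (nat_lit 0x49bbd2c02008002208008800415)))))) (.node (.node (.node (.node (.node (.leaf (nat_lit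 0x181c0c02008001a00008040401)) (.leaf (nat_lit 638312841980425587369183781))) (.node (.leaf (nat_lit 0x1ea244803000004c0a00814000a)) (.leaf (nat_lit 16517671)))) (.node (.node (.leaf (nat_lit 0x31248c0240201004040200818040d)) (.leaf (nat_lit 0x12387d223c0101804041b00890022a))) (.leaf (nat_lit 7343115)))) (.node (.node (.node (.leaf (nat_lit 0x388c2c02008002800008140803)) (.leaf (nat_lit 715684094435762266868812332))) (.node (.leaf (nat_lit 0x2a13ca0470d06c010280000090085c0214)) (.leaf (nat_lit 524908346766488461890449049600)))) (.node (.node (.leaf (nat_lit 125259231466663030002641011730)) (.leaf (nat_lit 14418978))) (.leaf (nat_lit 0x48a5dcc0200800221300854041f))))) (.node (.node (.node (.node (.leaf (nat_lit 0x185c2c020080024000080c0403)) (.leaf (nat_lit 676998468208094889195342361))) (.node (.leaf (nat_lit 5770248)) (.leaf (nat_lit 0x17eccd6b080400000083c008f4003c)))) (.node (.node (.leaf (nat_lit 0x591984c64040000004110081c0411)) (.leaf (nat_lit 0xacc9e6802008001a2d008ac0426))) (.leaf (nat_lit 0xd72289c880400000041d00830041d)))) (.node (.node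 (.node (.leaf (nat_lit 135399701020738476296636938)) (.leaf (nat_lit 18014398517609008))) (.leaf (nat_lit 0x23a95700300000280c008640c0c))) (.node (.node (.leaf (nat_lit 146347733464020550888751628813)) (.leaf (nat_lit 0x1798bc92b401018040426008a0023b))) (.leaf (nat_lit 0x75be5d80200800241f0088c041e))))))) (.node (.node (.node (.node (.node (.node (.leaf (nat_lit 264192)) (.leaf (nat_lit 0xce6531a0003008002a160086c0c24))) (.node (.leaf (nat_lit 0x822aa141c04000004802008000002)) (.leaf (nat_lit 18014398519706174)))) (.node (.node (.leaf (nat_lit 0x228a46c0300000180c00824080c)) (.leaf (nat_lit 0xf597d11e4010180404150088c0221))) (.leaf (nat_lit 473898930512835194972277275)))) (.node (.node (.node (.leaf (nat_lit 0x588c4402008002401008140405)) (.leaf (nat_lit 0x7bb264803000001822008ac0822))) (.node (.leaf (nat_lit 0x48a6d4403000002413008240c13)) (.leaf (nat_lit 0x226946e03000003a050080c0005)))) (.node (.node (.leaf (nat_lit 125247142208448763759265841680)) (.leaf (nat_lit 0xb2d32bc01010042235008cc0a30))) (.leaf (nat_lit 8129043))))) (.node (.node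 (.node (.node (.leaf (nat_lit 789504)) (.leaf (nat_lit 0x82c1e28020080024180086c0428))) (.node (.leaf (nat_lit 5507592)) (.leaf (nat_lit 0xac5ab2801010040822008dc062d)))) (.node (.node (.leaf (nat_lit 203099546919157916239399440)) (.leaf (nat_lit 0x54a713a994daa803018000034008c0022d))) (.leaf (nat_lit 18014398512628253)))) (.node (.node (.node (.leaf (nat_lit 18014398510268937)) (.leaf (nat_lit 18014398517346862))) (.leaf (nat_lit 0x47ac88001010041808008640813))) (.node (.node (.leaf (nat_lit 0x5c39930a40002000080f0083c0012)) (.leaf (nat_lit 15204901))) (.leaf (nat_lit 18014398514987554)))))) (.node (.node (.node (.node (.node (.leaf (nat_lit 526848)) (.leaf (nat_lit 0x57c260002008002216008940424))) (.node (.leaf (nat_lit 4981256)) (.leaf (nat_lit 0xba4edcc8e48286054ac461f180b000003239008fc0239)))) (.node (.node (.leaf (nat_lit 91791324363289454480417096718)) (.leaf (nat_lit 18014398518133812))) (.leaf (nat_lit 0x21a6d940200800280b00858081c)))) (.node (.node (.node (.leaf (nat_lit 106390194492676133868013061)) (.leaf (nat_lit 0x6eca5fc0200800221c008b00423)))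 (.leaf (nat_lit 0x9f55ab550040000004160085c0416))) (.node (.node (.leaf (nat_lit 0x3595c9403000002212008340a12)) (.leaf (nat_lit 14681634))) (.leaf (nat_lit 8391188))))) (.node (.node (.node (.node (.leaf (nat_lit 67699855122319105073613316)) (.leaf (nat_lit 0x5fc75880200800220b008a4041b))) (.node (.leaf (nat_lit 0x490d02c0101000303548239380b000043414008500216)) (.leaf (nat_lit 0x85aa46e3547ba27556994da6f33cbdb6cd78ce602ec0f020003625008c0003b)))) (.node (.node (.leaf (nat_lit 111637050618083207081114207250)) (.leaf (nat_lit 841412379675683975917210165))) (.leaf (nat_lit 0x6b91d500300000181d0085c081d)))) (.node (.node (.node (.leaf (nat_lit 2884101)) (.leaf (nat_lit 18014398517871154))) (.leaf (nat_lit 6816779))) (.node (.node (.leaf (nat_lit 0x339f09003000003810008180010)) (.leaf (nat_lit 471253796327207720552926020651))) (.leaf (nat_lit 609298622309675311813102108)))))))))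

noncomputable def h2P : NT := (.node (.node (.node (.node (.node (.node (.leaf (nat_lit 0)) (.leaf (nat_lit 5140))) (.node (.leaf (nat_lit 5126)) (.leaf (nat_lit 1567)))) (.node (.node (.leaf (nat_lit 1027)) (.leaf (nat_lit 6168))) (.node (.leaf (nat_lit 5129)) (.leaf (nat_lit 3106))))) (.node (.node (.node (.leaf (nat_lit 5121)) (.leaf (nat_lit 5142))) (.node (.leaf (nat_lit 2056)) (.leaf (nat_lit 2593)))) (.node (.node (.leaf (nat_lit 1541)) (.leaf (nat_lit 5149))) (.node (.leaf (nat_lit 6155)) (.leaf (nat_lit 2598)))))) (.node (.node (.node (.node (.leaf (nat_lit 5120)) (.leaf (nat_lit 1557))) (.node (.leaf (nat_lit 2055)) (.leaf (nat_lit 1568)))) (.node (.node (.leaf (nat_lit 5123)) (.leaf (nat_lit 1051))) (.node (.leaf (nat_lit 2059)) (.leaf (nat_lit 1061))))) (.node (.node (.node (.leaf (nat_lit 1026)) (.leaf (nat_lit 1048))) (.node (.leaf (nat_lit 6152)) (.leaf (nat_lit 1570)))) (.node (.node (.leaf (nat_lit 2054)) (.leaf (nat_lit 1566))) (.node (.leaf (nat_lit 5132)) (.leaf (nat_lit 1575))))))) (.node (.node (.node (.node (.node (.leaf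 (nat_lit 4096)) (.leaf (nat_lit 1045))) (.node (.leaf (nat_lit 1543)) (.leaf (nat_lit 1056)))) (.node (.node (.leaf (nat_lit 1539)) (.leaf (nat_lit 5146))) (.node (.leaf (nat_lit 1035)) (.leaf (nat_lit 1059))))) (.node (.node (.node (.leaf (nat_lit 6145)) (.leaf (nat_lit 5143))) (.node (.leaf (nat_lit 5128)) (.leaf (nat_lit 5153)))) (.node (.node (.leaf (nat_lit 1030)) (.leaf (nat_lit 1054))) (.node (.leaf (nat_lit 1548)) (.leaf (nat_lit 3110)))))) (.node (.node (.node (.node (.leaf (nat_lit 6144)) (.leaf (nat_lit 6165))) (.node (.leaf (nat_lit 1032)) (.leaf (nat_lit 2081)))) (.node (.node (.leaf (nat_lit 1029)) (.leaf (nat_lit 1563))) (.node (.leaf (nat_lit 5131)) (.leaf (nat_lit 1062))))) (.node (.node (.node (.leaf (nat_lit 1538)) (.leaf (nat_lit 1560))) (.node (.leaf (nat_lit 1545)) (.leaf (nat_lit 2082)))) (.node (.node (.leaf (nat_lit 3078)) (.leaf (nat_lit 1055))) (.node (.leaf (nat_lit 5139)) (.leaf (nat_lit 5159))))))))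

noncomputable def h2L : NT := (.leaf (nat_lit 0))

noncomputable def h2Fi : NT := (.leaf (nat_lit 0))

noncomputable def h2 : Cert := mkCert 9 511 h2F h2P h2L h2Fi 214 1

theorem h2_c0 : allR 0 214 (checkFact ((rels ++ [wA, wB, wH ++ [11]]) ++ trivRels 7) sD h2) = true := by decide +kernel

theorem h2_c : CfsgH9.allLt h2.nfacts (checkFact ((rels ++ [wA, wB, wH ++ [11]]) ++ trivRels 7) sD h2) = true := by
  have h0 := h2_c0
  exact allLt_of_allR_zero h0

theorem h2_t : checkTgt h2 [426] [8] = true := by decide +kernel

noncomputable def h3F : NT := (.node (.node (.node (.node (.node (.node (.node (.leaf (nat_lit 33554688)) (.leaf (nat_lit 152367191463314633651127296))) (.leaf (nat_lit 786949))) (.node (.leaf (nat_lit 7144817725644384627387990787)) (.leaf (nat_lit 852741)))) (.node (.node (.leaf (nat_lit 132352)) (.leaf (nat_lit 90981149552770334910448140))) (.node (.leaf (nat_lit 524548)) (.leaf (nat_lit 16534601271738103056906256388))))) (.node (.node (.node (.leaf (nat_lit 28334270962508507382785)) (.leaf (nat_lit 330565725875000549377285)))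 (.node (.leaf (nat_lit 10878056214478073342871340036)) (.leaf (nat_lit 0x6765534d25233a5244563031575f4d46445c262a0e06001b070106000a)))) (.node (.node (.leaf (nat_lit 103892134697223218857219)) (.leaf (nat_lit 0x171d23315745484c52445657452b160a0e0a0a0d06011b0101070309))) (.node (.leaf (nat_lit 656644)) (.leaf (nat_lit 0x7022770b0400001d0301010003)))))) (.node (.node (.node (.node (.leaf (nat_lit 2199056810752)) (.leaf (nat_lit 0x2523354003010002050109010c))) (.node (.leaf (nat_lit 281474976841989)) (.leaf (nat_lit 14656261095336066127015511053)))) (.node (.node (.leaf (nat_lit 949082363226774249639379458)) (.leaf (nat_lit 25139848592550608134658852108))) (.node (.leaf (nat_lit 590340)) (.leaf (nat_lit 11893615330467749348256186374))))) (.node (.node (.node (.leaf (nat_lit 936945881365794863393604097)) (.leaf (nat_lit 90957537720071213172457738))) (.node (.leaf (nat_lit 13343084331620290953809822727)) (.leaf (nat_lit 25814372531497788860145008649)))) (.node (.node (.leaf (nat_lit 2806020756353744083177571331)) (.leaf (nat_lit 0x2a584426200302000503010c0306)))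 (.node (.leaf (nat_lit 281474977038603)) (.leaf (nat_lit 142015764132873193205596166))))))) (.node (.node (.node (.node (.node (.leaf (nat_lit 1099545182720)) (.leaf (nat_lit 75255650789813454876901900))) (.node (.leaf (nat_lit 262402)) (.leaf (nat_lit 19924750372483643366043353606)))) (.node (.node (.leaf (nat_lit 75557935800001052542210)) (.leaf (nat_lit 0x454f4c50010301020c010a0109))) (.node (.leaf (nat_lit 0x23312214020201020201040208)) (.leaf (nat_lit 21795841716334494056458551301))))) (.node (.node (.node (.leaf (nat_lit 317975861723103626432413953)) (.leaf (nat_lit 0x35473e380301001104010b000a))) (.node (.leaf (nat_lit 281474976907527)) (.leaf (nat_lit 30455632370024151233010663437)))) (.node (.node (.leaf (nat_lit 4051214350556809934101742083)) (.leaf (nat_lit 415586697239931105379079))) (.node (.leaf (nat_lit 264452595114804041221386)) (.leaf (nat_lit 137180060854414667916836868)))))) (.node (.node (.node (.node (.leaf (nat_lit 66560)) (.leaf (nat_lit 0x20112243e3d4440251000060500190001050509))) (.node (.leaf (nat_lit 393475)) (.leaf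 (nat_lit 22091117107034182507081565447)))) (.node (.node (.leaf (nat_lit 197889)) (.leaf (nat_lit 0x3653382214233a523431540b00001908010c0108))) (.node (.leaf (nat_lit 60691872556643464742699529)) (.leaf (nat_lit 0x1c6e2d73040000230201010002))))) (.node (.node (.node (.leaf (nat_lit 2173667531724190864644309761)) (.leaf (nat_lit 90966982453039151486140938))) (.node (.leaf (nat_lit 11488620458530347009092027397)) (.leaf (nat_lit 0x2e6a656d040000230701030007)))) (.node (.node (.leaf (nat_lit 2194275957429844498610062338)) (.leaf (nat_lit 434476163171431160873740))) (.node (.leaf (nat_lit 0x3d251524040000020b0105020b)) (.leaf (nat_lit 0x7c287b09040000230101000001))))))))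

noncomputable def h3P : NT := (.node (.node (.node (.node (.leaf (nat_lit 0)) (.leaf (nat_lit 516))) (.node (.leaf (nat_lit 514)) (.leaf (nat_lit 1029)))) (.node (.node (.leaf (nat_lit 2560)) (.leaf (nat_lit 2564))) (.leaf (nat_lit 515)))) (.node (.node (.node (.leaf (nat_lit 2048)) (.leaf (nat_lit 1028))) (.node (.leaf (nat_lit 770)) (.leaf (nat_lit 1541)))) (.node (.node (.leaf (nat_lit 2561)) (.leaf (nat_lit 773))) (.leaf (nat_lit 771)))))

noncomputable def h3L : NT := (.leaf (nat_lit 0))

noncomputable def h3Fi : NT := (.leaf (nat_lit 0))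

noncomputable def h3 : Cert := mkCert 8 255 h3F h3P h3L h3Fi 65 1

theorem h3_c0 : allR 0 65 (checkFact ((rels ++ [wA, wB, wH ++ [9, 11]]) ++ trivRels 7) sD h3) = true := by decide +kernel

theorem h3_c : CfsgH9.allLt h3.nfacts (checkFact ((rels ++ [wA, wB, wH ++ [9, 11]]) ++ trivRels 7) sD h3) = true := by
  have h0 := h3_c0
  exact allLt_of_allR_zero h0

theorem h3_t : checkTgt h3 [128] [8] = true := by decide +kernel

noncomputable def h4F : NT := (.node (.node (.node (.node (.node (.node (.node (.leaf (nat_lit 33554688)) (.leaf (nat_lit 39366723756099702303139038233))) (.node (.leaf (nat_lit 852485)) (.leaf (nat_lit 897249703806211080848166)))) (.node (.node (.leaf (nat_lit 327938)) (.leaf (nat_lit 25181452622890009830685279519))) (.node (.leaf (nat_lit 0x422010225e00050005120112010e)) (.leaf (nat_lit 0xdbdf97953b2864b2bcbabbbd7f302e7cdc840c06011b0b01190324))))) (.node (.node (.node (.leaf (nat_lit 3416443274288039551846974210)) (.leaf (nat_lit 36383255375376528571050492186))) (.node (.leaf (nat_lit 0x2010c2248474e4a230a0006050019000106050d))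 (.leaf (nat_lit 0x132d677573ccae60a2a3615f230a00040000060c001b0001290122)))) (.node (.node (.leaf (nat_lit 656643)) (.leaf (nat_lit 2294291))) (.node (.leaf (nat_lit 519460385190881574520343)) (.leaf (nat_lit 287766883260153101218219008)))))) (.node (.node (.node (.node (.leaf (nat_lit 28334270962508507382785)) (.leaf (nat_lit 1769995))) (.node (.leaf (nat_lit 0x47230f22040000021001060210)) (.leaf (nat_lit 935028635682366677124392)))) (.node (.node (.leaf (nat_lit 641915478959678254307193652487)) (.leaf (nat_lit 2163982))) (.node (.leaf (nat_lit 0x2d672c16020201020301080215)) (.leaf (nat_lit 0xe6beb2e2e6be060000051901140019))))) (.node (.node (.node (.leaf (nat_lit 263681)) (.leaf (nat_lit 1966860))) (.node (.leaf (nat_lit 100699779774516086235398673)) (.leaf (nat_lit 44206313542173646021627215900)))) (.node (.node (.leaf (nat_lit 13992249125805358101209744392)) (.leaf (nat_lit 218466136749318380053594661))) (.leaf (nat_lit 32630674091803686775179249173)))))) (.node (.node (.node (.node (.node (.leaf (nat_lit 2199056810752)) (.leaf (nat_lit 1704203)))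 (.node (.leaf (nat_lit 984325)) (.leaf (nat_lit 0x793f99c20301001815011e0627)))) (.node (.node (.leaf (nat_lit 460290)) (.leaf (nat_lit 0x4f5b55230a00000000010105010c225e60a20012011b2001110620))) (.node (.leaf (nat_lit 281474977169684)) (.leaf (nat_lit 69792194260933723041149748262))))) (.node (.node (.node (.leaf (nat_lit 85002668766839854597635)) (.leaf (nat_lit 281474977497373))) (.node (.leaf (nat_lit 100676167941816964497146127)) (.leaf (nat_lit 0xa7a361afd1ca7274662c2d67c367c8d2ac5a4e0d06001b1101270008)))) (.node (.node (.leaf (nat_lit 9034501026337970997053490183)) (.leaf (nat_lit 0xb3652764040000022401140224))) (.leaf (nat_lit 0x736d6668000401021501170115))))) (.node (.node (.node (.node (.leaf (nat_lit 47223736902783181260034)) (.leaf (nat_lit 1836555))) (.node (.leaf (nat_lit 87392132650788447371395601)) (.leaf (nat_lit 953918101613849553012009)))) (.node (.node (.leaf (nat_lit 524547)) (.leaf (nat_lit 21557876910147102886967968527))) (.node (.leaf (nat_lit 126228874605908418199093782)) (.leaf (nat_lit 13590970793039110745761185796)))))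 (.node (.node (.node (.leaf (nat_lit 2808448052725940180329104388)) (.leaf (nat_lit 2032397))) (.node (.leaf (nat_lit 1180422)) (.leaf (nat_lit 261808034704094741977891098)))) (.node (.node (.leaf (nat_lit 18294891712426640771333555212)) (.leaf (nat_lit 0xbbb5b2b8010301022501240123))) (.leaf (nat_lit 576128782971027960955672))))))) (.node (.node (.node (.node (.node (.node (.leaf (nat_lit 1099545182720)) (.leaf (nat_lit 31322654133912514363945190420))) (.node (.leaf (nat_lit 918277)) (.leaf (nat_lit 2556693)))) (.node (.node (.leaf (nat_lit 281474976841990)) (.leaf (nat_lit 281474977628448))) (.node (.leaf (nat_lit 1245447)) (.leaf (nat_lit 1057810164223847738639129))))) (.node (.node (.node (.leaf (nat_lit 198144)) (.leaf (nat_lit 35759487431387242882653683996))) (.node (.leaf (nat_lit 0x4151484403010011050110000f)) (.leaf (nat_lit 0xafd1cfaa030100021201280121)))) (.node (.node (.leaf (nat_lit 9646245825261870573030933514)) (.leaf (nat_lit 281474978021668))) (.leaf (nat_lit 0x6a2c12010200142d6866700b00011a1601160117))))) (.node (.node (.node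 (.node (.leaf (nat_lit 132352)) (.leaf (nat_lit 33279574433465707686235145238))) (.node (.leaf (nat_lit 1114630)) (.leaf (nat_lit 2688278)))) (.node (.node (.leaf (nat_lit 188894731388902602900740)) (.leaf (nat_lit 49413180640711561967317352978))) (.node (.leaf (nat_lit 1442312)) (.leaf (nat_lit 39277267967814721241128304650))))) (.node (.node (.node (.leaf (nat_lit 113336867664062020912644)) (.leaf (nat_lit 19028001311585605952950764574))) (.node (.leaf (nat_lit 0x4f5754580103010211010f010d)) (.leaf (nat_lit 261789145238174258513315339)))) (.node (.node (.leaf (nat_lit 281474976973068)) (.leaf (nat_lit 0x6563b1b6030100021401230125))) (.leaf (nat_lit 1573641)))))) (.node (.node (.node (.node (.node (.leaf (nat_lit 66560)) (.leaf (nat_lit 32036798690901867795125502997))) (.node (.leaf (nat_lit 281474977104144)) (.leaf (nat_lit 2622741)))) (.node (.node (.leaf (nat_lit 4687175444804866158837039623)) (.leaf (nat_lit 774468175265945496847889))) (.node (.leaf (nat_lit 1376520)) (.leaf (nat_lit 40139831762619479752160379174))))) (.node (.node (.node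 (.leaf (nat_lit 951509659598970346790912515)) (.leaf (nat_lit 0x94929084363a010500000c011d011b))) (.node (.leaf (nat_lit 100685612674784902810829327)) (.leaf (nat_lit 60915878436761808616662958110)))) (.node (.node (.leaf (nat_lit 721156)) (.leaf (nat_lit 2425364))) (.leaf (nat_lit 0x2f2d6b72040000020901170209))))) (.node (.node (.node (.node (.leaf (nat_lit 941800474110189256719860226)) (.leaf (nat_lit 17811623597661015057987535895))) (.node (.leaf (nat_lit 0x2321414a0301000206010d0111)) (.leaf (nat_lit 33975396263625027892764213801)))) (.node (.node (.leaf (nat_lit 281474976907529)) (.leaf (nat_lit 2228498))) (.node (.leaf (nat_lit 1508872)) (.leaf (nat_lit 8023725722719259493020991489))))) (.node (.node (.node (.leaf (nat_lit 2196703253802040595761595395)) (.leaf (nat_lit 19888775384617142413100450335))) (.node (.leaf (nat_lit 434457788484925719446290)) (.leaf (nat_lit 261822201803260776425390360)))) (.node (.node (.leaf (nat_lit 14583546114607523627843453961)) (.leaf (nat_lit 2491156))) (.leaf (nat_lit 281474977366297))))))))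

noncomputable def h4P : NT := (.node (.node (.node (.node (.node (.node (.leaf (nat_lit 0)) (.leaf (nat_lit 782))) (.leaf (nat_lit 774))) (.node (.node (.leaf (nat_lit 515)) (.leaf (nat_lit 2581))) (.leaf (nat_lit 1545)))) (.node (.node (.node (.leaf (nat_lit 3073)) (.leaf (nat_lit 788))) (.leaf (nat_lit 775))) (.node (.leaf (nat_lit 772)) (.leaf (nat_lit 3083))))) (.node (.node (.node (.node (.leaf (nat_lit 2560)) (.leaf (nat_lit 530))) (.leaf (nat_lit 1542))) (.node (.leaf (nat_lit 2563)) (.leaf (nat_lit 523)))) (.node (.node (.node (.leaf (nat_lit 770)) (.leaf (nat_lit 1556))) (.leaf (nat_lit 1032))) (.node (.leaf (nat_lit 1541)) (.leaf (nat_lit 1548)))))) (.node (.node (.node (.node (.node (.leaf (nat_lit 2048)) (.leaf (nat_lit 2574))) (.leaf (nat_lit 1030))) (.node (.node (.leaf (nat_lit 771)) (.leaf (nat_lit 2582))) (.leaf (nat_lit 778)))) (.node (.node (.node (.leaf (nat_lit 514)) (.leaf (nat_lit 1044))) (.leaf (nat_lit 520))) (.node (.leaf (nat_lit 1029)) (.leaf (nat_lit 780))))) (.node (.node (.node (.node (.leaf (nat_lit 3072)) (.leaf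 (nat_lit 1043))) (.leaf (nat_lit 519))) (.node (.leaf (nat_lit 516)) (.leaf (nat_lit 1035)))) (.node (.node (.node (.leaf (nat_lit 3074)) (.leaf (nat_lit 1557))) (.leaf (nat_lit 3080))) (.node (.leaf (nat_lit 2565)) (.leaf (nat_lit 1549)))))))

noncomputable def h4L : NT := (.leaf (nat_lit 0))

noncomputable def h4Fi : NT := (.leaf (nat_lit 0))

noncomputable def h4 : Cert := mkCert 8 255 h4F h4P h4L h4Fi 121 1

theorem h4_c0 : allR 0 121 (checkFact ((rels ++ [wA, wB, wH ++ [13]]) ++ trivRels 7) sD h4) = true := by decide +kernel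

theorem h4_c : CfsgH9.allLt h4.nfacts (checkFact ((rels ++ [wA, wB, wH ++ [13]]) ++ trivRels 7) sD h4) = true := by
  have h0 := h4_c0
  exact allLt_of_allR_zero h0

theorem h4_t : checkTgt h4 [240] [8] = true := by decide +kernel

noncomputable def h5F : NT := (.node (.node (.node (.node (.node (.node (.node (.node (.leaf (nat_lit 268435968)) (.leaf (nat_lit 0x33ab5f80200800280f00878082c))) (.node (.leaf (nat_lit 0x7f2489c9004000000416008200416)) (.leaf (nat_lit 471188519046092733087881627188)))) (.node (.node (.leaf (nat_lit 0xd8ec5402008002801008180804)) (.leaf (nat_lit 14680605))) (.node (.leaf (nat_lit 0x5e928a40001804120c00880020c)) (.leaf (nat_lit 0x7b6e55203000004a2b00874002b))))) (.node (.node (.node (.leaf (nat_lit 0xa8142803000001602008080602)) (.leaf (nat_lit 0x71c763002008002827008c40830))) (.node (.leaf (nat_lit 7078921)) (.leaf (nat_lit 0x86e71700300000502d00824002d)))) (.node (.node (.leaf (nat_lit 0x248dcb803000001808008380808)) (.leaf (nat_lit 17040932))) (.leaf (nat_lit 0x5d2ab2dbc0300800040e008900227))))) (.node (.node (.node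 (.node (.leaf (nat_lit 0x18341802008001400008040401)) (.leaf (nat_lit 12322320))) (.node (.leaf (nat_lit 172392831321798192609684096023)) (.leaf (nat_lit 0xa4e3a4c00018041229008ec0229)))) (.node (.node (.leaf (nat_lit 0x1793c9c020080014040082c040b)) (.leaf (nat_lit 18014398517349949))) (.node (.leaf (nat_lit 0x67a24bc03000002624008380a24)) (.leaf (nat_lit 0xa6f3d6803000003c22008280022))))) (.node (.node (.node (.leaf (nat_lit 1313282)) (.leaf (nat_lit 730191204271137610806069812))) (.node (.leaf (nat_lit 0x50128540f08038584b4f2715c0b00004341b0086c021e)) (.leaf (nat_lit 0x276b8a60300000520b00810000b)))) (.node (.node (.leaf (nat_lit 0x279b8840101004160400844060b)) (.leaf (nat_lit 17564200))) (.leaf (nat_lit 0x2fa6dd80200800280e008640829)))))) (.node (.node (.node (.node (.node (.leaf (nat_lit 140737756793344)) (.leaf (nat_lit 0x31c1cdc02008001206008b40211))) (.node (.leaf (nat_lit 0x803c4848401fd0c82248881c06028003201008200a13)) (.leaf (nat_lit 0x5d2dcdcb15030004010000a34009040038)))) (.node (.node (.leaf (nat_lit 18014398510268936)) (.leaf (nat_lit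 18014398517087803))) (.node (.leaf (nat_lit 0x299318c00018041223008300223)) (.leaf (nat_lit 0x156fc1603000004e04008000004))))) (.node (.node (.node (.leaf (nat_lit 0x118882401010042e010080c0603)) (.leaf (nat_lit 13107737))) (.node (.leaf (nat_lit 7604745)) (.leaf (nat_lit 0x9a67de603000003a35008a80035)))) (.node (.node (.leaf (nat_lit 18014398511055376)) (.leaf (nat_lit 0x129b2c8a3c01018040419009040232))) (.leaf (nat_lit 0x30b952802008001c08008a00818))))) (.node (.node (.node (.node (.leaf (nat_lit 0xa0300c01010041000008040802)) (.leaf (nat_lit 672162764929672106626518055))) (.node (.leaf (nat_lit 0xf446141212c00028000a18008600214)) (.leaf (nat_lit 503430570655233083085352864287)))) (.node (.node (.leaf (nat_lit 0x239506c01010041803008340807)) (.leaf (nat_lit 826905269840308288381258302))) (.node (.leaf (nat_lit 9964045)) (.leaf (nat_lit 582680493834232571997557100032))))) (.node (.node (.node (.leaf (nat_lit 0x440c040506400028002c05008140e03)) (.leaf (nat_lit 749534017384971746321107510))) (.node (.leaf (nat_lit 8130057)) (.leaf (nat_lit 0x316b49603000003a0f00824000f))))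 (.node (.node (.leaf (nat_lit 4981767)) (.leaf (nat_lit 0x53dde540300000401c00868001c))) (.leaf (nat_lit 594791512474298387321850411))))))) (.node (.node (.node (.node (.node (.node (.leaf (nat_lit 70369012614656)) (.leaf (nat_lit 0x59c0de80200800181a008b0022a))) (.node (.leaf (nat_lit 158770650473218369413279384599)) (.leaf (nat_lit 0xaedfa8c0300000483f008e8003f)))) (.node (.node (.leaf (nat_lit 159582930555719886274823686)) (.leaf (nat_lit 15207453))) (.node (.leaf (nat_lit 8915466)) (.leaf (nat_lit 0xa8dd6977604000004a1d00824001d))))) (.node (.node (.node (.leaf (nat_lit 82206964957694655170087427)) (.leaf (nat_lit 0x8ab564403000001230008c40e30))) (.node (.leaf (nat_lit 7341577)) (.leaf (nat_lit 512262982693319513222078532127)))) (.node (.node (.leaf (nat_lit 0x2598880010100418040083c0809)) (.leaf (nat_lit 0x6534ec002008000824008940441))) (.leaf (nat_lit 10487310))))) (.node (.node (.node (.node (.leaf (nat_lit 18014398509485570)) (.leaf (nat_lit 18014398514725424))) (.node (.leaf (nat_lit 6293000)) (.leaf (nat_lit 499685318466049052850557029931))))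 (.node (.node (.leaf (nat_lit 3408389)) (.leaf (nat_lit 0xa8ad18c00018041423008f40423))) (.node (.leaf (nat_lit 0x2bb4cf402008001607008940e14)) (.leaf (nat_lit 0x26f24000300000380a00800000a))))) (.node (.node (.node (.leaf (nat_lit 0xc88c60020080026020080c0805)) (.leaf (nat_lit 0x99a717800018041220008d40220))) (.node (.leaf (nat_lit 0x4d25a85600400000040a00878040a)) (.leaf (nat_lit 0xa96a70603000003a3d00884003d)))) (.node (.node (.leaf (nat_lit 0x398f0e400018041412008480412)) (.leaf (nat_lit 0x171b9ceed803008000428008d00242))) (.leaf (nat_lit 0x4ebc8c801010041809008a8081a)))))) (.node (.node (.node (.node (.node (.leaf (nat_lit 265728)) (.leaf (nat_lit 329925532310979285854384033325))) (.node (.leaf (nat_lit 172380742063583926366307877397)) (.leaf (nat_lit 0xa1e2a5003000003839008640039)))) (.node (.node (.leaf (nat_lit 18014398510531082)) (.leaf (nat_lit 0x5ad2d880200800220a008f00422))) (.node (.leaf (nat_lit 0x3cb28b001010041a07008900813)) (.leaf (nat_lit 0x1c6a7f2d5c04000004c3a00878003a))))) (.node (.node (.node (.leaf (nat_lit 101549778071563906337475588))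 (.leaf (nat_lit 0xb736c46540300800301a008bc0c33))) (.node (.leaf (nat_lit 7867401)) (.leaf (nat_lit 0x34c76d19c75605000004206008100006)))) (.node (.node (.leaf (nat_lit 0x26904d00300000180a00840080a)) (.leaf (nat_lit 0xb2daecc02008002241009080428))) (.leaf (nat_lit 10750990))))) (.node (.node (.node (.node (.leaf (nat_lit 0xa8002800018041202008080202)) (.leaf (nat_lit 12848151))) (.node (.leaf (nat_lit 6816265)) (.leaf (nat_lit 0x505de6a1c7487e6174505de69740b00800320b008b8001f)))) (.node (.node (.leaf (nat_lit 18014398510793230)) (.leaf (nat_lit 836576676397225459218385471))) (.node (.leaf (nat_lit 0x49b6d9802008001813008980224)) (.leaf (nat_lit 587924814039738882940297285120))))) (.node (.node (.node (.leaf (nat_lit 0xf8ec7402008002402008180406)) (.leaf (nat_lit 14420508))) (.node (.leaf (nat_lit 18014398511844896)) (.leaf (nat_lit 0x1b4aa6cd6a04000003e21008780021)))) (.node (.node (.leaf (nat_lit 5507591)) (.leaf (nat_lit 0x9e5e65e03000004a37008d00037))) (.leaf (nat_lit 11537423)))))))) (.node (.node (.node (.node (.node (.node (.node (.leaf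 (nat_lit 35184640525312)) (.leaf (nat_lit 0x32bf55802008002809008b0081e))) (.node (.leaf (nat_lit 6030344)) (.leaf (nat_lit 473521745877966874934788751914)))) (.node (.node (.leaf (nat_lit 0x3b1f8e84002010043002008180604)) (.leaf (nat_lit 18014398517084729))) (.node (.leaf (nat_lit 8652298)) (.leaf (nat_lit 547614391510508688357372202505))))) (.node (.node (.node (.leaf (nat_lit 788993)) (.leaf (nat_lit 0x8ab5e4002008001830008940231))) (.node (.leaf (nat_lit 195981387200956655479456007195)) (.leaf (nat_lit 0x87e7174030000038120082c0012)))) (.node (.node (.leaf (nat_lit 3932678)) (.leaf (nat_lit 851083786232179003009009217))) (.leaf (nat_lit 0x6fa08bc01010041a0e0085c0827))))) (.node (.node (.node (.node (.leaf (nat_lit 0x68300801010041600008040601)) (.leaf (nat_lit 0x35b0e2002008001c1000884082f))) (.node (.leaf (nat_lit 0x8747a312001018040417008540213)) (.leaf (nat_lit 0x1917de39e001018001829008ec002b)))) (.node (.node (.leaf (nat_lit 18014398510534156)) (.leaf (nat_lit 0xa8aca6400018041235008f40235))) (.node (.leaf (nat_lit 9700877)) (.leaf (nat_lit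 0x257240203000003a09008000009))))) (.node (.node (.node (.leaf (nat_lit 116056887906904340781599237)) (.leaf (nat_lit 18014398516301365))) (.node (.leaf (nat_lit 0xb151a713c0002004041a00878021a)) (.leaf (nat_lit 0x64ebc9803000003823008280023)))) (.node (.node (.leaf (nat_lit 18014398511058450)) (.leaf (nat_lit 0x1d8fc969d59ac671707548a46eb73974601c100703807060003602008d80243))) (.leaf (nat_lit 11010575)))))) (.node (.node (.node (.node (.node (.leaf (nat_lit 175922128882688)) (.leaf (nat_lit 18014398513417774))) (.node (.leaf (nat_lit 0x7944a00f803008002207008580015)) (.leaf (nat_lit 0xb4e228003000003832008740032)))) (.node (.node (.leaf (nat_lit 2359812)) (.leaf (nat_lit 15731230))) (.node (.leaf (nat_lit 9438221)) (.leaf (nat_lit 556930373876441043899982807083))))) (.node (.node (.node (.leaf (nat_lit 1051649)) (.leaf (nat_lit 13370906))) (.node (.leaf (nat_lit 406199084614415823749253661)) (.leaf (nat_lit 0x84e849403000003811008100011)))) (.node (.node (.leaf (nat_lit 0x348fc9803000001810008280810)) (.leaf (nat_lit 17304101))) (.leaf (nat_lit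 0x4cba5ac02008001814008a00225))))) (.node (.node (.node (.node (.leaf (nat_lit 0x601c2803000001001008080801)) (.leaf (nat_lit 0x8bb79dc00018042429008c00429))) (.node (.leaf (nat_lit 6556680)) (.leaf (nat_lit 503437824210132721277515598382)))) (.node (.node (.leaf (nat_lit 0x2a91868010100418050081c080d)) (.leaf (nat_lit 16517665))) (.node (.leaf (nat_lit 0x2cb64f802008002607008980815)) (.leaf (nat_lit 0x1d8e970fa604000005240008000040))))) (.node (.node (.node (.leaf (nat_lit 1575938)) (.leaf (nat_lit 0x51cbe6c0200800221b008d00436))) (.node (.leaf (nat_lit 0x25ae49c020080012040087c020b)) (.leaf (nat_lit 0x5d6c49603000003a1f00824001f)))) (.node (.node (.leaf (nat_lit 5244423)) (.leaf (nat_lit 0x965d95a03000004e2f00878002f))) (.leaf (nat_lit 0x33aa5ec0200800260f00874082b))))))) (.node (.node (.node (.node (.node (.node (.leaf (nat_lit 105553384704000)) (.leaf (nat_lit 11800079))) (.node (.leaf (nat_lit 0x49239e504030080004080084c0217)) (.leaf (nat_lit 481157321354653155995203144225)))) (.node (.node (.leaf (nat_lit 1835523)) (.leaf (nat_lit 0x667f5115002010002a09008b00a3a)))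 (.node (.leaf (nat_lit 18014398512107043)) (.leaf (nat_lit 0xa56f30e03000004a3c008e8003c))))) (.node (.node (.node (.leaf (nat_lit 0x888c44020080022010080c0403)) (.leaf (nat_lit 0x8dc963c03000001429008640e29))) (.node (.leaf (nat_lit 396527678057076577886537244)) (.leaf (nat_lit 0x60e7cc40300000380c00818000c)))) (.node (.node (.leaf (nat_lit 0x319287c0101004180600824080f)) (.leaf (nat_lit 0x68b96c002008002e24008a00a41))) (.leaf (nat_lit 551270182967749455847622184))))) (.node (.node (.node (.node (.leaf (nat_lit 24787819736968422611042700801)) (.leaf (nat_lit 0x71a1d268d248881c0e070381e0f0983c48484b26228000980436300089c0c30))) (.node (.leaf (nat_lit 357842051829408375576200728)) (.leaf (nat_lit 0x42aacb855651ec01028002c0f008b8003e)))) (.node (.node (.leaf (nat_lit 0x239507001010041203008340e07)) (.leaf (nat_lit 16255519))) (.node (.leaf (nat_lit 0x2cb4cf402008001c07008940814)) (.leaf (nat_lit 576776100131234795813481742370))))) (.node (.node (.node (.leaf (nat_lit 0xd8c44402008002601008140803)) (.leaf (nat_lit 14158363))) (.node (.leaf (nat_lit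 0x4fab5680300000241a008280c1a)) (.leaf (nat_lit 0x1deb45403000004c02008040002)))) (.node (.node (.leaf (nat_lit 0x39914a403000001612008300612)) (.leaf (nat_lit 0x11990c8dd771b9cd960b24e128969d95a766174b7371c00e030003627008cc0009))) (.leaf (nat_lit 11274767)))))) (.node (.node (.node (.node (.node (.leaf (nat_lit 649947544298452049857861648897)) (.leaf (nat_lit 0x85988e400018041212008b80212))) (.node (.leaf (nat_lit 172385577766862455251750880277)) (.leaf (nat_lit 491005231081215591926751035929)))) (.node (.node (.leaf (nat_lit 2887172)) (.leaf (nat_lit 0x1007e3e29403008002a1e008ac0c3c))) (.node (.leaf (nat_lit 0x659e0b401010041a0d0084c0824)) (.leaf (nat_lit 564377356925267160784409460796))))) (.node (.node (.node (.leaf (nat_lit 0x88ac5402008002401008100404)) (.leaf (nat_lit 13634074))) (.node (.leaf (nat_lit 415870491171368041518992414)) (.leaf (nat_lit 524685904415679652421914591244)))) (.node (.node (.leaf (nat_lit 4460038)) (.leaf (nat_lit 0x6cda9a401010042e0d009080626))) (.leaf (nat_lit 570612996082040919480077353))))) (.node (.node (.node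 (.node (.leaf (nat_lit 0xa8082800018041402008080402)) (.leaf (nat_lit 0x41c753402008002408008c40419))) (.node (.leaf (nat_lit 0x4b4e9285c0201004040400824041a)) (.leaf (nat_lit 0x5f67616030000052200083c0020)))) (.node (.node (.leaf (nat_lit 0x2e8d4900300000180e00820080e)) (.leaf (nat_lit 16780834))) (.leaf (nat_lit 10224654)))) (.node (.node (.node (.leaf (nat_lit 0xc8ac7402008002802008100806)) (.leaf (nat_lit 0x9eaa14c01010042e1c008740637))) (.node (.leaf (nat_lit 233177616818859741848677649951)) (.leaf (nat_lit 0x1b60b6d82a04000005201008000001)))) (.node (.node (.leaf (nat_lit 18014398511579670)) (.leaf (nat_lit 0x815ea260300000462c00884002c))) (.leaf (nat_lit 609298622309709121790413868)))))))))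

noncomputable def h5P : NT := (.node (.node (.node (.node (.node (.node (.node (.leaf (nat_lit 0)) (.leaf (nat_lit 7202))) (.leaf (nat_lit 7689))) (.node (.leaf (nat_lit 1542)) (.leaf (nat_lit 1556)))) (.node (.node (.leaf (nat_lit 1539)) (.leaf (nat_lit 3086))) (.node (.leaf (nat_lit 3080)) (.leaf (nat_lit 1053))))) (.node (.node (.node (.leaf (nat_lit 6145)) (.leaf (nat_lit 2061))) (.node (.leaf (nat_lit 3079)) (.leaf (nat_lit 5146)))) (.node (.node (.leaf (nat_lit 7684)) (.leaf (nat_lit 6159))) (.node (.leaf (nat_lit 3081)) (.leaf (nat_lit 5150)))))) (.node (.node (.node (.node (.node (.leaf (nat_lit 7680)) (.leaf (nat_lit 5157))) (.leaf (nat_lit 5130))) (.node (.leaf (nat_lit 7686)) (.leaf (nat_lit 1049)))) (.node (.node (.leaf (nat_lit 1540)) (.leaf (nat_lit 1039))) (.node (.leaf (nat_lit 1033)) (.leaf (nat_lit 6173))))) (.node (.node (.node (.leaf (nat_lit 6146)) (.leaf (nat_lit 5133))) (.node (.leaf (nat_lit 1544)) (.leaf (nat_lit 5147)))) (.node (.node (.leaf (nat_lit 1541)) (.leaf (nat_lit 7695))) (.node (.leaf (nat_lit 6153)) (.leaf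 (nat_lit 5151))))))) (.node (.node (.node (.node (.node (.node (.leaf (nat_lit 7168)) (.leaf (nat_lit 3108))) (.leaf (nat_lit 3082))) (.node (.leaf (nat_lit 7174)) (.leaf (nat_lit 6167)))) (.node (.node (.leaf (nat_lit 1028)) (.leaf (nat_lit 6158))) (.node (.leaf (nat_lit 6152)) (.leaf (nat_lit 1565))))) (.node (.node (.node (.leaf (nat_lit 5122)) (.leaf (nat_lit 3085))) (.node (.leaf (nat_lit 5127)) (.leaf (nat_lit 7706)))) (.node (.node (.leaf (nat_lit 1029)) (.leaf (nat_lit 7183))) (.node (.leaf (nat_lit 5129)) (.leaf (nat_lit 7710)))))) (.node (.node (.node (.node (.node (.leaf (nat_lit 5121)) (.leaf (nat_lit 1064))) (.leaf (nat_lit 7690))) (.node (.leaf (nat_lit 2055)) (.leaf (nat_lit 3098)))) (.node (.node (.leaf (nat_lit 7172)) (.leaf (nat_lit 5135))) (.node (.leaf (nat_lit 2057)) (.leaf (nat_lit 7709))))) (.node (.node (.node (.leaf (nat_lit 1027)) (.leaf (nat_lit 2062))) (.node (.leaf (nat_lit 2056)) (.leaf (nat_lit 5148)))) (.node (.node (.leaf (nat_lit 1030)) (.leaf (nat_lit 3088))) (.node (.leaf (nat_lit 7177)) (.leaf (nat_lit 5153))))))))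

noncomputable def h5L : NT := (.leaf (nat_lit 0))

noncomputable def h5Fi : NT := (.leaf (nat_lit 0))

noncomputable def h5 : Cert := mkCert 9 511 h5F h5P h5L h5Fi 239 1

theorem h5_c0 : allR 0 239 (checkFact ((rels ++ [wA, wB, wH ++ [9, 13]]) ++ trivRels 7) sC h5) = true := by decide +kernel

theorem h5_c : CfsgH9.allLt h5.nfacts (checkFact ((rels ++ [wA, wB, wH ++ [9, 13]]) ++ trivRels 7) sC h5) = true := by
  have h0 := h5_c0
  exact allLt_of_allR_zero h0

theorem h5_t : checkTgt h5 [476] [14] = true := by decide +kernel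

noncomputable def h6F : NT := (.node (.node (.node (.node (.node (.node (.node (.node (.leaf (nat_lit 268435968)) (.leaf (nat_lit 0x7abf1cc03000003c24008680024))) (.leaf (nat_lit 304649315766364623169390099))) (.node (.leaf (nat_lit 2361859)) (.leaf (nat_lit 0x5e980bc01010042e0e0083c061e)))) (.node (.node (.node (.leaf (nat_lit 72535558400777621772438020)) (.leaf (nat_lit 336170847808252837297492590602))) (.leaf (nat_lit 0x26a6cc402008002806008600810))) (.node (.leaf (nat_lit 3934726)) (.leaf (nat_lit 0xa46c3714c03008002a19008740c15))))) (.node (.node (.node (.node (.leaf (nat_lit 526848)) (.leaf (nat_lit 0x2d4142a03000003e0d00808000d))) (.leaf (nat_lit 0x469689c01010041a0a008340816))) (.node (.leaf (nat_lit 18014398510531083)) (.leaf (nat_lit 8914448)))) (.node (.node (.node (.leaf (nat_lit 0x29168a01c02010043001008140603)) (.leaf (nat_lit 373879661973672068352755894272))) (.leaf (nat_lit 7080972))) (.node (.leaf (nat_lit 0x100424363419cdc6a1b84000060280032000081c0a0d)) (.leaf (nat_lit 0x77b4d580200800181300888021a)))))) (.node (.node (.node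 (.node (.node (.leaf (nat_lit 14507119058993877690091521)) (.leaf (nat_lit 0x683fc9203000004222008240022))) (.leaf (nat_lit 0x4b439284402010040404008280415))) (.node (.leaf (nat_lit 0x1f9006401010042e05008240608)) (.leaf (nat_lit 8391695)))) (.node (.node (.node (.leaf (nat_lit 1313793)) (.leaf (nat_lit 0x6dc543803000003c230080c0023))) (.leaf (nat_lit 6817291))) (.node (.leaf (nat_lit 0x671b8546c040000004110081c0411)) (.leaf (nat_lit 0x73af95401010041a1a008780821))))) (.node (.node (.node (.node (.leaf (nat_lit 789504)) (.leaf (nat_lit 0x10a6a4248e04000004e14008100014))) (.leaf (nat_lit 0x26a54b802008001c060085c080e))) (.node (.leaf (nat_lit 0x352b8d0280201004040200818040c)) (.leaf (nat_lit 517420260018997510671961123)))) (.node (.node (.leaf (nat_lit 2100226)) (.leaf (nat_lit 0x389fd6802008002e0d0084c0a1c))) (.node (.leaf (nat_lit 145092868463242586591267128335)) (.leaf (nat_lit 302652165820473076094747018277))))))) (.node (.node (.node (.node (.node (.node (.leaf (nat_lit 70369012614656)) (.leaf (nat_lit 0x31bfc7003000004c06008080006))) (.leaf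 (nat_lit 5243400))) (.node (.leaf (nat_lit 0x178fc8002008002603008200809)) (.leaf (nat_lit 0x6350b08b8020100430060087c0618)))) (.node (.node (.node (.leaf (nat_lit 0x48443c02008002601008080804)) (.leaf (nat_lit 341127443668672817188665557006))) (.leaf (nat_lit 0x35a88a801010041a07008640812))) (.node (.leaf (nat_lit 236949469868402717503261712)) (.leaf (nat_lit 0x5da65c40200800181d0085c021b))))) (.node (.node (.node (.node (.leaf (nat_lit 0x18442002008002200008080402)) (.leaf (nat_lit 0x65c1c80030000048200080c0020))) (.leaf (nat_lit 6030858))) (.node (.leaf (nat_lit 0x1b89ca0030000018070082c0807)) (.leaf (nat_lit 0x6526a55a0030080030100085c0c22)))) (.node (.node (.leaf (nat_lit 1573378)) (.leaf (nat_lit 7341581))) (.node (.leaf (nat_lit 0x5b389a0c00300800220600844000f)) (.leaf (nat_lit 0x8579a107402010040408008500424)))))) (.node (.node (.node (.node (.node (.leaf (nat_lit 0x181c0c02008001a00008040401)) (.leaf (nat_lit 0x1bc106803000003807008080007))) (.leaf (nat_lit 5768202))) (.node (.leaf (nat_lit 0x1a9284c01010041802008280806)) (.leaf (nat_lit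 488406040348212188183267864)))) (.node (.node (.node (.leaf (nat_lit 0x486450020080028010080c0805)) (.leaf (nat_lit 0x250dc958463e05000004a03008000003))) (.leaf (nat_lit 0x2aaa4fc02008001c07008680813))) (.node (.leaf (nat_lit 129002061091027740546593719314)) (.leaf (nat_lit 0x4baf5d003000002617008840a17))))) (.node (.node (.node (.node (.leaf (nat_lit 0x186430020080024000080c0403)) (.leaf (nat_lit 0x1188146c4204000004a04008040004))) (.leaf (nat_lit 372349161665241459949308952))) (.node (.leaf (nat_lit 3671558)) (.leaf (nat_lit 0x6c9bcfa771b840000000000020102804243640209740009804361d0088c0a1d)))) (.node (.node (.leaf (nat_lit 0x8150e02002010002a00008140a08)) (.leaf (nat_lit 7866894))) (.node (.leaf (nat_lit 0x6f3c9d8f4010180404120083c020d)) (.leaf (nat_lit 0x1e2fb7cbc9cc0400800041a008500021)))))))) (.node (.node (.node (.node (.node (.node (.node (.leaf (nat_lit 35184640525312)) (.leaf (nat_lit 312531512331526217579136813591))) (.leaf (nat_lit 0xb8340b0d90000028000a130084c020e))) (.node (.leaf (nat_lit 0xe9048002008002203008240409)) (.leaf (nat_lit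 8129550)))) (.node (.node (.node (.leaf (nat_lit 0x687c3c02008002201008100404)) (.leaf (nat_lit 0x434841603000003a15008040015))) (.leaf (nat_lit 6554635))) (.node (.leaf (nat_lit 4197382)) (.leaf (nat_lit 0x45ac5c0020080028150086c081d))))) (.node (.node (.node (.node (.leaf (nat_lit 38685635451567936160926210)) (.leaf (nat_lit 0x2e4142e0300000420e00808000e))) (.leaf (nat_lit 0x299cd200300000260b008580a0b))) (.node (.leaf (nat_lit 0x288946c0300000180b0081c080b)) (.leaf (nat_lit 0x4fb458802008001c1800888081f)))) (.node (.node (.leaf (nat_lit 116061601049593167265662469)) (.leaf (nat_lit 0x2c98d600200800240c00840041b))) (.node (.leaf (nat_lit 270799392817577631061117447)) (.leaf (nat_lit 9437716)))))) (.node (.node (.node (.node (.node (.leaf (nat_lit 642505396952904498211486695937)) (.leaf (nat_lit 0x57c01e403000003817008500017))) (.leaf (nat_lit 0x439589c0101004180a008300815))) (.node (.leaf (nat_lit 2621956)) (.leaf (nat_lit 0x4e4e320c002010002a06008600a20)))) (.node (.node (.node (.leaf (nat_lit 96714074793105389638650885)) (.leaf (nat_lit 346098546638928173385849503773)))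 (.leaf (nat_lit 0x299fd5002008001c0b0084c081a))) (.node (.leaf (nat_lit 4719623)) (.leaf (nat_lit 0x67ba54002008001810008780218))))) (.node (.node (.node (.node (.leaf (nat_lit 58028448565437187328314371)) (.leaf (nat_lit 331209416244554400057852428311))) (.leaf (nat_lit 6294538))) (.node (.leaf (nat_lit 3408902)) (.leaf (nat_lit 0x3db25ac02008002412008800423)))) (.node (.node (.leaf (nat_lit 0xa8e47002008002402008200408)) (.leaf (nat_lit 18014398513152541))) (.node (.leaf (nat_lit 145100122018178323949199033362)) (.leaf (nat_lit 0x2c158c8cf732b9a8f6420e06a07020043406008940222))))))) (.node (.node (.node (.node (.node (.node (.leaf (nat_lit 264192)) (.leaf (nat_lit 0x4fbfc8803000004418008240018))) (.leaf (nat_lit 5505546))) (.node (.leaf (nat_lit 0x2c140808003008002a03008100c09)) (.leaf (nat_lit 473903643655525189690590751)))) (.node (.node (.node (.leaf (nat_lit 0x387c2002008002600008100802)) (.leaf (nat_lit 0x1165dc940004000003809008000009))) (.leaf (nat_lit 0x51a39240101004220b008540a19))) (.node (.leaf (nat_lit 18014398511317521)) (.leaf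 (nat_lit 0xe557b39640201004041b00884041a))))) (.node (.node (.node (.node (.leaf (nat_lit 0x88400801010042e00008080602)) (.leaf (nat_lit 0x6fc1c8403000003c1d00824001d))) (.leaf (nat_lit 0x279752802008001c0a008380817))) (.node (.leaf (nat_lit 3146246)) (.leaf (nat_lit 9178130)))) (.node (.node (.leaf (nat_lit 18014398510006791)) (.leaf (nat_lit 0x2d175680200800080d00838041c))) (.node (.leaf (nat_lit 145088032759964057705824125455)) (.leaf (nat_lit 9700372)))))) (.node (.node (.node (.node (.node (.leaf (nat_lit 0x38180801010041c00008040601)) (.leaf (nat_lit 0x264144e0300000460a00810000a))) (.leaf (nat_lit 168698349303893704333405193238))) (.node (.leaf (nat_lit 0x258d0480101004180400818080a)) (.leaf (nat_lit 8651280)))) (.node (.node (.node (.leaf (nat_lit 0x38a43002008002800008140803)) (.leaf (nat_lit 0x244e19586a5a05000004c01008000001))) (.leaf (nat_lit 0x41ab5300200800180e008680217))) (.node (.leaf (nat_lit 0x371a96cd403008000407008340212)) (.leaf (nat_lit 0x1d4c63f1d98002018000a1e0087c0213))))) (.node (.node (.node (.node (.leaf (nat_lit 1051137))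 (.leaf (nat_lit 0x11038c342004000004802008000002))) (.leaf (nat_lit 0x2798d340200800280a008400818))) (.node (.leaf (nat_lit 222442360032569770569631246)) (.leaf (nat_lit 0x66b69b80001804221d00860041d)))) (.node (.node (.leaf (nat_lit 145071107577655853292980741)) (.leaf (nat_lit 0x5baf5700200800221c008780413))) (.node (.leaf (nat_lit 4982279)) (.leaf (nat_lit 0x67bf50803000003810008200010)))))))))

noncomputable def h6P : NT := (.node (.node (.node (.node (.node (.node (.leaf (nat_lit 0)) (.leaf (nat_lit 6159))) (.leaf (nat_lit 6150))) (.node (.leaf (nat_lit 6146)) (.leaf (nat_lit 6154)))) (.node (.node (.node (.leaf (nat_lit 5121)) (.leaf (nat_lit 1044))) (.leaf (nat_lit 1032))) (.node (.leaf (nat_lit 1030)) (.leaf (nat_lit 3085))))) (.node (.node (.node (.node (.leaf (nat_lit 5120)) (.leaf (nat_lit 3088))) (.leaf (nat_lit 2055))) (.node (.leaf (nat_lit 1028)) (.leaf (nat_lit 3083)))) (.node (.node (.leaf (nat_lit 1026)) (.leaf (nat_lit 2058))) (.node (.leaf (nat_lit 3078)) (.leaf (nat_lit 5134)))))) (.node (.node (.node (.node (.node (.leaf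 (nat_lit 4096)) (.leaf (nat_lit 1040))) (.leaf (nat_lit 1543))) (.node (.leaf (nat_lit 5123)) (.leaf (nat_lit 2059)))) (.node (.node (.node (.leaf (nat_lit 6145)) (.leaf (nat_lit 2068))) (.leaf (nat_lit 1034))) (.node (.leaf (nat_lit 2054)) (.leaf (nat_lit 1550))))) (.node (.node (.node (.node (.leaf (nat_lit 6144)) (.leaf (nat_lit 6162))) (.leaf (nat_lit 3079))) (.node (.leaf (nat_lit 1540)) (.leaf (nat_lit 6156)))) (.node (.node (.leaf (nat_lit 1538)) (.leaf (nat_lit 3082))) (.node (.leaf (nat_lit 5126)) (.leaf (nat_lit 6158)))))))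

noncomputable def h6L : NT := (.leaf (nat_lit 0))

noncomputable def h6Fi : NT := (.leaf (nat_lit 0))

noncomputable def h6 : Cert := mkCert 9 511 h6F h6P h6L h6Fi 153 1

theorem h6_c0 : allR 0 153 (checkFact ((rels ++ [wA, wB, wH ++ [13, 11]]) ++ trivRels 7) sD h6) = true := by decide +kernel

theorem h6_c : CfsgH9.allLt h6.nfacts (checkFact ((rels ++ [wA, wB, wH ++ [13, 11]]) ++ trivRels 7) sD h6) = true := by
  have h0 := h6_c0
  exact allLt_of_allR_zero h0

theorem h6_t : checkTgt h6 [304] [8] = true := by decide +kernel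

noncomputable def h7F : NT := (.node (.node (.node (.node (.node (.node (.node (.node (.leaf (nat_lit 268435968)) (.leaf (nat_lit 11797014))) (.leaf (nat_lit 5243400))) (.node (.node (.leaf (nat_lit 149906810856149623083633668)) (.leaf (nat_lit 0x8ccdc7803000004431008200031))) (.leaf (nat_lit 0x3fafd440200800180e00878021a)))) (.node (.node (.node (.leaf (nat_lit 0x68743802008002201008100404)) (.leaf (nat_lit 355794131712237006991945892384))) (.leaf (nat_lit 0x2395d3c02008001c0a00838081a))) (.node (.leaf (nat_lit 18014398511317521)) (.leaf (nat_lit 9699856))))) (.node (.node (.node (.node (.leaf (nat_lit 526848)) (.leaf (nat_lit 12583959))) (.leaf (nat_lit 0x27a30880101004180600860080c))) (.node (.node (.leaf (nat_lit 0x2d278b0280201004040200818040c)) (.leaf (nat_lit 0x14e375342604000004a02008000002))) (.leaf (nat_lit 18014398513152546)))) (.node (.node (.node (.leaf (nat_lit 2100226)) (.leaf (nat_lit 0x80cbcfc03000003816008380016))) (.leaf (nat_lit 0x22ab4b802008002806008700810))) (.node (.leaf (nat_lit 0x5335988b40300800220600844000f)) (.leaf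 (nat_lit 10748435)))))) (.node (.node (.node (.node (.node (.leaf (nat_lit 14507119058993877690091521)) (.leaf (nat_lit 0x79c110c01010041a14008b8082a))) (.leaf (nat_lit 18014398511841815))) (.node (.node (.leaf (nat_lit 18014398510531083)) (.leaf (nat_lit 403121159698511001198879834125))) (.leaf (nat_lit 0x289758c0200800240c008400420)))) (.node (.node (.node (.leaf (nat_lit 91878371514646872939826181)) (.leaf (nat_lit 364534665388068825920276267539))) (.leaf (nat_lit 0x3ca9d300200800180d0086c0219))) (.node (.leaf (nat_lit 0x2f1694cc803008000407008340212)) (.leaf (nat_lit 10225170))))) (.node (.node (.node (.node (.leaf (nat_lit 789504)) (.leaf (nat_lit 0x49b1e2c02008002818008800831))) (.leaf (nat_lit 0x29a508801010041a0600864080d))) (.node (.node (.leaf (nat_lit 207935250197194220473157134)) (.leaf (nat_lit 423397263545087279348720863232))) (.leaf (nat_lit 0x69968b001010042e0e0083c0623)))) (.node (.node (.node (.leaf (nat_lit 2361859)) (.leaf (nat_lit 0x134824c58a04000003e270087c0027))) (.leaf (nat_lit 0x59a59380101004220b008600a1d))) (.node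 (.leaf (nat_lit 0x693a9c8ec010180404120083c020d)) (.leaf (nat_lit 11535381))))))) (.node (.node (.node (.node (.node (.node (.leaf (nat_lit 70369012614656)) (.leaf (nat_lit 12059670))) (.leaf (nat_lit 5767689))) (.node (.node (.leaf (nat_lit 0x169084801010041802008280806)) (.leaf (nat_lit 0x65cecf40300000400d0081c000d))) (.leaf (nat_lit 0x2830cac020080008060087c040e)))) (.node (.node (.node (.leaf (nat_lit 0x38742002008002600008100802)) (.leaf (nat_lit 359544219604699636480929956368))) (.leaf (nat_lit 7080458))) (.node (.leaf (nat_lit 4719623)) (.leaf (nat_lit 546434479689291076588275238))))) (.node (.node (.node (.node (.leaf (nat_lit 0x18442002008002200008080402)) (.leaf (nat_lit 0x7cc411401010041a15008c0082c))) (.leaf (nat_lit 6554634))) (.node (.node (.leaf (nat_lit 99233471708837111679908054029)) (.leaf (nat_lit 0x4854c0e03000004618008040018))) (.leaf (nat_lit 0x66b4d9c020080022210088c0413)))) (.node (.node (.node (.leaf (nat_lit 0x8140c02002010002a00008140a08)) (.leaf (nat_lit 0x83cbdd403000003c2e0089c002e))) (.leaf (nat_lit 0x4921a55640300800040b00864021d)))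 (.node (.leaf (nat_lit 140126601196265689941574157327)) (.leaf (nat_lit 18014398514987563)))))) (.node (.node (.node (.node (.node (.leaf (nat_lit 0x181c0c02008001a00008040401)) (.leaf (nat_lit 0x7aa2e140300000182b008bc082b))) (.leaf (nat_lit 6291978))) (.node (.node (.leaf (nat_lit 0x1789490030000018070082c0807)) (.leaf (nat_lit 395703190869355636514162737164))) (.leaf (nat_lit 0x2915d940200800080d008380421)))) (.node (.node (.node (.leaf (nat_lit 1573378)) (.leaf (nat_lit 0x8a4adce03000004630008980030))) (.leaf (nat_lit 7343114))) (.node (.leaf (nat_lit 256292282982202080964643335)) (.leaf (nat_lit 10488850))))) (.node (.node (.node (.node (.leaf (nat_lit 1051137)) (.leaf (nat_lit 0x11b77add6aa955924380a05028140b0583c161e242f18014000003631008680231))) (.leaf (nat_lit 0x259b5340300000260b008640a0b))) (.node (.leaf (nat_lit 4197382)) (.leaf (nat_lit 527091666575914269190655012)))) (.node (.node (.node (.leaf (nat_lit 0x158e46c02008002605008240808)) (.leaf (nat_lit 0x6bcccac0300000400f00818000f))) (.leaf (nat_lit 449720414120120399013086750)))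 (.node (.leaf (nat_lit 294977909209447589771740691)) (.leaf (nat_lit 0x8340bcdf003008000415008a8022c)))))))) (.node (.node (.node (.node (.node (.node (.node (.leaf (nat_lit 35184640525312)) (.leaf (nat_lit 0x8580a10740201004040900858042d))) (.leaf (nat_lit 18014398511579669))) (.node (.node (.leaf (nat_lit 2621956)) (.leaf (nat_lit 0xe99cb0a7e04000004012008100012))) (.leaf (nat_lit 8128012)))) (.node (.node (.node (.leaf (nat_lit 0x48443802008002601008080804)) (.leaf (nat_lit 0x2427f6ab8190030100004200088c0025))) (.leaf (nat_lit 0x22a7cac02008001c0600868080e))) (.node (.leaf (nat_lit 0x61178545c040000004110081c0411)) (.leaf (nat_lit 9963024))))) (.node (.node (.node (.node (.leaf (nat_lit 38685635451567936160926210)) (.leaf (nat_lit 0x10f85c460c0300800042e008c0022d))) (.leaf (nat_lit 0x469388c0101004180a008300818))) (.node (.node (.leaf (nat_lit 3408902)) (.leaf (nat_lit 413048858529186335912846426124))) (.leaf (nat_lit 9177614)))) (.node (.node (.node (.leaf (nat_lit 0xa8c46002008002402008200408)) (.leaf (nat_lit 0xd49740e6204000003e23008380023)))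 (.leaf (nat_lit 7603211))) (.node (.leaf (nat_lit 140121765492987161056131154447)) (.leaf (nat_lit 11011092)))))) (.node (.node (.node (.node (.node (.leaf (nat_lit 642505396952904498211486695937)) (.leaf (nat_lit 18014398515511855))) (.leaf (nat_lit 0x418f510030000018150085c0815))) (.node (.node (.leaf (nat_lit 0x2488c5c0300000180b0081c080b)) (.leaf (nat_lit 0x1483ccf45804000003804008080004))) (.leaf (nat_lit 8652301)))) (.node (.node (.node (.leaf (nat_lit 0x48644c020080028010080c0805)) (.leaf (nat_lit 0xd43f371faf2400c05a502717a4a0304800342300890002c))) (.leaf (nat_lit 0x399354c0200800180f0082c021b))) (.node (.leaf (nat_lit 0x1004242e31184d0641784000060280032000081c0a0d)) (.leaf (nat_lit 0x321edd0020080008120084c0427))))) (.node (.node (.node (.node (.leaf (nat_lit 0x186430020080024000080c0403)) (.leaf (nat_lit 0xb6774597002010002a1d008a00a31))) (.leaf (nat_lit 0x4a9488c01010041a0a008340819))) (.node (.leaf (nat_lit 3934726)) (.leaf (nat_lit 9440270)))) (.node (.node (.node (.leaf (nat_lit 0xd8e47002008002203008240409)) (.leaf (nat_lit 0x66cc9a803000003c210084c0021)))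 (.leaf (nat_lit 7865867))) (.node (.leaf (nat_lit 4982279)) (.leaf (nat_lit 305132881602322295229965403180))))))) (.node (.node (.node (.node (.node (.node (.leaf (nat_lit 264192)) (.leaf (nat_lit 320017176293417609697667843118))) (.leaf (nat_lit 0x40a107801010041808008580814))) (.node (.node (.leaf (nat_lit 0x218b0440101004180400818080a)) (.leaf (nat_lit 0x729e93e7e04000003a07008100007))) (.leaf (nat_lit 8391692)))) (.node (.node (.node (.leaf (nat_lit 1313793)) (.leaf (nat_lit 0x491c8f03d1c9b002020000a23008980029))) (.leaf (nat_lit 0x22a94b4020080026060086c080f))) (.node (.leaf (nat_lit 121559913745480083347102499858)) (.leaf (nat_lit 0x57b8dbc02008001c1c008980824))))) (.node (.node (.node (.node (.leaf (nat_lit 0x88400801010042e00008080602)) (.leaf (nat_lit 12848152))) (.leaf (nat_lit 176145332352719820049596023833))) (.node (.node (.leaf (nat_lit 3671558)) (.leaf (nat_lit 0x2a917a08c2a205000004c01008000001))) (.leaf (nat_lit 0x2db48ac01010042e060088c060f)))) (.node (.node (.node (.leaf (nat_lit 125728294463821786497681925)) (.leaf (nat_lit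 0x90cc10803000003820008240020))) (.leaf (nat_lit 0x32ac89801010041a07008740812))) (.node (.leaf (nat_lit 140133854751201427299506062354)) (.leaf (nat_lit 0xf5418cd040400000042b00854042b)))))) (.node (.node (.node (.node (.node (.leaf (nat_lit 0x38180801010041c00008040601)) (.leaf (nat_lit 0x7fc36100200800182a008bc022e))) (.leaf (nat_lit 0x43469084002010040404008280418))) (.node (.node (.leaf (nat_lit 3146246)) (.leaf (nat_lit 400654951026497158026076094482))) (.leaf (nat_lit 0x359ed9402008002e0d0084c0a21)))) (.node (.node (.node (.leaf (nat_lit 18014398510006791)) (.leaf (nat_lit 0x89cb6500300000382d0084c002d))) (.leaf (nat_lit 0x23975580200800280a00840081c))) (.node (.leaf (nat_lit 0x2a990d40101004220d008480a0c)) (.leaf (nat_lit 570612996082041194359032872))))) (.node (.node (.node (.node (.leaf (nat_lit 67699855122319105073613316)) (.leaf (nat_lit 0x11d50b423003008001831008880020))) (.leaf (nat_lit 6817290))) (.node (.leaf (nat_lit 222442360033027167406787600)) (.leaf (nat_lit 0x5d58b68ac0201004300600890061c)))) (.node (.node (.node (.leaf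 (nat_lit 0x2a130787003008002a03008100c09)) (.leaf (nat_lit 0x63cdc8003000004c0c00810000c))) (.leaf (nat_lit 0x26aecf402008001c07008780813))) (.node (.leaf (nat_lit 0xac2c0b0b8f800028000a130084c020e)) (.leaf (nat_lit 0xfd7bbd1f40101804042c008ac022a)))))))))

noncomputable def h7P : NT := (.node (.node (.node (.node (.node (.node (.leaf (nat_lit 0)) (.leaf (nat_lit 6156))) (.node (.leaf (nat_lit 6150)) (.leaf (nat_lit 2071)))) (.node (.node (.leaf (nat_lit 6146)) (.leaf (nat_lit 6162))) (.leaf (nat_lit 1034)))) (.node (.node (.node (.leaf (nat_lit 5121)) (.leaf (nat_lit 6158))) (.leaf (nat_lit 1032))) (.node (.node (.leaf (nat_lit 1030)) (.leaf (nat_lit 2069))) (.leaf (nat_lit 6154))))) (.node (.node (.node (.node (.leaf (nat_lit 5120)) (.leaf (nat_lit 1550))) (.leaf (nat_lit 2055))) (.node (.node (.leaf (nat_lit 1028)) (.leaf (nat_lit 2068))) (.leaf (nat_lit 3082)))) (.node (.node (.node (.leaf (nat_lit 1026)) (.leaf (nat_lit 3088))) (.leaf (nat_lit 1033))) (.node (.node (.leaf (nat_lit 3078)) (.leaf (nat_lit 2070))) (.leaf (nat_lit 3083))))))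 (.node (.node (.node (.node (.node (.leaf (nat_lit 4096)) (.leaf (nat_lit 3085))) (.node (.leaf (nat_lit 1543)) (.leaf (nat_lit 6168)))) (.node (.node (.leaf (nat_lit 5123)) (.leaf (nat_lit 1043))) (.leaf (nat_lit 2058)))) (.node (.node (.node (.leaf (nat_lit 6145)) (.leaf (nat_lit 1040))) (.leaf (nat_lit 1544))) (.node (.node (.leaf (nat_lit 2054)) (.leaf (nat_lit 1046))) (.leaf (nat_lit 2059))))) (.node (.node (.node (.node (.leaf (nat_lit 6144)) (.leaf (nat_lit 5134))) (.leaf (nat_lit 3079))) (.node (.node (.leaf (nat_lit 1540)) (.leaf (nat_lit 1557))) (.leaf (nat_lit 5130)))) (.node (.node (.node (.leaf (nat_lit 1538)) (.leaf (nat_lit 3090))) (.leaf (nat_lit 1545))) (.node (.node (.leaf (nat_lit 5126)) (.leaf (nat_lit 1559))) (.leaf (nat_lit 3084)))))))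

noncomputable def h7L : NT := (.leaf (nat_lit 0))

noncomputable def h7Fi : NT := (.leaf (nat_lit 0))

noncomputable def h7 : Cert := mkCert 9 511 h7F h7P h7L h7Fi 173 1

theorem h7_c0 : allR 0 173 (checkFact ((rels ++ [wA, wB, wH ++ [9, 13, 11]]) ++ trivRels 7) sD h7) = true := by decide +kernel

theorem h7_c : CfsgH9.allLt h7.nfacts (checkFact ((rels ++ [wA, wB, wH ++ [9, 13, 11]]) ++ trivRels 7) sD h7) = true := by
  have h0 := h7_c0
  exact allLt_of_allR_zero h0

theorem h7_t : checkTgt h7 [344] [8] = true := by decide +kernel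

noncomputable def cNF : NT := (.node (.node (.node (.node (.node (.node (.node (.node (.node (.node (.leaf (nat_lit 17179877376)) (.leaf (nat_lit 0x60ac11ff0010040040889f00225c02897))) (.leaf (nat_lit 0x3fa3b4fe0030000000606300218c02063))) (.node (.node (.leaf (nat_lit 0x1fe3f85b001004004088220020bc0282f)) (.leaf (nat_lit 1065363637))) (.leaf (nat_lit 662702162)))) (.node (.node (.node (.leaf (nat_lit 96473091)) (.leaf (nat_lit 0xdd23f001002000008900022e4010e4))) (.leaf (nat_lit 0x24926e5513e000008004010800021cc00880))) (.node (.leaf (nat_lit 0x2ee5e87d0010040040502d00211403844)) (.leaf (nat_lit 0xdf9bd0010020000086a0022f0010bb))))) (.node (.node (.node (.node (.leaf (nat_lit 0x7a0f004001004004060010020280200a)) (.leaf (nat_lit 0x10f9518020000001284200210802842))) (.leaf (nat_lit 473970742))) (.node (.node (.leaf (nat_lit 239087629)) (.leaf (nat_lit 0xa2d44e9f512a2941e835086e2859b800600a0000c8b80023f0028fc))) (.leaf (nat_lit 0x2754f2af19e000008004010ac0021f8008ac)))) (.node (.node (.node (.leaf (nat_lit 0x5f0000020000800500201403024)) (.leaf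 (nat_lit 0x4b75eac1a5f000008004010f20023c0008f2))) (.leaf (nat_lit 591398980))) (.node (.leaf (nat_lit 0xdf0000020000781f00207c02854)) (.leaf (nat_lit 0x7b58cb1761ace9dd3bc4bc540a2a4f64c7d8f480b0060000d85e0021d4030a7)))))) (.node (.node (.node (.node (.node (.leaf (nat_lit 0x3600c0d0030000000880500201402805)) (.leaf (nat_lit 0x15fabd4f6e85d027a578af95fabd83b07d4841e838af15f00401a0000e06d00230c028c3))) (.leaf (nat_lit 0x41e3e50e003000000060670021a802067))) (.node (.node (.leaf (nat_lit 0x8a4742b002002000090010020cc0100e)) (.leaf (nat_lit 0x147a81002000004100ea0023a8010b7))) (.leaf (nat_lit 0x63a7758f003000000048a5002298038a5)))) (.node (.node (.node (.leaf (nat_lit 130037764)) (.leaf (nat_lit 0x2dd5b726e4f003002000010950023ac008ed))) (.leaf (nat_lit 570435650))) (.node (.leaf (nat_lit 0x12267c4f002002000090040021300101e)) (.leaf (nat_lit 0xe793d2bc57c8c11900100a0000006e00230c0087a))))) (.node (.node (.node (.node (.leaf (nat_lit 73786976294842415120)) (.leaf (nat_lit 0x3636a6d522f000008004010dd0022d4008dd))) (.leaf (nat_lit 0x1514be8c0900020040040100e0021b401079)))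 (.node (.leaf (nat_lit 0xab05c00c180ae00000a0000b03f0020fc0383e)) (.leaf (nat_lit 759173223)))) (.node (.node (.node (.leaf (nat_lit 0x1be0c8120010040040580600202001829)) (.leaf (nat_lit 1036003494))) (.leaf (nat_lit 0x5b6b78cb0010040040604900225802094))) (.node (.leaf (nat_lit 385886249)) (.leaf (nat_lit 0x1ef0000020000807b0021ec030d1))))))) (.node (.node (.node (.node (.node (.node (.leaf (nat_lit 0x16028000010040040680000200802002)) (.leaf (nat_lit 0x66f038ff0030000000f8ab00218c000ab))) (.leaf (nat_lit 73786976295026964584))) (.node (.node (.leaf (nat_lit 0x9321a2d04b0020040040101b00208801031)) (.leaf (nat_lit 73786976295601584385))) (.leaf (nat_lit 0x1870000020000785700215c028a2)))) (.node (.node (.node (.leaf (nat_lit 113250308)) (.leaf (nat_lit 968886418))) (.leaf (nat_lit 0x16851ca30b50020040000a84100221402885))) (.node (.leaf (nat_lit 0x31e200440000060040501900212001019)) (.leaf (nat_lit 801114220))))) (.node (.node (.node (.node (.leaf (nat_lit 0x9601c250030000000880c0020300280c)) (.leaf (nat_lit 0x113a2500100200000882002364010d8)))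 (.leaf (nat_lit 0x49e938a1001004004060390021d402075))) (.node (.leaf (nat_lit 251660302)) (.leaf (nat_lit 73786976295266029745)))) (.node (.node (.node (.leaf (nat_lit 0x19e0703b0000060040501500209801015)) (.leaf (nat_lit 0x11ca67001002000008a5002384010f3))) (.leaf (nat_lit 0x5865fd670030000000608e0022440208e))) (.node (.leaf (nat_lit 373303333)) (.leaf (nat_lit 859834487)))))) (.node (.node (.node (.node (.node (.leaf (nat_lit 0x580a8010020040000a80000201c02807)) (.leaf (nat_lit 0x758e73d2c658c1e81cc3a8758e73eec9e173263ec3987500401a0000e02c00228c028a3))) (.leaf (nat_lit 457181235))) (.node (.node (.leaf (nat_lit 0x10d21e4b0260020040040100b0020d801011)) (.leaf (nat_lit 0x9d74be720020020000b8a8002334028f8))) (.leaf (nat_lit 0x3e27e59700200200008860002188010aa)))) (.node (.node (.node (.leaf (nat_lit 0x7f15e25c400030020000100300207000817)) (.leaf (nat_lit 0x25700000200007896002258028ef))) (.leaf (nat_lit 0x2a754aaacf90030020000105f00222800860))) (.node (.leaf (nat_lit 0x12a284d70020020000501c00207c01050)) (.leaf (nat_lit 834668656))))) (.node (.node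 (.node (.node (.leaf (nat_lit 0x221b4360020020000a00200204c02013)) (.leaf (nat_lit 73786976295433799905))) (.leaf (nat_lit 0x1370000020000803c0020f00307d))) (.node (.leaf (nat_lit 73786976294917900355)) (.leaf (nat_lit 0x422839b7000006004048b80021a0008b8)))) (.node (.node (.node (.leaf (nat_lit 0x77000002000078080020200282d)) (.leaf (nat_lit 0x9d33bdbc002002000060b20023e8008ba))) (.leaf (nat_lit 73786976295169558683))) (.node (.leaf (nat_lit 73786976295018565728)) (.leaf (nat_lit 0x178aef7defa9f10050000000109b0023440009b)))))))) (.node (.node (.node (.node (.node (.node (.node (.leaf (nat_lit 0xa010000010040040600000200402001)) (.leaf (nat_lit 0x295622a52030010060000888600215c000a2))) (.leaf (nat_lit 0x819010010020000082c00219401064))) (.node (.node (.leaf (nat_lit 201332746)) (.leaf (nat_lit 0xa0ad81b7000006004050b80023fc010b8))) (.leaf (nat_lit 675287127)))) (.node (.node (.node (.leaf (nat_lit 73786976294850803737)) (.leaf (nat_lit 0x24300000200007890002240028e5))) (.leaf (nat_lit 0x506a18af0010040040603e00220c02081))) (.node (.leaf (nat_lit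 0x3062b4c10030000000884600211802846)) (.leaf (nat_lit 0x442e15b5002002000098670022f4020b7))))) (.node (.node (.node (.node (.leaf (nat_lit 0x8a110030010040040880100202c0280b)) (.leaf (nat_lit 73786976295383468247))) (.leaf (nat_lit 73786976295068895347))) (.node (.leaf (nat_lit 0xba51829001004004058010020e80180f)) (.leaf (nat_lit 0x412d1da1002002000088640022b8010ad)))) (.node (.node (.node (.leaf (nat_lit 155203589)) (.leaf (nat_lit 0x8ff31e43002002000088900023c4010e5))) (.leaf (nat_lit 603981893))) (.node (.leaf (nat_lit 360712227)) (.leaf (nat_lit 851454069)))))) (.node (.node (.node (.node (.node (.leaf (nat_lit 0x608c110020020000b80000201802806)) (.leaf (nat_lit 0x1e7b93722f1de3390724f39e7b9345e8c61323045ce49e700401a0000e0cc002328028ca))) (.leaf (nat_lit 452997170))) (.node (.node (.leaf (nat_lit 0x24411c93003000000040340020d402034)) (.leaf (nat_lit 0x90120e934945b0b7e584b48ad1566f00a0020000c8b9002368028f6))) (.leaf (nat_lit 73786976295224084648)))) (.node (.node (.node (.leaf (nat_lit 0xa50960100d0010060040100500203000821)) (.leaf (nat_lit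 998246550))) (.leaf (nat_lit 0x2a52e2314e70040000000108900216001089))) (.node (.leaf (nat_lit 0x34e240510000060040502000213801020)) (.leaf (nat_lit 0x3a173ee95340030020000107a0023100087b))))) (.node (.node (.node (.node (.leaf (nat_lit 0x1408c330020020000200200201801012)) (.leaf (nat_lit 935340173))) (.leaf (nat_lit 0x999310010020000083c0021ec0107a))) (.node (.leaf (nat_lit 0x2ce598350010040040601200210402041)) (.leaf (nat_lit 0x31d3a6839b2000008004010b6002294008b6)))) (.node (.node (.node (.leaf (nat_lit 0x1ce39817001004004060070020ac0202b)) (.leaf (nat_lit 0x1ab20c3c4ca27300000a000028f80023e0008b2))) (.leaf (nat_lit 641738830))) (.node (.leaf (nat_lit 394266667)) (.leaf (nat_lit 0x26f4e6f99360020040040c03c0023480187d))))))) (.node (.node (.node (.node (.node (.node (.leaf (nat_lit 0x2e0040b0030000000600400201002004)) (.leaf (nat_lit 0x1059d68020000001286e0021b80286e))) (.leaf (nat_lit 440404014))) (.node (.node (.leaf (nat_lit 0x8814c8a0020020000200b00203401032)) (.leaf (nat_lit 73786976295605766402))) (.leaf (nat_lit 0x29f416c4d4e0030020000108700228c0085e))))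 (.node (.node (.node (.leaf (nat_lit 0x12a0644a0030000000681c0020700201c)) (.leaf (nat_lit 0x2db92f2416a0020040040104900239c010ea))) (.leaf (nat_lit 0x2053e67d14a0000080040108600219000886))) (.node (.leaf (nat_lit 314587162)) (.leaf (nat_lit 0x2bf57a9fdca0030020000106d002200008c1))))) (.node (.node (.node (.node (.leaf (nat_lit 0x2b000002000080010020040300e)) (.leaf (nat_lit 0x88f159440010040040688100236c020d6))) (.leaf (nat_lit 503326779))) (.node (.leaf (nat_lit 0xab0000020000780f00203c0283e)) (.leaf (nat_lit 73786976295266039987)))) (.node (.node (.node (.leaf (nat_lit 167784454)) (.leaf (nat_lit 73786976295530281205))) (.leaf (nat_lit 0x322b5cca0020020000881900224c0104a))) (.node (.leaf (nat_lit 0x1a63cceb002002000088260020b80105a)) (.leaf (nat_lit 0x4c2e6deb00200200008879002308010cf)))))) (.node (.node (.node (.node (.node (.leaf (nat_lit 0x680c8000010040040400000202002009)) (.leaf (nat_lit 0x30a61b049863083eacb8fa2945330d94c00600c0000c886002180000aa))) (.leaf (nat_lit 469772341))) (.node (.node (.leaf (nat_lit 0x9a4cc8e0020020000900b0020dc01033))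 (.leaf (nat_lit 0x76b23a9a001004004098c6002398028c7))) (.leaf (nat_lit 721432675)))) (.node (.node (.node (.leaf (nat_lit 146806789)) (.leaf (nat_lit 73786976295496714481))) (.leaf (nat_lit 587214915))) (.node (.leaf (nat_lit 0x36a258d30000060040504e0021440104e)) (.leaf (nat_lit 0xe89db0010020000087300230c010c8))))) (.node (.node (.node (.node (.leaf (nat_lit 0xec1c8080010040040400200205002015)) (.leaf (nat_lit 952109200))) (.leaf (nat_lit 532680765))) (.node (.leaf (nat_lit 289417237)) (.leaf (nat_lit 0x436dddab002002000070660022e8020b2)))) (.node (.node (.node (.leaf (nat_lit 0x763cc77002002000098080020b80202d)) (.leaf (nat_lit 73786976295576418556))) (.leaf (nat_lit 658516049))) (.node (.leaf (nat_lit 411052075)) (.leaf (nat_lit 0x3eb60afd9ee0010060040107d00227c008d3))))))))) (.node (.node (.node (.node (.node (.node (.node (.node (.leaf (nat_lit 4196352)) (.leaf (nat_lit 0x2010000020000808600221803097))) (.leaf (nat_lit 0xeb1ce7bd010030020000102c00217c00864))) (.node (.node (.leaf (nat_lit 0x95136250810020040000881c00207400004)) (.leaf (nat_lit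 73786976295597390079))) (.leaf (nat_lit 0x30337a685710040000000109f00225c0109f)))) (.node (.node (.node (.leaf (nat_lit 100677635)) (.leaf (nat_lit 0x8ff1896600100400406890002378020e4))) (.leaf (nat_lit 73786976295098255490))) (.node (.leaf (nat_lit 0xfd3061f81f0010060040100a0021180082f)) (.leaf (nat_lit 792733802))))) (.node (.node (.node (.node (.leaf (nat_lit 46141441)) (.leaf (nat_lit 0x283886eb91b0020040040103e002318010d5))) (.leaf (nat_lit 0x262904b1002002000050110021c401040))) (.node (.node (.leaf (nat_lit 0x570b6500290020040040c0010020e40180e)) (.leaf (nat_lit 0x150a7f802000000128b30022cc028b3))) (.leaf (nat_lit 0x1a100000200007864002190028ad)))) (.node (.node (.node (.leaf (nat_lit 0x3a2fc360020020000900200209001013)) (.leaf (nat_lit 0x8c730e340020020000888d0023c0010df))) (.leaf (nat_lit 73786976295123433615))) (.node (.leaf (nat_lit 0xe10000020000782000208002855)) (.leaf (nat_lit 73786976295328944330)))))) (.node (.node (.node (.node (.node (.leaf (nat_lit 0x110000020000180000200001806)) (.leaf (nat_lit 0x7b108d30803000000100c20021b4000c2)))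 (.leaf (nat_lit 0x44688885001004004060300021ac0206b))) (.node (.node (.leaf (nat_lit 0x8a48c2e002002000050010020d00100f)) (.leaf (nat_lit 0xa46de9c3001004004088bd0022ec028ee))) (.leaf (nat_lit 0x1910000020000185b00216c018a7)))) (.node (.node (.node (.leaf (nat_lit 138414085)) (.leaf (nat_lit 0x93728e4e00200200008894002324010ec))) (.leaf (nat_lit 73786976295119227017))) (.node (.leaf (nat_lit 0x12268c50002002000050040021340101f)) (.leaf (nat_lit 822087790))))) (.node (.node (.node (.node (.leaf (nat_lit 73786976294846597137)) (.leaf (nat_lit 0xd32310010020000088d0022bc010de))) (.leaf (nat_lit 0x4c6988a90010040040683c0021e80207a))) (.node (.leaf (nat_lit 0xca1ccb10020020000481100205000840)) (.leaf (nat_lit 73786976295270224054)))) (.node (.node (.node (.leaf (nat_lit 0x1bc09c71003000000040290020a802029)) (.leaf (nat_lit 1040193704))) (.leaf (nat_lit 637544525))) (.node (.leaf (nat_lit 390080554)) (.leaf (nat_lit 0x4d2f7ded0020020000907a002344010d0))))))) (.node (.node (.node (.node (.node (.node (.leaf (nat_lit 0x1a030080010040040600200200c02003))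 (.leaf (nat_lit 0x200674ce2090020040000a8630022b0028ac))) (.leaf (nat_lit 0x4208487c0010040040402d0021a002068))) (.node (.node (.leaf (nat_lit 209721355)) (.leaf (nat_lit 0xa22d9a82000006004050ff002404010ff))) (.leaf (nat_lit 0xaa18900100200000858002224010a3)))) (.node (.node (.node (.leaf (nat_lit 73786976294854987804)) (.leaf (nat_lit 977275027))) (.leaf (nat_lit 0x16d526730620020040040101300215c01086))) (.node (.leaf (nat_lit 310388761)) (.leaf (nat_lit 809504877))))) (.node (.node (.node (.node (.leaf (nat_lit 0x1214c29002002000070010020340200d)) (.leaf (nat_lit 914360451))) (.leaf (nat_lit 499132474))) (.node (.leaf (nat_lit 73786976294896928829)) (.leaf (nat_lit 0x31b6a2830e9001006004010590022c4008a4)))) (.node (.node (.node (.leaf (nat_lit 163579910)) (.leaf (nat_lit 1023420581))) (.leaf (nat_lit 0x31ab4cc90020020000881800224801049))) (.node (.leaf (nat_lit 0x19a744b90020020000881400216401044)) (.leaf (nat_lit 0x7a2f492d00100400406077002338020cd)))))) (.node (.node (.node (.node (.node (.leaf (nat_lit 73786976294838220809)) (.leaf (nat_lit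 0x6930cd040030000000f8ad002190000ad))) (.leaf (nat_lit 465578036))) (.node (.node (.leaf (nat_lit 0x990000020000800c00203003037)) (.leaf (nat_lit 0x88b34299001004004088d5002384028c6))) (.leaf (nat_lit 0x1990000020000786300218c028ab)))) (.node (.node (.node (.leaf (nat_lit 0xb30360584a0000080040101c0020880081c)) (.leaf (nat_lit 0x94f2ce2c002002000060d60023bc008db))) (.leaf (nat_lit 583018563))) (.node (.leaf (nat_lit 73786976294955661393)) (.leaf (nat_lit 0x75eec11e0010040040606f00231c020c6))))) (.node (.node (.node (.node (.leaf (nat_lit 0x161cc190020020000500000205001008)) (.leaf (nat_lit 947916942))) (.leaf (nat_lit 73786976295094061182))) (.node (.leaf (nat_lit 0xb90000020000781400205002844)) (.leaf (nat_lit 0x2196e6b20bd0020040040102e002240010b9)))) (.node (.node (.node (.leaf (nat_lit 0x79000002000078090020240282e)) (.leaf (nat_lit 0x279000002000078a90022a4028fb))) (.leaf (nat_lit 0x3626fd79002002000088500021500109c))) (.node (.leaf (nat_lit 0x1cd3e2398610010060040102400218000857)) (.leaf (nat_lit 0xfc5f20020000041009b00226c010d0))))))))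 (.node (.node (.node (.node (.node (.node (.node (.leaf (nat_lit 12584962)) (.leaf (nat_lit 0x61701d85003000000088a1002284028a1))) (.leaf (nat_lit 427821101))) (.node (.node (.leaf (nat_lit 205522955)) (.leaf (nat_lit 0x6cadae85002002000088b60022dc01100))) (.leaf (nat_lit 0x1f5562ab5840030020000105700218c008a1)))) (.node (.node (.node (.leaf (nat_lit 73786976294854985754)) (.leaf (nat_lit 0x48b59e76d8f004000000010e6002298010e6))) (.leaf (nat_lit 557854785))) (.node (.leaf (nat_lit 0x10262c420020020000500300211c01018)) (.leaf (nat_lit 0x1c50000020000806b0021ac030be))))) (.node (.node (.node (.node (.leaf (nat_lit 0x12822001002000008010020300100b)) (.leaf (nat_lit 0x28550711e2500300200001082002358008d8))) (.leaf (nat_lit 0x27e55d25002002000088380020f801074))) (.node (.leaf (nat_lit 0x28c154a50030000000403a0020ec0203a)) (.leaf (nat_lit 0x20d696b00bb0020040040102d002234010af)))) (.node (.node (.node (.leaf (nat_lit 0x3a324390020020000500200209401014)) (.leaf (nat_lit 0x2654688d51b2440030040000b0e5002380028e0))) (.leaf (nat_lit 0x592b00be0010040040604500223402090)))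 (.node (.leaf (nat_lit 364906532)) (.leaf (nat_lit 73786976295333138636)))))) (.node (.node (.node (.node (.node (.leaf (nat_lit 0x150000020000800000200003007)) (.leaf (nat_lit 0x10a9e5802000000128750021d402875))) (.leaf (nat_lit 0x2368a5140020020000a0320021b00206c))) (.node (.node (.leaf (nat_lit 226494476)) (.leaf (nat_lit 0x9eb3b6950030000000b8fb002338018fb))) (.leaf (nat_lit 0x65279d95003000000060a80022a4020a8)))) (.node (.node (.node (.leaf (nat_lit 0x14e2ac530030000000881600205802816)) (.leaf (nat_lit 0x92f2a170001004004060940023b8020ea))) (.leaf (nat_lit 0x7f9550010020000084300218c0108a))) (.node (.leaf (nat_lit 0x12e6accf0020020000901b00213c0104c)) (.leaf (nat_lit 0x1d50000020000786e0021b8028c5))))) (.node (.node (.node (.node (.leaf (nat_lit 79704066)) (.leaf (nat_lit 0x11a9650010020000308d00238003890))) (.leaf (nat_lit 520099900))) (.node (.leaf (nat_lit 276826131)) (.leaf (nat_lit 0x1b50000020000786700219c028b7)))) (.node (.node (.node (.leaf (nat_lit 0x1d60bc750030000000602c0020b00202c)) (.leaf (nat_lit 1048582313))) (.leaf (nat_lit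 0x5ceba8e30010040040505400226403898))) (.node (.leaf (nat_lit 0x3d27a0740010040040602b0021780205e)) (.leaf (nat_lit 0x7d6fa9390010040040607d00234c020d3))))))) (.node (.node (.node (.node (.node (.node (.leaf (nat_lit 0x68050010020000080000201401002)) (.leaf (nat_lit 889198719))) (.leaf (nat_lit 73786976295031146602))) (.node (.node (.leaf (nat_lit 213921803)) (.leaf (nat_lit 0x249c91a1b4628d002006000010e800239c00100))) (.leaf (nat_lit 73786976295211501733)))) (.node (.node (.node (.leaf (nat_lit 0x4d000002000078040020100281d)) (.leaf (nat_lit 989866132))) (.leaf (nat_lit 0x7a94d0010020000084200217801087))) (.node (.leaf (nat_lit 0x11e58ccc0020020000501a0021000104b)) (.leaf (nat_lit 0x1cd0000020000786d0021b4028c2))))) (.node (.node (.node (.node (.leaf (nat_lit 62928897)) (.leaf (nat_lit 926943373))) (.leaf (nat_lit 0x2b6960a70010040040b8100021e00183f))) (.node (.leaf (nat_lit 0xad000002000078100020400283f)) (.leaf (nat_lit 73786976295270222004)))) (.node (.node (.node (.leaf (nat_lit 0xd91b60a8120020040040c00600201c01828)) (.leaf (nat_lit 1031803046)))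 (.leaf (nat_lit 73786976295144392853))) (.node (.leaf (nat_lit 0x3aa768c00010040040504400216803859)) (.leaf (nat_lit 0x4c6f6d370020020000903c0023400107d)))))) (.node (.node (.node (.node (.node (.leaf (nat_lit 41945089)) (.leaf (nat_lit 0x10e8fd8020000001282b0020ac0282b))) (.leaf (nat_lit 0x2528e51a002002000098340021c00206f))) (.node (.node (.leaf (nat_lit 234895372)) (.leaf (nat_lit 0xa6f4e9d9001004004050c60023dc038f4))) (.leaf (nat_lit 0x3feae59c00200200009063002230010ac)))) (.node (.node (.node (.leaf (nat_lit 0x342e4110020020000200000208c01006)) (.leaf (nat_lit 0x972bf65b003000000060f10023c0020f1))) (.leaf (nat_lit 0x27b4d29a95d0000080040108c0021fc0088c))) (.node (.leaf (nat_lit 73786976294964037715)) (.leaf (nat_lit 0x399502eddcb003002000010c100232000879))))) (.node (.node (.node (.node (.leaf (nat_lit 0xee0281a0000060040500900205401009)) (.leaf (nat_lit 0x6fb1823d000006004060e30022ec008e3))) (.leaf (nat_lit 73786976295094063232))) (.node (.leaf (nat_lit 0xf25ccbc0020020000981500211002045)) (.leaf (nat_lit 0x6f6d810f0010040040686a0022d4020bb))))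 (.node (.node (.node (.leaf (nat_lit 197134346)) (.leaf (nat_lit 1061169331))) (.leaf (nat_lit 0x36ebcd7c002002000098510022700209d))) (.node (.leaf (nat_lit 73786976295022757987)) (.leaf (nat_lit 0xfb5fcb0337a278461863083f084a23718fa1f580c0040000d8d30022f8008d2)))))))))) (.node (.node (.node (.node (.node (.node (.node (.node (.node (.leaf (nat_lit 36028814198843392)) (.leaf (nat_lit 0x358b894ca023f8ce9a0ba6750fc9788020120000d04f00225c03086))) (.leaf (nat_lit 419434540))) (.node (.node (.leaf (nat_lit 0x7c3f4800fc1042c4580800fe2b03f00600a0000c8030020700281c)) (.leaf (nat_lit 0x6c3405b5002002000088670023f8010b7))) (.leaf (nat_lit 73786976295186335903)))) (.node (.node (.node (.leaf (nat_lit 0xf8400010020000080300202801017)) (.leaf (nat_lit 0x4798fae063f003002000010900022f0008e4))) (.leaf (nat_lit 541067326))) (.node (.leaf (nat_lit 73786976294930485318)) (.leaf (nat_lit 0x31f3b2871bf000008004010bc002298008bc))))) (.node (.node (.node (.node (.leaf (nat_lit 0x7e03c1f0030000000880a0020280280a)) (.leaf (nat_lit 893388929))) (.leaf (nat_lit 0x25e62d200020020000483600211c00871)))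 (.node (.node (.leaf (nat_lit 0xaa504a00020020000a00d0020e402039)) (.leaf (nat_lit 0x4fba833ea7e003002000088b30022cc000fd))) (.leaf (nat_lit 725624932)))) (.node (.node (.node (.leaf (nat_lit 0x360ac5f0020020000900500201c01024)) (.leaf (nat_lit 0x97d3063b4745865c8b219c336701830020120000c8a00023c0028de))) (.leaf (nat_lit 73786976295123421326))) (.node (.leaf (nat_lit 356526112)) (.leaf (nat_lit 73786976295324747977)))))) (.node (.node (.node (.node (.node (.leaf (nat_lit 25171968)) (.leaf (nat_lit 0x2624bef592f266753069d4268743081d00020140000c87a0021e4000cf))) (.leaf (nat_lit 448792624))) (.node (.node (.leaf (nat_lit 218118155)) (.leaf (nat_lit 0xa432b5c4002002000068b70023b8010bd))) (.leaf (nat_lit 700455003)))) (.node (.node (.node (.leaf (nat_lit 73786976294854998048)) (.leaf (nat_lit 0xe817cac28489d14e5049e5ba6484300600a0000c814002324028eb))) (.leaf (nat_lit 0x1500000020000784200210802888))) (.node (.leaf (nat_lit 322975771)) (.leaf (nat_lit 0x39f4664e524004000000010c30021cc010c3))))) (.node (.node (.node (.node (.leaf (nat_lit 0xb8024300030000000400f0020400200f))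 (.leaf (nat_lit 931139725))) (.leaf (nat_lit 511709244))) (.node (.leaf (nat_lit 268449809)) (.leaf (nat_lit 0x20f41ad3db0003002000010670022c0008b5)))) (.node (.node (.node (.leaf (nat_lit 73786976294863386666)) (.leaf (nat_lit 0x270000002000078a6002298028f7))) (.leaf (nat_lit 73786976295156975767))) (.node (.leaf (nat_lit 0x3c23b8700010040040b8290020b40185c)) (.leaf (nat_lit 0x4ce9bdef0020020000907b0021f4010d1))))))) (.node (.node (.node (.node (.node (.node (.leaf (nat_lit 0x16028010010040040880000200802802)) (.leaf (nat_lit 0x10419a8020000001286300218c02863))) (.leaf (nat_lit 0x8407d0010020000302d0021a00382e))) (.node (.node (.leaf (nat_lit 0x2222dc88003000000088310020c402831)) (.leaf (nat_lit 0x9b2da288000006004049010023d400901))) (.leaf (nat_lit 683675736)))) (.node (.node (.node (.leaf (nat_lit 0x1700a114480030020000100400202c0081b)) (.leaf (nat_lit 73786976295450577128))) (.leaf (nat_lit 562038850))) (.node (.leaf (nat_lit 306194456)) (.leaf (nat_lit 73786976295291193536))))) (.node (.node (.node (.node (.leaf (nat_lit 54532097)) (.leaf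 (nat_lit 0x3c349aa1227000008004010d9002324008d9))) (.leaf (nat_lit 73786976295077283958))) (.node (.leaf (nat_lit 0x2a25402d0010040040600e0020f00203c)) (.leaf (nat_lit 0xd41a7001002000008660022c4010b0)))) (.node (.node (.node (.leaf (nat_lit 0x6a068670000060040502600202401026)) (.leaf (nat_lit 0x4676d333e32003002000010de0023cc008af))) (.leaf (nat_lit 612378695))) (.node (.leaf (nat_lit 0x1963bce8002002000088250020b401059)) (.leaf (nat_lit 864028792)))))) (.node (.node (.node (.node (.node (.leaf (nat_lit 33568768)) (.leaf (nat_lit 0x29c53ed194f29a527019491ea6330c18c0020140000c85e002194000ae))) (.leaf (nat_lit 73786976295052118126))) (.node (.node (.leaf (nat_lit 230699020)) (.leaf (nat_lit 0x107a0d69734e2128250912224a854aef46984e86ac8310700401a0000e0670023cc028d5))) (.leaf (nat_lit 717236323)))) (.node (.node (.node (.leaf (nat_lit 73786976294859180066)) (.leaf (nat_lit 0x5c32be4e002002000098940023bc020ec))) (.leaf (nat_lit 0x4cc9a957a9a2d81b00683e078160a88020120000d03c0021c80308a))) (.node (.leaf (nat_lit 0x12e6bcd10020020000501b0021400104d))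 (.leaf (nat_lit 0x75eec11f0010040040486f00231c038c6))))) (.node (.node (.node (.node (.leaf (nat_lit 83900418)) (.leaf (nat_lit 0x4715867558e004000000010e1002294010e1))) (.leaf (nat_lit 0x2a69bd370020020000a03c0021f40207d))) (.node (.leaf (nat_lit 285222932)) (.leaf (nat_lit 775948393)))) (.node (.node (.node (.leaf (nat_lit 192948233)) (.leaf (nat_lit 1052780713))) (.leaf (nat_lit 654321744))) (.node (.leaf (nat_lit 0x7c0f70010020000082b0021800105f)) (.leaf (nat_lit 0xfc5f08020000001389b0021ec0309b)))))))) (.node (.node (.node (.node (.node (.node (.node (.leaf (nat_lit 8392704)) (.leaf (nat_lit 0x1021888020000001285700215c02857))) (.leaf (nat_lit 0x1cf1863a9030000080040106500216000865))) (.node (.node (.leaf (nat_lit 0x82424840020020000700a0020c002030)) (.leaf (nat_lit 1073752246))) (.leaf (nat_lit 0xa518400100200000857002218010a1)))) (.node (.node (.node (.leaf (nat_lit 0x108054440030000000401800206402018)) (.leaf (nat_lit 73786976295446382822))) (.leaf (nat_lit 73786976295102449796))) (.node (.leaf (nat_lit 297809943)) (.leaf (nat_lit 796930155)))))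 (.node (.node (.node (.node (.leaf (nat_lit 73786976294842404876)) (.leaf (nat_lit 905973890))) (.leaf (nat_lit 486549560))) (.node (.leaf (nat_lit 73786976294892746811)) (.leaf (nat_lit 734005350)))) (.node (.node (.node (.leaf (nat_lit 0x360cc640020020000500500202001025)) (.leaf (nat_lit 0x98b2ee64003000000050df002394038df))) (.leaf (nat_lit 0x582b20c0001004004048440022400388d))) (.node (.leaf (nat_lit 0x1783546b0d40d059cb5166174724e400a0020000c82300215802856)) (.leaf (nat_lit 0x1e4000002000078750021d4028cb)))))) (.node (.node (.node (.node (.node (.leaf (nat_lit 29372416)) (.leaf (nat_lit 0x3c5796f1214001006000088ca0021d4000cb))) (.leaf (nat_lit 0x23250514002002000090320020e40106c))) (.node (.node (.leaf (nat_lit 0x24e11030000006004050100020d401010)) (.leaf (nat_lit 0x22da8b50f156944de6e48610e21d432dde78bd24b8a2a2d00d0080000e0dc0023e8028ce))) (.leaf (nat_lit 73786976295228278953)))) (.node (.node (.node (.leaf (nat_lit 0x380340700c014014030040342945200a0020000c80500208402821)) (.leaf (nat_lit 0x2df9532516c0020040040104a0023a4010ee))) (.leaf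 (nat_lit 578818115))) (.node (.leaf (nat_lit 331362332)) (.leaf (nat_lit 826288238))))) (.node (.node (.node (.node (.leaf (nat_lit 0x2219c330020020000700200204802012)) (.leaf (nat_lit 73786976295429617888))) (.leaf (nat_lit 0x2474ce5409b001006004010370021ec00872))) (.node (.leaf (nat_lit 0x8786501a1fc5607e0181908710f0ca19cb39660cc1908700d0080000e03100210402841)) (.leaf (nat_lit 767567975)))) (.node (.node (.node (.leaf (nat_lit 73786976294867568684)) (.leaf (nat_lit 1044392104))) (.leaf (nat_lit 0x352ba4e10020020000882000226401055))) (.node (.leaf (nat_lit 0xe73d25b037002004004010070021080105e)) (.leaf (nat_lit 885000317))))))) (.node (.node (.node (.node (.node (.node (.leaf (nat_lit 73786976294838210565)) (.leaf (nat_lit 0x74ae920c0010040040886e002310028c4))) (.leaf (nat_lit 0x41a8607c0010040040602d0021a402066))) (.node (.node (.leaf (nat_lit 0x8e4548a0020020000700b0020c802032)) (.leaf (nat_lit 0x6bcd75b6518926b49212442ca5d16100400e0000c88e002408010e8))) (.leaf (nat_lit 687867993)))) (.node (.node (.node (.leaf (nat_lit 121645060)) (.leaf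 (nat_lit 985665684))) (.leaf (nat_lit 566235202))) (.node (.leaf (nat_lit 0x11a284cc0020020000481a00207c0084b)) (.leaf (nat_lit 813705325))))) (.node (.node (.node (.node (.leaf (nat_lit 0x1215c2b0020020000a0010020380200e)) (.leaf (nat_lit 73786976295391856860))) (.leaf (nat_lit 0x29a9652a0020020000983a0021e002077))) (.node (.leaf (nat_lit 264251408)) (.leaf (nat_lit 0x6b283108000006004048680022cc00868)))) (.node (.node (.node (.leaf (nat_lit 0x4e3646c0020020000a0060020a002028)) (.leaf (nat_lit 0x136190001002000030a50023d4038a6))) (.leaf (nat_lit 620759113))) (.node (.leaf (nat_lit 0x1a275cbc0020020000881500216801045)) (.leaf (nat_lit 872427642)))))) (.node (.node (.node (.node (.node (.leaf (nat_lit 0x640041a0030000000400800202402008)) (.leaf (nat_lit 0x6610e4f8803000000100620020ac00062))) (.leaf (nat_lit 0x2568e4ad002002000088100021c00103f))) (.node (.node (.leaf (nat_lit 0x4e2684c8280020040000a80c0020dc02837)) (.leaf (nat_lit 0x9c72329c000006004088c70023dc010c7))) (.leaf (nat_lit 0x19c0000020000806300218c030ac)))) (.node (.node (.node (.leaf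 (nat_lit 0x3819c5c0020020000200500204801023)) (.leaf (nat_lit 0x96ebfe5c003000000048f00023c4038f0))) (.leaf (nat_lit 0x556acd5c002002000090430021c80108c))) (.node (.leaf (nat_lit 343935006)) (.leaf (nat_lit 0x24948ecfddb003002000010730022b0008c8))))) (.node (.node (.node (.node (.leaf (nat_lit 0xe40443b0030000000401400205402014)) (.leaf (nat_lit 0x8f31716600100400406090002374020e3))) (.leaf (nat_lit 0x1552a298d3c0030020000103d0021e80087f))) (.node (.leaf (nat_lit 0xfa5e479002002000088090021140102e)) (.leaf (nat_lit 784339050)))) (.node (.node (.node (.leaf (nat_lit 0x770320040d07a00000a0000b02e0020b80382d)) (.leaf (nat_lit 0x9f2d39ac000006004050b30023f0010b3))) (.leaf (nat_lit 0x372be5740020020000884e00227401099))) (.node (.leaf (nat_lit 0xfc0000020000782b0020ac02862)) (.leaf (nat_lit 0xfe1f53003746f1810020080000009f0021f40089e))))))))) (.node (.node (.node (.node (.node (.node (.node (.node (.leaf (nat_lit 0x14020010020000100000400402801)) (.leaf (nat_lit 0x296809002010040000000a88600221802886))) (.leaf (nat_lit 73786976295022760037))) (.node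 (.node (.leaf (nat_lit 0x4144e8020000001280400201002804)) (.leaf (nat_lit 0x9f2d8a82000006004048ff0023f0008ff))) (.leaf (nat_lit 73786976295190530208)))) (.node (.node (.node (.leaf (nat_lit 0x1a214390020020000480200206000814)) (.leaf (nat_lit 960506000))) (.leaf (nat_lit 549455935))) (.node (.leaf (nat_lit 0x8d1222b8c10000080040104600206800846)) (.leaf (nat_lit 0x1c20000020000786a0021a8028bd))))) (.node (.node (.node (.node (.leaf (nat_lit 0x8a110040010040040680100202c0200b)) (.leaf (nat_lit 897585281))) (.leaf (nat_lit 478152759))) (.node (.leaf (nat_lit 243283981)) (.leaf (nat_lit 729819237)))) (.node (.node (.node (.leaf (nat_lit 0x1e1802f8100020040000a80500209002824)) (.leaf (nat_lit 0x90b30e5e003000000098e40023c4028e4))) (.leaf (nat_lit 0x58a5d9080000060040506800223c01068))) (.node (.leaf (nat_lit 0xdf0a020c288e200000a0000b05500215403854)) (.leaf (nat_lit 0x39178a939150010060040106c002328008bf)))))) (.node (.node (.node (.node (.node (.leaf (nat_lit 0x208c110020020000700000201802006)) (.leaf (nat_lit 0x1091ce8020000001286d0021b40286d)))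 (.leaf (nat_lit 0x283d1fa614c41841f80f00200507a42511a222100f00200d0080000e0000021ac0286b))) (.node (.node (.leaf (nat_lit 73786976294884358197)) (.leaf (nat_lit 0x956e0292001004004088ee0022f0028e9))) (.leaf (nat_lit 0xfb0e61b87799200000a000028a700229c00861)))) (.node (.node (.node (.leaf (nat_lit 0xd0fe2900e0020040040100200208401016)) (.leaf (nat_lit 0x44d94b14a28001006004010d80023b0008d6))) (.leaf (nat_lit 0xa91022985245b0b800100a000000430022240085f))) (.node (.leaf (nat_lit 73786976294951467086)) (.leaf (nat_lit 0x9d9d20010020000086e0021f8010c4))))) (.node (.node (.node (.node (.leaf (nat_lit 75503618)) (.leaf (nat_lit 0x45d8c2d9e310030020000108d0022d8008de))) (.leaf (nat_lit 73786976295089868923))) (.node (.leaf (nat_lit 272631826)) (.leaf (nat_lit 0xd91b0001002000008670022d8010b5)))) (.node (.node (.node (.leaf (nat_lit 180357127)) (.leaf (nat_lit 0x272000002000018a80022a0018f8))) (.leaf (nat_lit 0x34ab94df0020020000881f00226001054))) (.node (.leaf (nat_lit 0x1ca794f0002002000098290021740205c)) (.leaf (nat_lit 880816252))))))) (.node (.node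 (.node (.node (.node (.node (.leaf (nat_lit 73786976294838208516)) (.leaf (nat_lit 0x3b64924e9243a273eea9cf3b8777051dd00600c0000c8c80021b8000c5))) (.leaf (nat_lit 0x1082121e40d8780010080000b02d0021a002868))) (.node (.node (.leaf (nat_lit 0x8a0000020000180b00202c01832)) (.leaf (nat_lit 0x6ded9288000006004051010022e001101))) (.leaf (nat_lit 0x1cf39ac258900300200001058002284008a3)))) (.node (.node (.node (.leaf (nat_lit 0x25048001002000008040020700101b)) (.leaf (nat_lit 981469332))) (.leaf (nat_lit 0x526a48b70010040040604200221802086))) (.node (.leaf (nat_lit 0x116654c90020020000981800212802049)) (.leaf (nat_lit 0x981ca0010020000086d0021e4010c1))))) (.node (.node (.node (.node (.leaf (nat_lit 58732545)) (.leaf (nat_lit 918556803))) (.leaf (nat_lit 0x2ae950a40010040040b80f0021dc0183e))) (.node (.leaf (nat_lit 260057103)) (.leaf (nat_lit 746592358)))) (.node (.node (.node (.leaf (nat_lit 0x4681700a0f42103c0080584608d02e08c6a8d40440584600d0080000e01a00209c02827)) (.leaf (nat_lit 0x26a000002000078a5002294028f4))) (.leaf (nat_lit 616573000))) (.node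 (.leaf (nat_lit 377497638)) (.leaf (nat_lit 868231289)))))) (.node (.node (.node (.node (.node (.leaf (nat_lit 0xd0190010020000300000202403808)) (.leaf (nat_lit 0x10d1a28020000001286400219002864))) (.leaf (nat_lit 0x24a8d4ab0020020000880f0021bc0103e))) (.node (.node (.leaf (nat_lit 0x9615c990020020000900c00203801037)) (.leaf (nat_lit 0x9af1ca9a000006004088c60023d0010c6))) (.leaf (nat_lit 0x3fead5990020020000886300222c010ab)))) (.node (.node (.node (.leaf (nat_lit 0x12c24c2409212005c010161282d45a00a0020000c81c00208802822)) (.leaf (nat_lit 73786976295492520176))) (.leaf (nat_lit 0x15a0000020000784300210c0288b))) (.node (.leaf (nat_lit 0x3686b84c0010040040401c00214002051)) (.leaf (nat_lit 838865011))))) (.node (.node (.node (.node (.leaf (nat_lit 73786976294846609429)) (.leaf (nat_lit 0x2c358318e3a0030020000108e002378008e2))) (.leaf (nat_lit 0x2752aa485190040000000107e0021b80107e))) (.node (.leaf (nat_lit 0xea5cc77002002000088080021100102d)) (.leaf (nat_lit 780146793)))) (.node (.node (.node (.leaf (nat_lit 0x723bc79002002000098090020b40202e)) (.leaf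 (nat_lit 0x65b3ce75002002000098a80023ec020f9))) (.leaf (nat_lit 0x366bcd720020020000884d00227001098))) (.node (.leaf (nat_lit 406853675)) (.leaf (nat_lit 0x2e335abc1fa000008004010d000225c008d0)))))))) (.node (.node (.node (.node (.node (.node (.node (.leaf (nat_lit 0xb01a030050020040000180000400c02803)) (.leaf (nat_lit 0x31462f0318b31239e318e72a854aad95200b0020000c88900222c00043))) (.leaf (nat_lit 73786976295026952295))) (.node (.node (.leaf (nat_lit 0x2485707e018190860050020000000b00204400831)) (.leaf (nat_lit 0x6cf42e80002002000088b5002400010fe))) (.leaf (nat_lit 679487575)))) (.node (.node (.node (.leaf (nat_lit 0x8d02e02c320040000000101a0020440101a)) (.leaf (nat_lit 0x8e2b4645003000000060e1002398020e1))) (.leaf (nat_lit 0x1460000020000804100210403085))) (.node (.leaf (nat_lit 73786976294934689864)) (.leaf (nat_lit 0x224718e29130020040000a86b0022f8028be))))) (.node (.node (.node (.node (.leaf (nat_lit 0x96024250030000000680c0020300200c)) (.leaf (nat_lit 73786976295383470297))) (.leaf (nat_lit 490735673))) (.node (.leaf (nat_lit 0xc214ca5003000000058100020ec01810))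 (.leaf (nat_lit 738201702)))) (.node (.node (.node (.leaf (nat_lit 73786976294859192358)) (.leaf (nat_lit 1019220133))) (.leaf (nat_lit 73786976295127615633))) (.node (.leaf (nat_lit 73786976294989203544)) (.leaf (nat_lit 0x393456949e6000008004010cc002300008cc)))))) (.node (.node (.node (.node (.node (.leaf (nat_lit 0x20ac150020020000a00000201c02007)) (.leaf (nat_lit 0x250780efa160020040000a87500229c028a7))) (.leaf (nat_lit 0x22945a4708b0020040040c0320020cc0186c))) (.node (.node (.leaf (nat_lit 0x2a0520b21682c0960050020000000c00205c00836)) (.leaf (nat_lit 0x9ef4b5ea003000000070f9002334018f9))) (.leaf (nat_lit 713042016)))) (.node (.node (.node (.leaf (nat_lit 0x9309a2a0530000080040101600206c00816)) (.leaf (nat_lit 1002449046))) (.leaf (nat_lit 0x1712daa6d550030020000104300221c0088a))) (.node (.leaf (nat_lit 335558684)) (.leaf (nat_lit 830474351))))) (.node (.node (.node (.node (.leaf (nat_lit 0x161b4150020020000900000204c01007)) (.leaf (nat_lit 0x8d6b01620000060040488f0023800088f))) (.leaf (nat_lit 524300348))) (.node (.leaf (nat_lit 0x2da5b0380010040040601300210802042))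 (.leaf (nat_lit 73786976295270234296)))) (.node (.node (.node (.leaf (nat_lit 188753928)) (.leaf (nat_lit 0x65b3b672002002000070a80023e8020f8))) (.leaf (nat_lit 645924943))) (.node (.leaf (nat_lit 398463019)) (.leaf (nat_lit 0x4c0979383eb5dc6a85a9102184791880400e0000d06d00234c0109a))))))) (.node (.node (.node (.node (.node (.node (.leaf (nat_lit 0x360040d0030000000680500201402005)) (.leaf (nat_lit 0x995d0b9f466470490ae0fc0303396751d0713d80c0040000d87a002214008d4))) (.leaf (nat_lit 0x43a3dd070030000000606a00219c0206a))) (.node (.node (.leaf (nat_lit 0x8e0000020000800b00202c03033)) (.leaf (nat_lit 0xa1f4764c0030000000f8fe0023a8000fe))) (.leaf (nat_lit 73786976295215696038)))) (.node (.node (.node (.leaf (nat_lit 125841412)) (.leaf (nat_lit 994054293))) (.leaf (nat_lit 0x2935328254d0030020000104200219400887))) (.node (.leaf (nat_lit 318779419)) (.leaf (nat_lit 73786976295299582147))))) (.node (.node (.node (.node (.leaf (nat_lit 0xa174190020020000480000203c00808)) (.leaf (nat_lit 0x2c18bac68ea00200400401044002290010dd))) (.leaf (nat_lit 507512892)))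 (.node (.leaf (nat_lit 0xc656cab0020020000980f0020fc0203e)) (.leaf (nat_lit 0x35d41e5dd61004000000010b4002238010b4)))) (.node (.node (.node (.leaf (nat_lit 171980806)) (.leaf (nat_lit 0x48370737640003002000010e40023d8008b9))) (.leaf (nat_lit 629147722))) (.node (.leaf (nat_lit 73786976295005980763)) (.leaf (nat_lit 876621947)))))) (.node (.node (.node (.node (.node (.leaf (nat_lit 0x507a030050020040040100000200c0100a)) (.leaf (nat_lit 0xc239b028e60c42daa80b606e1cf0f07300600c0000c80700210800088))) (.leaf (nat_lit 0x46e8e8b00010040040503e0021c00386f))) (.node (.node (.leaf (nat_lit 0x961749e0020020000500c00203c01038)) (.leaf (nat_lit 0x29e4d49b136a710030040000b0f70023d4028f5))) (.leaf (nat_lit 0x55ace5590020020000908a0022b001072)))) (.node (.node (.node (.leaf (nat_lit 151007237)) (.leaf (nat_lit 73786976295509299442))) (.leaf (nat_lit 0x2315769189c001006004010330022300086d))) (.node (.leaf (nat_lit 352331807)) (.leaf (nat_lit 0x54d2fbbd776ce1863166307a0fbb2749c510a880b0060000d83c00229c03075))))) (.node (.node (.node (.node (.leaf (nat_lit 92276739))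 (.leaf (nat_lit 956305552))) (.leaf (nat_lit 0x9f13c0010020000083d0022000107f))) (.node (.leaf (nat_lit 0xf65e4b90020020000981400211402044)) (.leaf (nat_lit 73786976295282806972)))) (.node (.node (.node (.leaf (nat_lit 0xb116a3f041002004004010170020bc01022)) (.leaf (nat_lit 0x27e000002000078b30022cc028fd))) (.leaf (nat_lit 0x5eebe976001004004050980022740389c))) (.node (.leaf (nat_lit 0x1fd1d61bcb80040000000106300210c01063)) (.leaf (nat_lit 0x180bfb7d6fe5fc3ea7f4c0180bfb7d2ff5c73fc7d0fe98000401a0000e05200227c0289f)))))))))))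

noncomputable def cNP : NT := (.node (.node (.node (.node (.node (.node (.node (.node (.node (.leaf (nat_lit 0)) (.leaf (nat_lit 20662))) (.leaf (nat_lit 10301))) (.node (.leaf (nat_lit 28689)) (.leaf (nat_lit 6252)))) (.node (.node (.leaf (nat_lit 30724)) (.leaf (nat_lit 6228))) (.node (.leaf (nat_lit 10283)) (.leaf (nat_lit 30861))))) (.node (.node (.node (.leaf (nat_lit 30721)) (.leaf (nat_lit 4165))) (.node (.leaf (nat_lit 28700)) (.leaf (nat_lit 24698)))) (.node (.node (.leaf (nat_lit 12298)) (.leaf (nat_lit 8294))) (.node (.leaf (nat_lit 20533)) (.leaf (nat_lit 6300)))))) (.node (.node (.node (.node (.leaf (nat_lit 28672)) (.leaf (nat_lit 20546))) (.node (.leaf (nat_lit 30743)) (.leaf (nat_lit 8307)))) (.node (.node (.leaf (nat_lit 24582)) (.leaf (nat_lit 6236))) (.node (.leaf (nat_lit 30765)) (.leaf (nat_lit 6290))))) (.node (.node (.node (.leaf (nat_lit 28675)) (.leaf (nat_lit 20557))) (.node (.leaf (nat_lit 6180)) (.leaf (nat_lit 8322)))) (.node (.node (.leaf (nat_lit 28684)) (.leaf (nat_lit 30823))) (.node (.leaf (nat_lit 20539)) (.leaf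 (nat_lit 12456))))))) (.node (.node (.node (.node (.node (.leaf (nat_lit 6144)) (.leaf (nat_lit 6207))) (.node (.leaf (nat_lit 20500)) (.leaf (nat_lit 8302)))) (.node (.node (.leaf (nat_lit 24581)) (.leaf (nat_lit 4185))) (.node (.leaf (nat_lit 8236)) (.leaf (nat_lit 8336))))) (.node (.node (.node (.leaf (nat_lit 28674)) (.leaf (nat_lit 4169))) (.node (.leaf (nat_lit 20511)) (.leaf (nat_lit 12415)))) (.node (.node (.leaf (nat_lit 28683)) (.leaf (nat_lit 6247))) (.node (.leaf (nat_lit 20536)) (.leaf (nat_lit 20645)))))) (.node (.node (.node (.node (.leaf (nat_lit 10241)) (.leaf (nat_lit 24643))) (.node (.leaf (nat_lit 24603)) (.leaf (nat_lit 10358)))) (.node (.node (.leaf (nat_lit 6151)) (.leaf (nat_lit 24675))) (.node (.leaf (nat_lit 24626)) (.leaf (nat_lit 20628))))) (.node (.node (.node (.leaf (nat_lit 10244)) (.leaf (nat_lit 20560))) (.node (.leaf (nat_lit 20521)) (.leaf (nat_lit 6276)))) (.node (.node (.leaf (nat_lit 4110)) (.leaf (nat_lit 10346))) (.node (.leaf (nat_lit 12348)) (.leaf (nat_lit 30896)))))))) (.node (.node (.node (.node (.node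 (.node (.node (.leaf (nat_lit 8192)) (.leaf (nat_lit 6327))) (.leaf (nat_lit 6206))) (.node (.leaf (nat_lit 4115)) (.leaf (nat_lit 20589)))) (.node (.node (.leaf (nat_lit 6149)) (.leaf (nat_lit 20567))) (.node (.leaf (nat_lit 20523)) (.leaf (nat_lit 8334))))) (.node (.node (.node (.leaf (nat_lit 12290)) (.leaf (nat_lit 20551))) (.node (.leaf (nat_lit 4126)) (.leaf (nat_lit 24700)))) (.node (.node (.leaf (nat_lit 12299)) (.leaf (nat_lit 12390))) (.node (.leaf (nat_lit 4151)) (.leaf (nat_lit 10400)))))) (.node (.node (.node (.node (.leaf (nat_lit 4097)) (.leaf (nat_lit 8259))) (.node (.leaf (nat_lit 20505)) (.leaf (nat_lit 10357)))) (.node (.node (.leaf (nat_lit 30726)) (.leaf (nat_lit 20576))) (.node (.leaf (nat_lit 6190)) (.leaf (nat_lit 4244))))) (.node (.node (.node (.leaf (nat_lit 6148)) (.leaf (nat_lit 4175))) (.node (.leaf (nat_lit 20518)) (.leaf (nat_lit 4227)))) (.node (.node (.leaf (nat_lit 28685)) (.leaf (nat_lit 12393))) (.node (.leaf (nat_lit 8252)) (.leaf (nat_lit 12457))))))) (.node (.node (.node (.node (.node (.leaf (nat_lit 12288))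 (.leaf (nat_lit 4162))) (.node (.leaf (nat_lit 10262)) (.leaf (nat_lit 4207)))) (.node (.node (.leaf (nat_lit 30725)) (.leaf (nat_lit 6234))) (.node (.leaf (nat_lit 4141)) (.leaf (nat_lit 6289))))) (.node (.node (.node (.leaf (nat_lit 4099)) (.leaf (nat_lit 4170))) (.node (.leaf (nat_lit 4131)) (.leaf (nat_lit 8321)))) (.node (.node (.leaf (nat_lit 4108)) (.leaf (nat_lit 10343))) (.node (.leaf (nat_lit 6201)) (.leaf (nat_lit 8358)))))) (.node (.node (.node (.node (.leaf (nat_lit 24577)) (.leaf (nat_lit 6212))) (.node (.leaf (nat_lit 30747)) (.leaf (nat_lit 4216)))) (.node (.node (.leaf (nat_lit 20489)) (.leaf (nat_lit 20581))) (.node (.leaf (nat_lit 6195)) (.leaf (nat_lit 4246))))) (.node (.node (.node (.leaf (nat_lit 24580)) (.leaf (nat_lit 4178))) (.node (.leaf (nat_lit 4139)) (.leaf (nat_lit 8333)))) (.node (.node (.leaf (nat_lit 20495)) (.leaf (nat_lit 24683))) (.node (.leaf (nat_lit 6205)) (.leaf (nat_lit 20661))))))))) (.node (.node (.node (.node (.node (.node (.node (.node (.leaf (nat_lit 4096)) (.leaf (nat_lit 30902))) (.leaf (nat_lit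 4158))) (.node (.leaf (nat_lit 4114)) (.leaf (nat_lit 8301)))) (.node (.node (.leaf (nat_lit 4101)) (.leaf (nat_lit 8279))) (.node (.leaf (nat_lit 12331)) (.leaf (nat_lit 6286))))) (.node (.node (.node (.leaf (nat_lit 6146)) (.leaf (nat_lit 6213))) (.node (.leaf (nat_lit 30748)) (.leaf (nat_lit 24699)))) (.node (.node (.leaf (nat_lit 4107)) (.leaf (nat_lit 10342))) (.node (.leaf (nat_lit 28726)) (.leaf (nat_lit 6301)))))) (.node (.node (.node (.node (.leaf (nat_lit 30720)) (.leaf (nat_lit 6211))) (.node (.leaf (nat_lit 20504)) (.leaf (nat_lit 6260)))) (.node (.node (.leaf (nat_lit 28678)) (.leaf (nat_lit 6237))) (.node (.leaf (nat_lit 4142)) (.leaf (nat_lit 4243))))) (.node (.node (.node (.leaf (nat_lit 30723)) (.leaf (nat_lit 20558))) (.node (.leaf (nat_lit 20517)) (.leaf (nat_lit 10370)))) (.node (.node (.leaf (nat_lit 24589)) (.leaf (nat_lit 4201))) (.node (.leaf (nat_lit 4156)) (.leaf (nat_lit 20648))))))) (.node (.node (.node (.node (.node (.leaf (nat_lit 10240)) (.leaf (nat_lit 24641))) (.node (.leaf (nat_lit 20501)) (.leaf (nat_lit 20590))))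 (.node (.node (.leaf (nat_lit 28677)) (.leaf (nat_lit 6233))) (.node (.leaf (nat_lit 10284)) (.leaf (nat_lit 20624))))) (.node (.node (.node (.leaf (nat_lit 30722)) (.leaf (nat_lit 6217))) (.node (.leaf (nat_lit 20512)) (.leaf (nat_lit 4225)))) (.node (.node (.leaf (nat_lit 30731)) (.leaf (nat_lit 8295))) (.node (.leaf (nat_lit 4153)) (.leaf (nat_lit 30885)))))) (.node (.node (.node (.node (.leaf (nat_lit 12289)) (.leaf (nat_lit 4164))) (.node (.leaf (nat_lit 28699)) (.leaf (nat_lit 4215)))) (.node (.node (.leaf (nat_lit 20488)) (.leaf (nat_lit 20580))) (.node (.leaf (nat_lit 4147)) (.leaf (nat_lit 8341))))) (.node (.node (.node (.leaf (nat_lit 20484)) (.leaf (nat_lit 20561))) (.node (.leaf (nat_lit 20522)) (.leaf (nat_lit 4237)))) (.node (.node (.leaf (nat_lit 6158)) (.leaf (nat_lit 20586))) (.node (.leaf (nat_lit 24636)) (.leaf (nat_lit 20659)))))))) (.node (.node (.node (.node (.node (.node (.leaf (nat_lit 4098)) (.leaf (nat_lit 4159))) (.node (.leaf (nat_lit 6163)) (.leaf (nat_lit 6254)))) (.node (.node (.leaf (nat_lit 12293)) (.leaf (nat_lit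 8280))) (.node (.leaf (nat_lit 6188)) (.leaf (nat_lit 4240))))) (.node (.node (.node (.leaf (nat_lit 24578)) (.leaf (nat_lit 20552))) (.node (.leaf (nat_lit 6174)) (.leaf (nat_lit 4221)))) (.node (.node (.leaf (nat_lit 24587)) (.leaf (nat_lit 30822))) (.node (.leaf (nat_lit 6199)) (.leaf (nat_lit 8357)))))) (.node (.node (.node (.node (.leaf (nat_lit 8193)) (.leaf (nat_lit 20547))) (.node (.leaf (nat_lit 28698)) (.leaf (nat_lit 20597)))) (.node (.node (.leaf (nat_lit 4103)) (.leaf (nat_lit 20579))) (.node (.leaf (nat_lit 4144)) (.leaf (nat_lit 8340))))) (.node (.node (.node (.leaf (nat_lit 8196)) (.leaf (nat_lit 6223))) (.node (.leaf (nat_lit 6184)) (.leaf (nat_lit 8323)))) (.node (.node (.leaf (nat_lit 30733)) (.leaf (nat_lit 8298))) (.node (.leaf (nat_lit 10300)) (.leaf (nat_lit 20649))))))) (.node (.node (.node (.node (.node (.leaf (nat_lit 24576)) (.leaf (nat_lit 8258))) (.node (.leaf (nat_lit 28695)) (.leaf (nat_lit 4208)))) (.node (.node (.leaf (nat_lit 4102)) (.leaf (nat_lit 12379))) (.node (.leaf (nat_lit 6189)) (.leaf (nat_lit 4242)))))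 (.node (.node (.node (.leaf (nat_lit 8195)) (.leaf (nat_lit 6220))) (.node (.leaf (nat_lit 4132)) (.leaf (nat_lit 6274)))) (.node (.node (.leaf (nat_lit 24588)) (.leaf (nat_lit 20583))) (.node (.leaf (nat_lit 20538)) (.leaf (nat_lit 20646)))))) (.node (.node (.node (.node (.leaf (nat_lit 28673)) (.leaf (nat_lit 30788))) (.node (.leaf (nat_lit 24604)) (.leaf (nat_lit 20601)))) (.node (.node (.leaf (nat_lit 4106)) (.leaf (nat_lit 4198))) (.node (.leaf (nat_lit 20532)) (.leaf (nat_lit 20630))))) (.node (.node (.node (.leaf (nat_lit 28676)) (.leaf (nat_lit 6227))) (.node (.leaf (nat_lit 8235)) (.leaf (nat_lit 20621)))) (.node (.node (.leaf (nat_lit 20496)) (.leaf (nat_lit 4204))) (.node (.leaf (nat_lit 8253)) (.leaf (nat_lit 30901))))))))))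

noncomputable def cNL : NT := (.leaf (nat_lit 0))

noncomputable def cNFi : NT := (.leaf (nat_lit 0))

noncomputable def cN : Cert := mkCert 11 2047 cNF cNP cNL cNFi 675 1

theorem cN_c0 : allR 0 500 (checkFact ((rels ++ [wA, wB, wG ++ [9], wH]) ++ trivRels 7) sE cN) = true := by decide +kernel

theorem cN_c1 : allR 500 175 (checkFact ((rels ++ [wA, wB, wG ++ [9], wH]) ++ trivRels 7) sE cN) = true := by decide +kernel

theorem cN_c : CfsgH9.allLt cN.nfacts (checkFact ((rels ++ [wA, wB, wG ++ [9], wH]) ++ trivRels 7) sE cN) = true := by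
  have h0 := cN_c0
  have h1 : allR 0 675 (checkFact ((rels ++ [wA, wB, wG ++ [9], wH]) ++ trivRels 7) sE cN) = true := allR_append (lo := 0) (a := 500) (b := 175) h0 cN_c1
  exact allLt_of_allR_zero h1

def cNT : List (List ℕ × List ℕ) := [([4, 8, 5], [2, 8, 3]), ([4, 6, 5], [2, 10, 3]), ([4, 60, 66, 61, 5], [2, 2, 10, 3, 3]), ([4, 68, 268, 274, 269, 69, 5], [2, 4, 2, 10, 3, 5, 3]), ([10, 16, 11], [4, 8, 5]), ([10, 18, 11], [4, 10, 5]), ([10, 12, 14, 13, 11], [4, 2, 10, 3, 5]), ([10, 28, 164, 170, 165, 29, 11], [4, 4, 2, 10, 3, 5, 5]), ([34, 38, 35], [6, 8, 7]), ([34, 40, 35], [6, 10, 7]), ([34, 212, 214, 213, 35], [6, 2, 10, 3, 7]), ([34, 188, 456, 458, 457, 189, 35], [6, 4, 2, 10, 3, 5, 7]), ([0, 0, 1], [8, 8, 9]), ([0, 2, 1], [8, 10, 9]), ([0, 4, 6, 5, 1], [8, 2, 10, 3, 9]), ([0, 10, 12, 14, 13, 11, 1], [8, 4, 2, 10, 3, 5, 9]), ([2, 0, 3], [10, 8, 11]), ([2, 2, 3], [10, 10, 11]), ([2, 4, 6, 5, 3], [10, 2, 10, 3, 11]), ([2, 10, 12, 14, 13, 11, 3], [10, 4, 2, 10, 3, 5, 11]), ([42, 46, 43], [12, 8, 13]), ([42, 48, 43], [12, 10, 13]), ([42, 230,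 1084, 231, 43], [12, 2, 10, 3, 13]), ([42, 110, 364, 1088, 365, 111, 43], [12, 4, 2, 10, 3, 5, 13]), ([50, 238, 529, 532, 528, 239, 51], [14, 10, 15, 8, 14, 11, 15]), ([50, 238, 529, 534, 528, 239, 51], [14, 10, 15, 10, 14, 11, 15]), ([50, 238, 529, 858, 1348, 859, 528, 239, 51], [14, 10, 15, 2, 10, 3, 14, 11, 15]), ([50, 238, 529, 710, 1134, 1228, 1135, 711, 528, 239, 51], [14, 10, 15, 4, 2, 10, 3, 5, 14, 11, 15])]

theorem cN_t : cNT.all (fun p => checkTgt cN p.1 p.2) = true := by decide +kernel

end CfsgH8.M24P
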