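import Cfsg.Agent.H8.M11Nse

set_option autoImplicit false

/-! Sums of class functions over multiply transitive groups of degree 24. -/

namespace CfsgH8.M24

open CfsgH9 Finset

variable {Γ : Type*} [Group Γ]

/-- the first `k` points have the images listed in `a` -/
def Cnd (act : Γ →* Equiv.Perm (Fin 24)) (k a : ℕ) (g : Γ) : Prop :=
  ∀ l : Fin 24, l.val < k → (act g l).val = dg 5 31 a l

open Classical in
/-- the sum over the elements with prescribed images of the first `k` points -/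
noncomputable def TT [Fintype Γ] (act : Γ →* Equiv.Perm (Fin 24)) (f : Γ → ℕ) (k a : ℕ) : ℕ :=
  ∑ g with Cnd act k a g, f g

open Classical in
/-- the same with the image of one more point -/
noncomputable def UU [Fintype Γ] (act : Γ →* Equiv.Perm (Fin 24)) (f : Γ → ℕ) (k : Fin 24) (a : ℕ)
    (j : Fin 24) : ℕ := ∑ g with (Cnd act k a g ∧ act g k = j), f g

variable [Fintype Γ] {act : Γ →* Equiv.Perm (Fin 24)} {f : Γ → ℕ}

theorem TT_split (k : Fin 24) (a : ℕ) : TT act f k a = ∑ j, UU act f k a j := by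
  classical
  rw [TT, ← sum_fiberwise (g := fun g => act g k)]
  refine sum_congr rfl fun j _ => ?_
  rw [UU, filter_filter]

theorem UU_eq {k : Fin 24} {a b : ℕ} {j : Fin 24} (h1 : ∀ l, l < k.val → dg 5 31 b l = dg 5 31 a l)
    (h2 : dg 5 31 b k = j) : UU act f k a j = TT act f (k + 1) b := by
  classical
  rw [UU, TT]
  refine sum_congr (filter_congr fun g _ => ⟨fun h l hl => ?_, fun h => ⟨fun l hl => ?_, ?_⟩⟩)
    fun _ _ => rfl
  · rcases Nat.lt_succ_iff_lt_or_eq.1 hl with e | e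
    · rw [h1 l e, h.1 l e]
    · rw [Fin.ext e, h.2, h2]
  · rw [h l (by omega), h1 l hl]
  · exact Fin.ext ((h k (by omega)).trans h2)

theorem UU_conj (hf : ∀ g m, f (m * g * m⁻¹) = f g) {k : Fin 24} {a : ℕ} {i j : Fin 24} {m : Γ}
    (h1 : ∀ l : Fin 24, l ≤ k → act m l = l) (h2 : act m i = j)
    (h3 : ∀ l, l < k.val → dg 5 31 a l ≤ k) : UU act f k a j = UU act f k a i := by
  have key : ∀ {m : Γ} {i j : Fin 24}, (∀ l : Fin 24, l ≤ k → act m l = l) → act m i = j → ∀ g,
      Cnd act k a g ∧ act g k = i → Cnd act k a (m * g * m⁻¹) ∧ act (m * g * m⁻¹) k = j := by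
    intro m i j h1 h2 g hg
    have e : ∀ l : Fin 24, l ≤ k → act (m * g * m⁻¹) l = act m (act g l) := fun l hl => by
      rw [map_mul, map_mul, map_inv, Equiv.Perm.mul_apply, Equiv.Perm.mul_apply,
        Equiv.Perm.inv_eq_iff_eq.2 (h1 l hl).symm]
    refine ⟨fun l hl => ?_, by rw [e k le_rfl, hg.2, h2]⟩
    rw [e l (le_of_lt hl), h1 _ (by rw [Fin.le_def, hg.1 l hl]; exact h3 l hl), hg.1 l hl]
  have h1' : ∀ l : Fin 24, l ≤ k → act m⁻¹ l = l := fun l hl => by
    rw [map_inv, Equiv.Perm.inv_eq_iff_eq, h1 l hl]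
  have h2' : act m⁻¹ j = i := by rw [map_inv, Equiv.Perm.inv_eq_iff_eq, h2]
  symm
  refine sum_nbij' (fun g => m * g * m⁻¹) (fun g => m⁻¹ * g * m⁻¹⁻¹) (fun g hg => ?_)
    (fun g hg => ?_) (fun g _ => by group) (fun g _ => by group) fun g _ => (hf g m).symm
  · simp only [mem_filter, mem_univ, true_and] at hg ⊢
    exact key h1 h2 g hg
  · simp only [mem_filter, mem_univ, true_and] at hg ⊢
    exact key h1' h2' g hg

/-- side conditions of the first kind of step -/
def Sd (k a b : ℕ) : Prop :=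
  (∀ l, l < k → dg 5 31 b l = dg 5 31 a l ∧ dg 5 31 a l ≤ k) ∧ dg 5 31 a k ≤ k ∧
    dg 5 31 b k = k + 1 ∧ ∀ j, j < k + 1 → j = dg 5 31 a k ∨ ∃ l, l < k ∧ dg 5 31 a l = j

noncomputable instance (k a b : ℕ) : Decidable (Sd k a b) := by
  unfold Sd; infer_instance

theorem step1 (hf : ∀ g m, f (m * g * m⁻¹) = f g) {k a b : ℕ} (hk : k < 23)
    (ht : ∀ j : Fin 24, k < j → ∃ m, (∀ l : Fin 24, l.val < k + 1 → act m l = l) ∧
      act m ⟨k + 1, by omega⟩ = j) (h : Sd k a b) :
    TT act f k a = TT act f (k + 1) a + (23 - k) * TT act f (k + 1) b := by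
  classical
  obtain ⟨h1, h2, h3, h4⟩ := h
  let K : Fin 24 := ⟨k, by omega⟩
  rw [show TT act f k a = _ from TT_split K a,
    ← sum_filter_add_sum_filter_not _ (fun j : Fin 24 => j ≤ K)]
  congr 1
  · rw [sum_eq_single (⟨dg 5 31 a k, by omega⟩ : Fin 24)]
    · exact UU_eq (k := K) (fun _ _ => rfl) rfl
    · intro j hj hne
      refine sum_eq_zero fun g hg => ?_
      obtain ⟨h5, h6⟩ := (mem_filter.1 hg).2
      rcases h4 j (Nat.lt_succ_of_le (mem_filter.1 hj).2) with e | ⟨l, hl, e⟩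
      · exact absurd (Fin.ext e) hne
      · have := (act g).injective (h6.trans (Fin.ext (e.symm.trans (h5 ⟨l, by omega⟩ hl).symm)))
        exact absurd (congrArg Fin.val this) hl.ne'
    · intro hn
      exact (hn (mem_filter.2 ⟨mem_univ _, h2⟩)).elim
  · rw [sum_const_nat (m := TT act f (k + 1) b) fun j hj => ?_]
    · congr 1
      rw [show (univ.filter fun j : Fin 24 => ¬ j ≤ K) = Ioi K by ext; simp, Fin.card_Ioi]
    · obtain ⟨m, m1, m2⟩ := ht j (not_le.1 (mem_filter.1 hj).2)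
      rw [UU_conj hf (fun l hl => m1 l (Nat.lt_succ_of_le hl)) m2 fun l hl => (h1 l hl).2]
      exact UU_eq (k := K) (fun l hl => (h1 l hl).1) h3

/-- a sum of `n` terms -/
noncomputable def sumN (n : ℕ) (F : ℕ → ℕ) : ℕ :=
  Nat.rec (motive := fun _ => ℕ) 0 (fun i acc => Nat.add acc (F i)) n

theorem sumN_eq (n : ℕ) (F : ℕ → ℕ) : sumN n F = ∑ i : Fin n, F i := by
  rw [← sum_range]
  induction n with
  | zero => rfl
  | succ n ih => rw [sum_range_succ, ← ih]; rfl

variable {M : Model Γ} (hM : ∀ g (l : Fin 24), dg 5 31 (M.enc g) l = act g l)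
include hM

theorem step2 {k : Fin 24} {n : ℕ} {t : NT} (h1 : ∀ j, j < n → M.Mem ⊤ (t.get j))
    (h2 : ∀ j, j < n → ∀ l, l < k.val → dg 5 31 (t.get j) l = l)
    (h3 : ∀ i, i < n → ∀ j, j < n → dg 5 31 (t.get i) k = dg 5 31 (t.get j) k → i = j)
    (h4 : ∀ h, (∀ l : Fin 24, l.val < k → act h l = l) → ∃ j, j < n ∧ dg 5 31 (t.get j) k = act h k)
    {L : ℕ → ℕ} (hL : ∀ c, TT act f (k + 1) (M.enc c) = L (M.enc c)) (c : Γ) :
    TT act f k (M.enc c) = sumN n fun j => frc (M.mul (M.enc c) (t.get j)) L := by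
  classical
  choose! x _ hx using h1
  rw [TT_split, sumN_eq]
  symm
  refine sum_of_injOn (fun j : Fin n => act (c * x j) k) (fun i _ j _ e => ?_)
    (fun _ _ => mem_univ _) (fun i _ hi => sum_eq_zero fun g hg => ?_) fun j _ => ?_
  · simp only [map_mul, Equiv.Perm.mul_apply, EmbeddingLike.apply_eq_iff_eq] at e
    exact Fin.ext (h3 i i.2 j j.2 (by rw [← hx i i.2, ← hx j j.2, hM, hM, e]))
  · obtain ⟨h5, h6⟩ := (mem_filter.1 hg).2
    obtain ⟨j, hj, e⟩ := h4 (c⁻¹ * g) fun l hl => by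
      rw [map_mul, map_inv, Equiv.Perm.mul_apply, Equiv.Perm.inv_eq_iff_eq]
      exact Fin.ext ((h5 l hl).trans (hM c l))
    refine (hi ⟨⟨j, hj⟩, mem_coe.2 (mem_univ _), ?_⟩).elim
    beta_reduce
    rw [← hx j hj, hM] at e
    rw [map_mul, Equiv.Perm.mul_apply, Fin.ext e, ← h6]
    simp
  · rw [frc_eq, ← hx j j.2, ← M.enc_mul, ← hL]
    refine (UU_eq (fun l hl => ?_) (hM _ k)).symm
    have e := hM (x j) ⟨l, by omega⟩
    rw [hx j j.2, h2 j j.2 l hl] at e
    refine (hM _ ⟨l, by omega⟩).trans (Eq.trans ?_ (hM _ ⟨l, by omega⟩).symm)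
    rw [map_mul, Equiv.Perm.mul_apply, show act (x j) ⟨l, by omega⟩ = ⟨l, by omega⟩ from
      Fin.ext e.symm]

theorem step3 {k : ℕ} (h : ∀ g, (∀ l : Fin 24, l.val < k → act g l = l) → g = 1) (c : Γ) :
    TT act f k (M.enc c) = f c := by
  classical
  rw [TT, sum_eq_single c]
  · intro g hg hne
    refine absurd (inv_mul_eq_one.1 (h (c⁻¹ * g) fun l hl => ?_)).symm hne
    rw [map_mul, map_inv, Equiv.Perm.mul_apply, Equiv.Perm.inv_eq_iff_eq]
    exact Fin.ext (((mem_filter.1 hg).2 l hl).trans (hM c l))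
  · intro hn
    exact absurd (mem_filter.2 ⟨mem_univ _, fun l _ => (hM c l).symm⟩) hn

omit hM

/-- search for the order, following seven points -/
noncomputable def ordL7 (a fuel : ℕ) : ℕ → ℕ → ℕ :=
  Nat.rec (motive := fun _ => ℕ → ℕ → ℕ) (fun _ _ => 0)
    (fun _ ih X k => Bool.rec (frc (mulPerm 7 5 31 a X) fun X' => ih X' (Nat.succ k)) k
      (Nat.beq X 6614517792)) fuel

theorem ordL7_succ (a n X k : ℕ) : ordL7 a (n + 1) X k = (Bool.rec (frc (mulPerm 7 5 31 a X)
    fun X' => ordL7 a n X' (k + 1)) k (Nat.beq X 6614517792) : ℕ) := rfl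

/-- the weight of a code -/
noncomputable def wt (a : ℕ) : ℕ :=
  Nat.shiftLeft 1 (Nat.mul 80 (ordL7 a 23 (Nat.land a 34359738367) 1))

/-- the order, if at most 23 -/
noncomputable def o23 {H : Type*} [Group H] (g : H) : ℕ := if orderOf g < 24 then orderOf g else 0

include hM in
theorem wt_enc (h : ∀ g, (∀ l : Fin 24, l.val < 7 → act g l = l) → g = 1)
    (x : Γ) : wt (M.enc x) = 2 ^ (80 * o23 x) := by
  let e7 : Γ → ℕ := fun g => pack 5 (permFn (act g)) 7
  have hd : ∀ g (l : Fin 24), l.val < 7 → dg 5 31 (e7 g) l = act g l := fun g l hl =>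
    (dg_pack (w := 5) (fun i hi => (permFn_lt _ (by omega)).trans_le (by norm_num)) hl).trans
      (permFn_coe _ l)
  have e1 : ∀ g, mulPerm 7 5 31 (M.enc x) (e7 g) = e7 (x * g) := fun g =>
    pack_congr fun i hi => by
      have := hd g ⟨i, by omega⟩ hi
      rw [this, hM, map_mul]
      exact (permFn_coe (act x * act g) ⟨i, by omega⟩).symm
  have e2 : e7 1 = 6614517792 := by
    rw [show (6614517792 : ℕ) = pack 5 (fun i => i) 7 by decide +kernel]
    exact pack_congr fun i hi => by rw [map_one]; exact permFn_coe 1 ⟨i, by omega⟩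
  have e3 : ∀ g, e7 g = 6614517792 → g = 1 := fun g e => h g fun l hl => Fin.ext (by
    rw [← hd g l hl, e, ← e2, hd 1 l hl, map_one]; rfl)
  have key : ∀ fuel k, 0 < k → k ≤ orderOf x → ordL7 (M.enc x) fuel (e7 (x ^ k)) k =
      if orderOf x < k + fuel then orderOf x else 0 := by
    intro fuel
    induction fuel with
    | zero => intro k _ h2; rw [if_neg (by omega)]; rfl
    | succ n ih =>
      intro k h1 h2
      rw [ordL7_succ]
      cases hb : Nat.beq (e7 (x ^ k)) 6614517792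
      · have h3 : k ≠ orderOf x := fun e => Nat.ne_of_beq_eq_false hb (by
          rw [e, pow_orderOf_eq_one, e2])
        beta_reduce
        rw [frc_eq, e1, ← pow_succ', ih (k + 1) (by omega) (by omega), add_assoc, add_comm 1 n]
      · have h3 := orderOf_le_of_pow_eq_one h1 (e3 _ (Nat.eq_of_beq_eq_true hb))
        rw [if_pos (by omega)]
        exact le_antisymm h2 h3
  have e4 : Nat.land (M.enc x) 34359738367 = e7 (x ^ 1) := by
    change M.enc x &&& 34359738367 = _
    rw [show (34359738367 : ℕ) = pack 5 (fun _ => 2 ^ 5 - 1) 7 by decide +kernel,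
      and_pack _ fun _ _ => by norm_num, pow_one]
    exact pack_congr fun i hi => (dg_and_mask _ _ _).trans
      ((hM x ⟨i, by omega⟩).trans (permFn_coe _ ⟨i, by omega⟩).symm)
  rw [wt, e4, key 23 1 one_pos (orderOf_pos x)]
  exact Nat.one_shiftLeft _

theorem o23_conj (g m : Γ) : o23 (m * g * m⁻¹) = o23 g := by
  rw [o23, o23, ← MulAut.conj_apply, MulEquiv.orderOf_eq]

theorem nord_of_sum {H : Type*} [Group H] (ι : H →* Γ) (hι : Function.Injective ι)
    (hact : Function.Injective act) {k a N : ℕ} (h1 : ∀ g, Cnd act k a g ↔ g ∈ ι.range)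
    (h2 : TT act (fun g => 2 ^ (80 * o23 g)) k a = N) (h0 : dg 80 (2 ^ 80 - 1) N 0 = 0) (d : ℕ) :
    nord H d = if d < 24 then dg 80 (2 ^ 80 - 1) N d else 0 := by
  classical
  have : Finite H := Finite.of_injective ι hι
  have := Fintype.ofFinite H
  have hc : Fintype.card H < 2 ^ 80 := (Fintype.card_le_of_injective _ (hact.comp hι)).trans_lt (by
    rw [Fintype.card_perm, Fintype.card_fin]; decide +kernel)
  have ho : ∀ g : H, o23 g < 24 := fun g => by unfold o23; split_ifs <;> omega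
  have h3 : N = pack 80 (fun d => #{g : H | o23 g = d}) 24 := by
    rw [← h2, TT, pack_eq_sum, ← sum_of_injOn (s := univ) (f := fun g : H => 2 ^ (80 * o23 g)) ι
      (hι.injOn) (fun g _ => mem_filter.2 ⟨mem_univ _, (h1 _).2 ⟨g, rfl⟩⟩)
      (fun g hg hn => (hn (by
        obtain ⟨x, rfl⟩ := (h1 g).1 (mem_filter.1 hg).2
        exact ⟨x, mem_coe.2 (mem_univ x), rfl⟩)).elim)
      (fun g _ => by rw [o23, o23, orderOf_injective ι hι]),
      ← sum_fiberwise_of_maps_to (g := o23) (t := range 24) fun g _ => mem_range.2 (ho g)]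
    exact sum_congr rfl fun d _ => sum_const_nat fun g hg => by rw [(mem_filter.1 hg).2]
  have h4 : ∀ d, d < 24 → dg 80 (2 ^ 80 - 1) N d = #{g : H | o23 g = d} := fun d hd => by
    rw [h3, dg_pack (fun i _ => (card_le_univ _).trans_lt hc) hd]
  have h5 : ∀ g : H, orderOf g < 24 := fun g => by
    by_contra hn
    rw [h4 0 (by norm_num), card_eq_zero, filter_eq_empty_iff] at h0
    exact h0 (mem_univ g) (if_neg hn)
  split_ifs with hd
  · rw [h4 d hd, nord, Nat.card_eq_fintype_card, Fintype.card_subtype]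
    exact congrArg card (filter_congr fun g _ => by rw [o23, if_pos (h5 g)])
  · exact nord_eq_zero_iff.2 fun g e => hd (e ▸ h5 g)

theorem card_of_nord {H : Type*} [Group H] [Finite H] {T : ℕ → ℕ}
    (h : ∀ d, nord H d = if d < 24 then T d else 0) : Nat.card H = ∑ d ∈ range 24, T d := by
  classical
  have := Fintype.ofFinite H
  rw [Nat.card_eq_fintype_card, ← card_univ, card_eq_sum_card_fiberwise
    (f := fun g : H => orderOf g) (t := range 24) fun g _ => ?_]
  · refine sum_congr rfl fun d hd => ?_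
    have := h d
    rwa [if_pos (mem_range.1 hd), nord, Nat.card_eq_fintype_card, Fintype.card_subtype] at this
  · by_contra hn
    have := h (orderOf g)
    rw [if_neg fun e => hn (mem_coe.2 (mem_range.2 e))] at this
    exact nord_eq_zero_iff.1 this g rfl

end CfsgH8.M24
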