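import Cfsg.Agent.H8.M24Gen

set_option autoImplicit false
set_option maxRecDepth 100000

/-! A model of `M24`: transversals for a base of seven points. -/

namespace CfsgH8.M24

open CfsgH9 Cfsg Golay Finset

/-- renumbering of the points -/
def rho : Equiv.Perm (Fin 24) := ⟨![23, 11, 0, 1, 2, 3, 12, 16, 18, 4, 5, 6, 7, 8, 9, 10, 13, 14, 15, 17, 19, 20, 21, 22], ![2, 3, 4, 5, 9, 10, 11, 12, 13, 14, 15, 1, 6, 16, 17, 18, 7, 19, 8, 20, 21, 22, 23, 0], by decide +kernel, by decide +kernel⟩

/-- The action of `M24` on `Fin 24`. -/
def act : M24 →* Equiv.Perm (Fin 24) :=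
  (MulAut.conj rho⁻¹).toMonoidHom.comp (toFin.comp M24.subtype)

theorem rho_act (g : M24) (i : Fin 24) : rho (act g i) = toFin g (rho i) := by
  simp [act]

theorem act_inj : Function.Injective act :=
  (MulAut.conj rho⁻¹).injective.comp (ptE.permCongrHom.injective.comp Subtype.val_injective)

noncomputable def MM : Model M24 :=
  (permModel 24 (nat_lit 5) (nat_lit 31) (nat_lit 984818244535754528103549039458486304) (by norm_num) (by norm_num)
    (by decide +kernel)).comap act act_inj

theorem comap_enc {G : Type*} [Group G] {n w mask one : ℕ} {hw : n ≤ 2 ^ w}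
    {hm : mask = 2 ^ w - 1} {ho : pack w (fun i => i) n = one} {f : G →* Equiv.Perm (Fin n)}
    {hf : Function.Injective f} (g : G) (i : Fin n) :
    dg w mask (((permModel n w mask one hw hm ho).comap f hf).enc g) i = f g i :=
  dg_encPerm hw hm _ i

theorem MM_dg (g : M24) (i : Fin 24) : dg 5 31 (MM.enc g) i = act g i :=
  comap_enc g i

def p0 : Equiv.Perm (Fin 24) := ⟨![1, 2, 3, 12, 13, 6, 14, 8, 16, 18, 19, 0, 4, 5, 15, 7, 17, 9, 10, 20, 21, 22, 11, 23], ![11, 0, 1, 2, 12, 13, 5, 15, 7, 17, 18, 22, 3, 4, 6, 14, 8, 16, 9, 10, 19, 20, 21, 23], by decide +kernel, by decide +kernel⟩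

theorem q0_mem : ptE.symm.permCongr p0 ∈ M24 :=
  mem_M24_of (act_basis_mem [1187, 133, 1673, 2721, 1025, 705, 1569, 289, 1185, 545, 1537, 1712] (by decide +kernel))
    (act_basis_mem [592, 257, 1794, 340, 3904, 1088, 816, 1360, 1680, 1040, 576, 1880] (by decide +kernel))

theorem enc_0 : MM.enc ⟨_, q0_mem⟩ = 72313698651633245015554612303891520 := by decide +kernel

def p1 : Equiv.Perm (Fin 24) := ⟨![22, 15, 17, 18, 19, 20, 12, 21, 13, 14, 16, 23, 6, 8, 9, 1, 10, 2, 3, 4, 5, 7, 0, 11], ![22, 15, 17, 18, 19, 20, 12, 21, 13, 14, 16, 23, 6, 8, 9, 1, 10, 2, 3, 4, 5, 7, 0, 11], by decide +kernel, by decide +kernel⟩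

theorem q1_mem : ptE.symm.permCongr p1 ∈ M24 :=
  mem_M24_of (act_basis_mem [779, 1187, 1055, 1830, 1592, 662, 3468, 1937, 442, 309, 685, 2047] (by decide +kernel))
    (act_basis_mem [779, 1187, 1055, 1830, 1592, 662, 3468, 1937, 442, 309, 685, 2047] (by decide +kernel))

theorem enc_1 : MM.enc ⟨_, q1_mem⟩ = 99070860087381900123534655768583169 := by decide +kernel

def p2 : Equiv.Perm (Fin 24) := ⟨![10, 4, 2, 1, 0, 9, 7, 5, 6, 8, 3, 11, 21, 12, 13, 19, 18, 17, 15, 22, 14, 20, 16, 23], ![4, 3, 2, 10, 1, 7, 8, 6, 9, 5, 0, 11, 13, 14, 20, 18, 22, 17, 16, 15, 21, 12, 19, 23], by decide +kernel, by decide +kernel⟩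

theorem q2_mem : ptE.symm.permCongr p2 ∈ M24 :=
  mem_M24_of (act_basis_mem [3072, 16, 4, 2050, 1, 512, 2176, 2080, 2112, 2304, 8, 2048] (by decide +kernel))
    (act_basis_mem [16, 2056, 4, 1024, 2, 2176, 2304, 2112, 2560, 32, 2049, 2048] (by decide +kernel))

theorem enc_2 : MM.enc ⟨_, q2_mem⟩ = 318747718528360504253499481346325536 := by decide +kernel

noncomputable def s0 : NT := (.node (.node (.leaf (nat_lit 72313698651633245015554612303891520)) (.leaf (nat_lit 318747718528360504253499481346325536))) (.leaf (nat_lit 99070860087381900123534655768583169)))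

theorem s0_mem : ∀ a, a < 3 → MM.Mem ⊤ (s0.get a) := by
  intro a ha
  interval_cases a
  · exact ⟨_, trivial, enc_0⟩
  · exact ⟨_, trivial, enc_1⟩
  · exact ⟨_, trivial, enc_2⟩

noncomputable def s4 : NT := (.node (.leaf (nat_lit 880627654828755672183465837325289504)) (.leaf (nat_lit 304333417881531407304757015948134432)))

noncomputable def s4w : NT := (.node (.leaf (nat_lit 25156991)) (.leaf (nat_lit 1029011870)))

theorem s4_mem : ∀ a, a < 2 → MM.Mem ⊤ (s4.get a) :=
  Model.mem_of_subCheck (by norm_num) s0_mem (ws := s4w) (fuel := 20) (by decide +kernel)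

noncomputable def t1 : NT := (.node (.node (.node (.node (.node (.leaf (nat_lit 984818244535754528103549039458486304)) (.leaf (nat_lit 391017742138807021219261988925553184))) (.leaf (nat_lit 624684998708684226902966486360494368))) (.node (.node (.leaf (nat_lit 52633306913304644592190544764078240)) (.leaf (nat_lit 143737140840512357624414834919680672))) (.leaf (nat_lit 667667004633825284604017519812203936)))) (.node (.node (.node (.leaf (nat_lit 85336036590371989523218710264975456)) (.leaf (nat_lit 268135212009519694262285819650268768))) (.leaf (nat_lit 919362623038593873268865575625631072))) (.node (.node (.leaf (nat_lit 233074768385828925010195019930589408)) (.leaf (nat_lit 648616579764974308789488418738510560))) (.leaf (nat_lit 51498833788256515538019623854286304))))) (.node (.node (.node (.node (.leaf (nat_lit 72313698651633245015554612303891520)) (.leaf (nat_lit 674485760952086193717145294720442944))) (.leaf (nat_lit 876797696243019126344152466528049472))) (.node (.node (.leaf (nat_lit 103291389598589430764363447355477184)) (.leaf (nat_lit 176595715261323026478466634652888768)))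 (.leaf (nat_lit 718371718039053342914404532461099456)))) (.node (.node (.node (.leaf (nat_lit 127281597218235128590172010994406528)) (.leaf (nat_lit 108655695285993763730748624771138176))) (.leaf (nat_lit 878229933577872978761869950975674752))) (.node (.leaf (nat_lit 149937255217152973671843135515350272)) (.leaf (nat_lit 834162762528884935392978194786293248))))))

noncomputable def t1w : NT := (.node (.node (.node (.node (.node (.leaf (nat_lit 0)) (.leaf (nat_lit 471))) (.leaf (nat_lit 23))) (.node (.node (.leaf (nat_lit 31)) (.leaf (nat_lit 117))) (.leaf (nat_lit 5983)))) (.node (.node (.node (.leaf (nat_lit 5)) (.leaf (nat_lit 1917))) (.leaf (nat_lit 1493))) (.node (.node (.leaf (nat_lit 479)) (.leaf (nat_lit 119))) (.leaf (nat_lit 7))))) (.node (.node (.node (.node (.leaf (nat_lit 1)) (.leaf (nat_lit 1885))) (.leaf (nat_lit 373))) (.node (.node (.leaf (nat_lit 125)) (.leaf (nat_lit 469))) (.leaf (nat_lit 1495)))) (.node (.node (.node (.leaf (nat_lit 21)) (.leaf (nat_lit 29))) (.leaf (nat_lit 5975))) (.node (.leaf (nat_lit 1919)) (.leaf (nat_lit 93))))))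

theorem t1_mem : ∀ a, a < 23 → MM.Mem ⊤ (t1.get a) :=
  Model.mem_of_subCheck (by norm_num) s0_mem (ws := t1w) (fuel := 20) (by decide +kernel)

noncomputable def t2 : NT := (.node (.node (.node (.node (.node (.leaf (nat_lit 984818244535754528103549039458486304)) (.leaf (nat_lit 275338123729985378877268536869603360))) (.leaf (nat_lit 884900432935785281584824628851943456))) (.node (.node (.leaf (nat_lit 505379958508665121795750399773808672)) (.leaf (nat_lit 468828586887699825898655396665579552))) (.leaf (nat_lit 709607210009342370422169771968673824)))) (.node (.node (.node (.leaf (nat_lit 215913087703886591746840449936527392)) (.leaf (nat_lit 944089335066522493684211585628196896))) (.leaf (nat_lit 380474376240616945316346514712506400))) (.node (.leaf (nat_lit 817935525440475990057879935505604640)) (.leaf (nat_lit 803716179771694405598800789015871520))))) (.node (.node (.node (.node (.leaf (nat_lit 768714227393150076558354242848918560)) (.leaf (nat_lit 979244228824579812178190634929409056))) (.leaf (nat_lit 144307350669057240593410807989546016))) (.node (.node (.leaf (nat_lit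 717169893168941910648166724914224160)) (.leaf (nat_lit 881497740647963359198465623306198048))) (.leaf (nat_lit 318747718528360504253499481346325536)))) (.node (.node (.node (.leaf (nat_lit 355032952655522133720717930824537120)) (.leaf (nat_lit 971542047000145321024328739023475744))) (.leaf (nat_lit 684778927072987512443266366137742368))) (.node (.leaf (nat_lit 839471949790841426597187536883459104)) (.leaf (nat_lit 304292565209826224449388481592083488))))))

noncomputable def t2w : NT := (.node (.node (.node (.node (.node (.leaf (nat_lit 0)) (.leaf (nat_lit 7509))) (.leaf (nat_lit 8053))) (.node (.node (.leaf (nat_lit 1441141)) (.leaf (nat_lit 350165))) (.leaf (nat_lit 32215)))) (.node (.node (.node (.leaf (nat_lit 21877)) (.leaf (nat_lit 30039))) (.leaf (nat_lit 644443))) (.node (.leaf (nat_lit 57205)) (.leaf (nat_lit 784246))))) (.node (.node (.node (.node (.leaf (nat_lit 63)) (.leaf (nat_lit 15837))) (.leaf (nat_lit 161110))) (.node (.node (.leaf (nat_lit 480639)) (.leaf (nat_lit 120159))) (.leaf (nat_lit 3)))) (.node (.node (.node (.leaf (nat_lit 15)) (.leaf (nat_lit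 120701))) (.leaf (nat_lit 128863))) (.node (.leaf (nat_lit 255)) (.leaf (nat_lit 482807))))))

theorem t2_mem : ∀ a, a < 22 → MM.Mem ⊤ (t2.get a) :=
  Model.mem_of_subCheck (by norm_num) s0_mem (ws := t2w) (fuel := 20) (by decide +kernel)

noncomputable def t3 : NT := (.node (.node (.node (.node (.node (.leaf (nat_lit 984818244535754528103549039458486304)) (.leaf (nat_lit 693633184864681749604391840319637536))) (.leaf (nat_lit 835416861210386830109308371816777760))) (.node (.node (.leaf (nat_lit 944577666422717237531722252686690336)) (.leaf (nat_lit 315987827265378509345366487891413024))) (.leaf (nat_lit 443425773990375928340505543427196960)))) (.node (.node (.node (.leaf (nat_lit 301898767971429020406628576557959200)) (.leaf (nat_lit 176997130784527958290340288849938464))) (.leaf (nat_lit 262344318060714247500859537873078304))) (.node (.leaf (nat_lit 174417655626889169403139891569920032)) (.leaf (nat_lit 225390119020258674655088394014066720))))) (.node (.node (.node (.node (.leaf (nat_lit 973131210498333903591393294283835424)) (.leaf (nat_lit 344845550864704531482791102585112608)))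 (.leaf (nat_lit 844420382053514217570950232984127520))) (.node (.leaf (nat_lit 524002016911058140435969979223115808)) (.leaf (nat_lit 895294840459004761460063333701388320)))) (.node (.node (.node (.leaf (nat_lit 978003316720995384337225952446842912)) (.leaf (nat_lit 551091425402478029159859352473634848))) (.leaf (nat_lit 894997276195038205813976492758468640))) (.node (.leaf (nat_lit 599188228292521058288923329013549088)) (.leaf (nat_lit 402580021640658785187462658023557152))))))

noncomputable def t3w : NT := (.node (.node (.node (.node (.node (.leaf (nat_lit 0)) (.leaf (nat_lit 4185567))) (.leaf (nat_lit 64346069))) (.node (.node (.leaf (nat_lit 56065525)) (.leaf (nat_lit 8249181))) (.leaf (nat_lit 2579958)))) (.node (.node (.node (.leaf (nat_lit 7831005)) (.leaf (nat_lit 1504879))) (.leaf (nat_lit 3538399))) (.node (.leaf (nat_lit 194422)) (.leaf (nat_lit 3495775))))) (.node (.node (.node (.node (.leaf (nat_lit 1911)) (.leaf (nat_lit 10083801))) (.leaf (nat_lit 12023551))) (.node (.leaf (nat_lit 24633181)) (.leaf (nat_lit 32880239)))) (.node (.node (.node (.leaf (nat_lit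 40411)) (.leaf (nat_lit 220661))) (.leaf (nat_lit 8254847))) (.node (.leaf (nat_lit 3521947)) (.leaf (nat_lit 259391327))))))

theorem t3_mem : ∀ a, a < 21 → MM.Mem ⊤ (t3.get a) :=
  Model.mem_of_subCheck (by norm_num) s0_mem (ws := t3w) (fuel := 20) (by decide +kernel)

noncomputable def t4 : NT := (.node (.node (.node (.node (.node (.leaf (nat_lit 984818244535754528103549039458486304)) (.leaf (nat_lit 304333417881531407304757015948134432))) (.leaf (nat_lit 692212302854274704509391720677476384))) (.node (.leaf (nat_lit 390287255943198215280358272341739552)) (.leaf (nat_lit 186580997403037993942248389964040224)))) (.node (.node (.node (.leaf (nat_lit 422337592957356228804072791582279712)) (.leaf (nat_lit 310790110248363351599432890457360416))) (.leaf (nat_lit 927006594068893467195588916690389024))) (.node (.leaf (nat_lit 466379606262162535698634570482157600)) (.leaf (nat_lit 593407832008260623915250266046302240))))) (.node (.node (.node (.node (.leaf (nat_lit 936412835265151032992461041976838176)) (.leaf (nat_lit 561524061198223598313316704809224224))) (.leaf (nat_lit 800025041066950049184049352835958816)))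 (.node (.leaf (nat_lit 880627654828755672183465837325289504)) (.leaf (nat_lit 356499495021114331021737553967548448)))) (.node (.node (.node (.leaf (nat_lit 561551055773441014816070430981457952)) (.leaf (nat_lit 261663982041739760657261741183436832))) (.leaf (nat_lit 350081541986210707588468707844786208))) (.node (.leaf (nat_lit 642158209138607838834095988581435424)) (.leaf (nat_lit 919450280204301344621118143530633248))))))

noncomputable def t4w : NT := (.node (.node (.node (.node (.node (.leaf (nat_lit 0)) (.leaf (nat_lit 2))) (.leaf (nat_lit 8))) (.node (.leaf (nat_lit 43)) (.leaf (nat_lit 14)))) (.node (.node (.node (.leaf (nat_lit 161)) (.leaf (nat_lit 130))) (.leaf (nat_lit 52))) (.node (.leaf (nat_lit 16)) (.leaf (nat_lit 5))))) (.node (.node (.node (.node (.leaf (nat_lit 53)) (.leaf (nat_lit 50))) (.leaf (nat_lit 80))) (.node (.leaf (nat_lit 1)) (.leaf (nat_lit 17)))) (.node (.node (.node (.leaf (nat_lit 4)) (.leaf (nat_lit 232))) (.leaf (nat_lit 25))) (.node (.leaf (nat_lit 26)) (.leaf (nat_lit 77))))))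

theorem t4_mem : ∀ a, a < 20 → MM.Mem ⊤ (t4.get a) :=
  Model.mem_of_subCheck (by norm_num) s4_mem (ws := t4w) (fuel := 20) (by decide +kernel)

noncomputable def t5 : NT := (.node (.node (.node (.node (.leaf (nat_lit 984818244535754528103549039458486304)) (.leaf (nat_lit 854598910899187837514265551618279456))) (.node (.leaf (nat_lit 642049013211847410011775695239350304)) (.leaf (nat_lit 396142618052947246681174823091144736)))) (.node (.node (.leaf (nat_lit 754888043876252087951264462785316896)) (.leaf (nat_lit 433117611581754118772049525356988448))) (.node (.leaf (nat_lit 552148729408583583778654700754274336)) (.leaf (nat_lit 387612762076069021212657896103446560))))) (.node (.node (.node (.leaf (nat_lit 930124185318540658151587603646875680)) (.leaf (nat_lit 476933821873655216838809030502746144))) (.node (.leaf (nat_lit 603007895345735659145198777009276960)) (.leaf (nat_lit 805032591284073737743190300733573152)))) (.node (.node (.leaf (nat_lit 879463838749917713787595017829845024)) (.leaf (nat_lit 723949291710570399064957810481661984))) (.node (.leaf (nat_lit 528780938778653450062463241218525216))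 (.leaf (nat_lit 234452825700013794788874507367057440))))))

noncomputable def t5w : NT := (.node (.node (.node (.node (.leaf (nat_lit 0)) (.leaf (nat_lit 7))) (.node (.leaf (nat_lit 70)) (.leaf (nat_lit 30362)))) (.node (.node (.leaf (nat_lit 1421)) (.leaf (nat_lit 12113))) (.node (.leaf (nat_lit 16730)) (.leaf (nat_lit 17387))))) (.node (.node (.node (.leaf (nat_lit 6278)) (.leaf (nat_lit 3617))) (.node (.leaf (nat_lit 2078)) (.leaf (nat_lit 6313)))) (.node (.node (.leaf (nat_lit 10903)) (.leaf (nat_lit 4121))) (.node (.leaf (nat_lit 10097)) (.leaf (nat_lit 4019))))))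

theorem t5_mem : ∀ a, a < 16 → MM.Mem ⊤ (t5.get a) :=
  Model.mem_of_subCheck (by norm_num) s4_mem (ws := t5w) (fuel := 20) (by decide +kernel)

noncomputable def t6 : NT := (.node (.node (.leaf (nat_lit 984818244535754528103549039458486304)) (.leaf (nat_lit 553814112686604076271979760338438176))) (.leaf (nat_lit 596573471380362845142712290207959072)))

noncomputable def t6w : NT := (.node (.node (.leaf (nat_lit 0)) (.leaf (nat_lit 56528))) (.leaf (nat_lit 91597)))

theorem t6_mem : ∀ a, a < 3 → MM.Mem ⊤ (t6.get a) :=
  Model.mem_of_subCheck (by norm_num) s4_mem (ws := t6w) (fuel := 20) (by decide +kernel)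

noncomputable def lf : NT := (.node (.node (.node (.node (.leaf (nat_lit 984818244535754528103549039458486304)) (.leaf (nat_lit 632533184889164620647703742298294273))) (.node (.leaf (nat_lit 608119115371686098281765077027750976)) (.leaf (nat_lit 568744382270437892718890656509034561)))) (.node (.node (.leaf (nat_lit 734933646455116852047964227032386592)) (.leaf (nat_lit 966505406108534492102642525791128577))) (.node (.leaf (nat_lit 605287577815733889876496312489249856)) (.leaf (nat_lit 934028620960537098782111891960368193))))) (.node (.node (.node (.leaf (nat_lit 973131210498333903591393294283835424)) (.leaf (nat_lit 612151216437962489819783215329708033))) (.node (.leaf (nat_lit 720693740440116160831446848866747456)) (.leaf (nat_lit 153805965464602272989213696230293569)))) (.node (.node (.leaf (nat_lit 760942863886263309253153991735512096)) (.leaf (nat_lit 713238920489933130829820627064589313))) (.node (.leaf (nat_lit 72313698651633245015554612303891520)) (.leaf (nat_lit 563865622130630601530245410135870529))))))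

noncomputable def lfw : NT := (.node (.node (.node (.node (.leaf (nat_lit 0)) (.leaf (nat_lit 525719003))) (.node (.leaf (nat_lit 16088919)) (.leaf (nat_lit 162889599)))) (.node (.node (.leaf (nat_lit 1539927)) (.leaf (nat_lit 23025369))) (.node (.leaf (nat_lit 23033687)) (.leaf (nat_lit 225828694))))) (.node (.node (.node (.leaf (nat_lit 1911)) (.leaf (nat_lit 259382614))) (.node (.leaf (nat_lit 351615)) (.leaf (nat_lit 40302454)))) (.node (.node (.leaf (nat_lit 122367)) (.leaf (nat_lit 57079263))) (.node (.leaf (nat_lit 1)) (.leaf (nat_lit 1408502))))))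

theorem lf_mem : ∀ a, a < 16 → MM.Mem ⊤ (lf.get a) :=
  Model.mem_of_subCheck (by norm_num) s0_mem (ws := lfw) (fuel := 20) (by decide +kernel)

/-- the colouring by the first `k` points -/
noncomputable def X0 (k : ℕ) : ℕ :=
  pack 48 (fun i => hashc (Bool.rec 0 (Nat.succ (permFn rho⁻¹ i)) (Nat.blt (permFn rho⁻¹ i) k))) 24

theorem X0_inv {k : ℕ} {g : M24} (h : ∀ l : Fin 24, l.val < k → act g l = l) :
    CInv 48 281474976710655 (toFin g) (X0 k) := by
  apply CInv.of_pack (by norm_num) (by norm_num)
  intro i
  obtain ⟨i, rfl⟩ := rho.surjective i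
  rw [← rho_act, permFn_coe, permFn_coe, Equiv.Perm.coe_inv, Equiv.symm_apply_apply,
    Equiv.symm_apply_apply]
  by_cases h1 : i.val < k
  · rw [h i h1]
  have h2 : ¬ (act g i).val < k := fun hc => h1 (by
    have := (act g).injective (h _ hc)
    rwa [this] at hc)
  rw [← Nat.blt_eq, Bool.not_eq_true] at h1 h2
  rw [h1, h2]

noncomputable def X5 : ℕ := 178243756781388015032718730041575275157316209509318849734386722820459931124931440919017122326389943351004139405408646442860284115045197730333514362955307998588582936710894989810025295665584296471013025360878361301038468948080748616709555051197884985815993981724433997641406262387669359314139686265804751515877175711978687856182889718207248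

noncomputable def X7 : ℕ := 112819406511783639933105831340008634591984476600179761437337251841677265614891439682858844775735096658749633395880929581281460690888742638870996085081547681083917349999950664156213334342084456761361294818140665320689847335386848689393611686654128176691011168011288650105431350821518435758286963883818333047029259998606358840272277876744099

noncomputable def X8 : ℕ := 30312441957560733656174667504750910504672413905450135317014860845978093082209849702102671836313408566970091398819221856464545136601243146987589064414376378518706083215071705268148862901597535965526003575967960101622594478999135689607275328148487784536086456320998697653567200469772893576967996611351108970081049739198279785247324393556737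

theorem X5_eq : gstep (X0 5) = X5 := by decide +kernel

theorem X7_eq : gstep (X0 7) = X7 := by decide +kernel

theorem X8_eq : gstep X7 = X8 := by decide +kernel

noncomputable def XI : NT := (.node (.node (.node (.node (.leaf (nat_lit 0)) (.node (.node (.node (.node (.leaf (nat_lit 0)) (.node (.leaf (nat_lit 19)) (.leaf (nat_lit 2)))) (.leaf (nat_lit 0))) (.leaf (nat_lit 0))) (.leaf (nat_lit 0)))) (.node (.node (.node (.leaf (nat_lit 0)) (.node (.leaf (nat_lit 14)) (.leaf (nat_lit 12)))) (.leaf (nat_lit 15))) (.leaf (nat_lit 0)))) (.node (.node (.node (.node (.node (.leaf (nat_lit 21)) (.leaf (nat_lit 18))) (.leaf (nat_lit 10))) (.leaf (nat_lit 0))) (.node (.node (.node (.leaf (nat_lit 0)) (.node (.node (.leaf (nat_lit 4)) (.leaf (nat_lit 8))) (.leaf (nat_lit 0)))) (.leaf (nat_lit 0))) (.leaf (nat_lit 3)))) (.node (.leaf (nat_lit 23)) (.node (.leaf (nat_lit 0)) (.node (.leaf (nat_lit 6)) (.leaf (nat_lit 17))))))) (.node (.node (.node (.node (.node (.leaf (nat_lit 0)) (.leaf (nat_lit 22))) (.leaf (nat_lit 0))) (.leaf (nat_lit 16))) (.node (.leaf (nat_lit 0)) (.node (.leaf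 (nat_lit 5)) (.leaf (nat_lit 11))))) (.node (.node (.leaf (nat_lit 20)) (.leaf (nat_lit 9))) (.node (.leaf (nat_lit 13)) (.node (.leaf (nat_lit 1)) (.leaf (nat_lit 7)))))))

theorem base (g : M24) (h : ∀ l : Fin 24, l.val < 7 → act g l = l) : g = 1 := by
  have h1 := CInv.gstep g.2 (X0_inv h)
  rw [X7_eq] at h1
  have h2 := CInv.gstep g.2 h1
  rw [X8_eq] at h2
  exact Subtype.ext (ptE.permCongrHom.injective
    ((h2.eq_one (I := XI) (by decide +kernel)).trans (map_one _).symm))

theorem col5 {g : M24} (h : ∀ l : Fin 24, l.val < 5 → act g l = l) (i : Fin 24) :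
    dg 48 281474976710655 X5 (rho (act g i)) = dg 48 281474976710655 X5 (rho i) := by
  have h1 := CInv.gstep g.2 (X0_inv h)
  rw [X5_eq] at h1
  rw [rho_act, h1]

theorem trans_of {k : ℕ} (hk : k < 23) {t : NT} (h1 : ∀ a, a < 23 - k → MM.Mem ⊤ (t.get a))
    (h2 : ∀ a, a < 23 - k → (∀ l, l < k + 1 → dg 5 31 (t.get a) l = l) ∧
      dg 5 31 (t.get a) (k + 1) = k + 1 + a) (j : Fin 24) (hj : k < j) :
    ∃ m, (∀ l : Fin 24, l.val < k + 1 → act m l = l) ∧ act m ⟨k + 1, by omega⟩ = j := by
  obtain ⟨m, -, e⟩ := h1 (j - (k + 1)) (by omega)
  obtain ⟨h3, h4⟩ := h2 (j - (k + 1)) (by omega)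
  rw [← e] at h3 h4
  exact ⟨m, fun l hl => Fin.ext ((MM_dg m l).symm.trans (h3 l hl)),
    Fin.ext ((MM_dg m ⟨k + 1, by omega⟩).symm.trans (h4.trans (by omega)))⟩

noncomputable def L6 (a : ℕ) : ℕ := sumN 3 fun j => frc (MM.mul a (t6.get j)) wt

noncomputable def L5 (a : ℕ) : ℕ := sumN 16 fun j => frc (MM.mul a (t5.get j)) L6

noncomputable def L4 (a : ℕ) : ℕ := sumN 20 fun j => frc (MM.mul a (t4.get j)) L5

noncomputable instance : Fintype M24 := Fintype.ofFinite _

/-- the sums of the weights -/
noncomputable def TW (k a : ℕ) : ℕ := TT act (fun g => 2 ^ (80 * o23 g)) k a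

theorem TW6 (c : M24) : TW 6 (MM.enc c) = L6 (MM.enc c) :=
  step2 MM_dg (k := 6) t6_mem (by decide +kernel) (by decide +kernel)
    (fun h e => (by decide +kernel : ∀ j : Fin 24, dg 48 281474976710655 X5 (rho j) =
      dg 48 281474976710655 X5 (rho 6) → ∃ i, i < 3 ∧ dg 5 31 (t6.get i) (6 : Fin 24) = j) _
      (col5 (fun l hl => e l (hl.trans (by decide))) 6))
    (fun c => (step3 MM_dg base c).trans (wt_enc MM_dg base c).symm) c

theorem TW5 (c : M24) : TW 5 (MM.enc c) = L5 (MM.enc c) :=
  step2 MM_dg (k := 5) t5_mem (by decide +kernel) (by decide +kernel)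
    (fun h e => (by decide +kernel : ∀ j : Fin 24, dg 48 281474976710655 X5 (rho j) =
      dg 48 281474976710655 X5 (rho 5) → ∃ i, i < 16 ∧ dg 5 31 (t5.get i) (5 : Fin 24) = j) _
      (col5 e 5)) TW6 c

theorem TW4 (c : M24) : TW 4 (MM.enc c) = L4 (MM.enc c) :=
  step2 MM_dg (k := 4) t4_mem (by decide +kernel) (by decide +kernel)
    (fun h e => (by decide +kernel : ∀ j : Fin 24, ¬ j.val < 4 →
      ∃ i, i < 20 ∧ dg 5 31 (t4.get i) (4 : Fin 24) = j) _ fun hc =>
      absurd ((act h).injective (e _ hc) ▸ hc) (by decide)) TW5 c

theorem TW_leaf {i N : ℕ} (hi : i < 16) (h : L4 (lf.get i) = N) : TW 4 (lf.get i) = N := by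
  obtain ⟨c, -, e⟩ := lf_mem i hi
  rw [← h, ← e, TW4]

theorem TW_step {k a b : ℕ} (hk : k < 4) (h : Sd k a b) :
    TW k a = TW (k + 1) a + (23 - k) * TW (k + 1) b := by
  refine step1 (fun g m => by rw [o23_conj]) (by omega) ?_ h
  interval_cases k
  · exact trans_of (by norm_num) t1_mem (by decide +kernel)
  · exact trans_of (by norm_num) t2_mem (by decide +kernel)
  · exact trans_of (by norm_num) t3_mem (by decide +kernel)
  · exact trans_of (by norm_num) t4_mem (by decide +kernel)

end CfsgH8.M24
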