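import Cfsg.Agent.H4.MX1
import Cfsg.Agent.FT.Base9

set_option autoImplicit false
set_option linter.unusedSectionVars false
set_option maxHeartbeats 400000

/-! S3717, lemma X, step 1: a `c`-invariant Sylow 2-subgroup. -/

namespace CfsgM11

open Subgroup CfsgH5 CfsgH6 CfsgFT

variable {G : Type*} [Group G] [Finite G]

theorem x1_zp {c y : G} (c3 : c ^ 3 = 1) (h : y ∈ zpowers c) : y = 1 ∨ y = c ∨ y = c⁻¹ := by
  obtain ⟨n, rfl⟩ := mem_powers_iff_mem_zpowers.2 h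
  simp only
  rw [← Nat.div_add_mod n 3, pow_add, pow_mul, c3, one_pow, one_mul]
  have : n % 3 = 0 ∨ n % 3 = 1 ∨ n % 3 = 2 := by omega
  rcases this with e | e | e <;> rw [e]
  · simp
  · simp
  · right; right
    rw [eq_inv_iff_mul_eq_one, ← pow_succ, c3]

theorem Cf.x1 {M : Subgroup G} {g h a t s z w : G} (H : Cf M g h a t s z w) {c : G}
    {T : Subgroup G} (c3 : c ^ 3 = 1) (c1 : c ≠ 1) (ct : c * t = t * c) (tT : t ∈ T)
    (hT : ∀ x ∈ T, x * x = 1) (cT : c ∈ N T) (hT8 : Nat.card T = 8)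
    (h8 : ∀ X : Subgroup G, IsPGroup 2 X → X ≤ C1 t → Nat.card X ≤ 8)
    (hreal : ∀ y, y * t = t * y → y ∈ N T → y * c * y⁻¹ ≠ c⁻¹) :
    ∃ S : Subgroup G, SylIn 2 S ⊤ ∧ T ≤ S ∧ c ∈ N S ∧ (∀ x ∈ S, x * t = t * x → x ∈ T) ∧
      (∀ x ∈ S, x * c = c * x → x = 1 ∨ x = t) ∧ 16 ∣ Nat.card S := by
  haveI := Fact.mk Nat.prime_three
  haveI := Fact.mk Nat.prime_two
  obtain ⟨S, TS, ⟨pS, cS⟩, mx⟩ := exists_maximal_ge (P := fun S => IsPGroup 2 S ∧ c ∈ N S) (X := T)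
    ⟨pg_of_sq hT, cT⟩
  have TC : T ≤ C1 t := fun x hx => mem_C1.2 (comm_of_sq (hT x hx) H.tt (hT _ (mul_mem hx tT)))
  have Ct : ∀ x ∈ S, x * t = t * x → x ∈ T := by
    have : T = S ⊓ C1 t := eq_of_le_of_card_ge (le_inf TS TC)
      (hT8 ▸ h8 _ (pS.to_le inf_le_left) inf_le_right)
    intro x hx e; rw [this]; exact ⟨hx, mem_C1.2 e⟩
  have sq : ∀ x ∈ S, x * c = c * x → x * x = 1 := fun x hx e => sq_of_six pS hx (H.six c3 c1 e)
  have Cc : ∀ x ∈ S, x * c = c * x → x = 1 ∨ x = t := fun x hx e =>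
    or_iff_not_imp_left.2 fun x1 => H.two_eq c3 c1 e ct.symm (sq x hx e) H.tt x1 H.t1
      (comm_of_sq (sq x hx e) H.tt (sq _ (mul_mem hx (TS tT))
        (by rw [mul_assoc, ← ct, ← mul_assoc, e, mul_assoc])))
  have Sne : S ≠ ⊥ := fun e => H.t1 (by have := TS tT; rwa [e, mem_bot] at this)
  have key : ∀ y ∈ N S, y ∈ N (zpowers c) → y * c = c * y := fun y yS yc => by
    rcases x1_zp c3 (nrm_N _ y yc c (mem_zpowers c)) with e | e | e
    · exact (c1 (cj1 (c := y⁻¹) (by simpa using e))).elim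
    · exact mul_inv_eq_iff_eq_mul.1 e
    · have yt : y * t = t * y := by
        have b := comm_conj' ct y
        rw [e] at b
        have b' : y * t * y⁻¹ * c = c * (y * t * y⁻¹) := by
          calc _ = c * (c⁻¹ * (y * t * y⁻¹)) * c := by group
            _ = _ := by rw [b]; group
        rcases Cc _ (nrm_N S y yS t (TS tT)) b' with e' | e'
        · exact (H.t1 (cj1 (c := y⁻¹) (by simpa using e'))).elim
        · exact mul_inv_eq_iff_eq_mul.1 e'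
      refine (hreal y yt (mem_N_of_conj fun x hx => Ct _ (nrm_N S y yS x (TS hx)) ?_) e).elim
      have b := comm_conj' (mem_C1.1 (TC hx)) y
      rwa [yt, mul_inv_cancel_right] at b
  have c3' : Nat.card (zpowers c) = 3 := by rw [Nat.card_zpowers, orderOf_eq_prime c3 c1]
  have s3 : SylIn 3 (zpowers c) (N S) := by
    refine ⟨zpowers_le.2 cS, IsPGroup.of_card (n := 1) (by rw [c3', pow_one]), fun P h1 h2 h3 => ?_⟩
    by_contra hne
    obtain ⟨y, yP, yn, yN⟩ := exists_nrm_of_lt h2 (lt_of_le_of_ne h3 (Ne.symm hne))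
    have e := key y (h1 yP) yN
    have y6 := H.six c3 c1 e
    have y3 : y ^ 3 = 1 := by
      obtain ⟨k, hk⟩ := h2 ⟨y, yP⟩
      have a1 : y ^ 3 ^ k = 1 := congrArg Subtype.val hk
      have a2 : orderOf y ∣ 3 * 2 := orderOf_dvd_of_pow_eq_one y6
      exact orderOf_dvd_iff_pow_eq_one.1 ((Nat.Coprime.dvd_mul_right
        ((Nat.Coprime.pow_left k (by norm_num)).coprime_dvd_left
          (orderOf_dvd_of_pow_eq_one a1))).1 a2)
    exact yn (H.noM pS Sne c3 c1 y3 e.symm cS (h1 yP))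
  have pn : PNil 3 (N S) := s3.pNil_of_le_C Nat.prime_three fun y hy => by
    rw [C_zpowers]; exact mem_C1.2 (key y hy.1 hy.2)
  have K2 : ∀ P : Subgroup G, P ≤ N S → IsPGroup 2 P → P ≤ pn.compl := fun P h1 h2 x hx => by
    refine pn.mem_compl.2 ⟨h1 hx, ?_⟩
    obtain ⟨k, hk⟩ := h2 ⟨x, hx⟩
    have a1 : x ^ 2 ^ k = 1 := congrArg Subtype.val hk
    exact (Nat.Coprime.pow_left k (by norm_num)).coprime_dvd_left (orderOf_dvd_of_pow_eq_one a1)
  obtain ⟨P, h1, h2, h3⟩ := exists_sylIn_ge_nrm_of_coprime (A := zpowers c) (M := pn.compl)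
    (pn.nrm_compl (Nrm.of_le s3.le)) (by rw [c3']; exact pn.coprime_card_compl Nat.prime_three)
    (Or.inr (solvable_of_ab (ab_zpowers c))) Nat.prime_two (K2 S (le_N S) pS) pS
    (nrm_zpowers_iff.2 cS)
  rw [mx P ⟨h2.isPGroup, nrm_zpowers_iff.1 h3⟩ h1] at h2
  have sy : SylIn 2 S ⊤ := sylIn_of_sylIn_N Nat.prime_two
    ⟨le_inf le_top (le_N S), pS, fun P a1 a2 a3 =>
      h2.eq_of_le (K2 P (a1.trans inf_le_right) a2) a2 a3⟩
  exact ⟨S, sy, TS, cS, Ct, Cc, H.sd.card ▸ sy.card_dvd Nat.prime_two le_top H.sd.pg⟩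

end CfsgM11
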