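import Cfsg.Agent.H8.Pres

set_option autoImplicit false

/-! The closure check of a coset table, in blocks. -/

namespace CfsgH8

open CfsgH3.TC CfsgH9

theorem frcA_eq' {α : Type} (x : ℕ) (f : ℕ → α) : frcA x f = f x := by cases x <;> rfl

theorem tc_allLt_of {f : ℕ → Bool} : ∀ {n : ℕ}, (∀ t < n, f t = true) →
    CfsgH3.TC.allLt f n = true
  | 0, _ => rfl
  | n + 1, h => by
    simp only [CfsgH3.TC.allLt, Bool.and_eq_true]
    exact ⟨h n (Nat.lt_succ_self n), tc_allLt_of fun t ht => h t (Nat.lt_succ_of_lt ht)⟩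

/-- the closure check for one live coset -/
noncomputable def finRow (C : Cert) (n k : ℕ) : Bool :=
  frcA k fun k => allR 2 (Nat.mul 2 n) fun c => frcA c fun c => checkFin C k c

theorem checkFinAll_of {C : Cert} {n : ℕ} (h0 : Nat.blt 0 C.nliv = true)
    (h1 : Nat.beq (C.liv 0) 0 = true) (h : allR 0 C.nliv (finRow C n) = true) :
    checkFinAll C n = true := by
  simp only [checkFinAll, h0, h1, Bool.true_and]
  refine tc_allLt_of fun k hk => tc_allLt_of fun c hc => ?_
  have h2 := allR_iff.1 h k (Nat.zero_le _) (by omega)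
  rw [finRow, frcA_eq', allR_iff] at h2
  have h3 := h2 (2 + c) (by omega) (Nat.add_lt_add_left hc 2)
  rwa [frcA_eq'] at h3

end CfsgH8
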