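import Mathlib
import Cfsg.Agent.H1.DesignFisher

set_option autoImplicit false
set_option linter.unusedSectionVars false

/-! Fixed points of pronormal subgroups: definitions and counting tools. -/

namespace CfsgH8.Pron

open scoped Pointwise

section gen
variable {α β : Type*}

theorem card_fib [Finite α] (D : α → Set α) (m : ℕ) (S : Set α)
    (h1 : ∀ p ∈ S, p ∈ D p ∧ D p ⊆ S ∧ (D p).ncard = m) (h2 : ∀ p ∈ S, ∀ q ∈ D p, D q = D p) :
    S.ncard = m * (D '' S).ncard := by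
  induction hn : S.ncard using Nat.strong_induction_on generalizing S with
  | _ n ih =>
  rcases S.eq_empty_or_nonempty with rfl | ⟨p, hp⟩
  · rw [← hn]; simp
  obtain ⟨a1, a2, a3⟩ := h1 p hp
  have e := Set.ncard_sdiff_add_ncard_of_subset a2
  have l : 0 < (D p).ncard := (Set.ncard_pos (Set.toFinite _)).2 ⟨p, a1⟩
  have k := ih _ (by omega) (S \ D p) (fun q hq => ?_) (fun q hq => h2 q hq.1) rfl
  · have e2 : D '' S = insert (D p) (D '' (S \ D p)) := by
      ext T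
      constructor
      · rintro ⟨q, hq, rfl⟩
        by_cases h : q ∈ D p
        · exact Or.inl (h2 p hp q h)
        · exact Or.inr ⟨q, ⟨hq, h⟩, rfl⟩
      · rintro (rfl | ⟨q, hq, rfl⟩)
        · exact ⟨p, hp, rfl⟩
        · exact ⟨q, hq.1, rfl⟩
    rw [e2, Set.ncard_insert_of_notMem, mul_add, ← k]
    · omega
    · rintro ⟨q, hq, e3⟩
      exact hq.2 (e3 ▸ (h1 q hq.1).1)
  obtain ⟨b1, b2, b3⟩ := h1 q hq.1
  exact ⟨b1, fun r hr => ⟨b2 hr, fun hr' => hq.2 (by rwa [← h2 p hp r hr', h2 q hq.1 r hr])⟩, b3⟩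

theorem even_of_fpf [Finite α] (σ : α → α) (S : Set α)
    (h : ∀ p ∈ S, σ p ∈ S ∧ σ p ≠ p ∧ σ (σ p) = p) : 2 ∣ S.ncard := by
  rw [card_fib (fun p => {p, σ p}) 2 S]
  · exact dvd_mul_right _ _
  · intro p hp
    obtain ⟨a, b, c⟩ := h p hp
    refine ⟨Or.inl rfl, ?_, Set.ncard_pair b.symm⟩
    rintro q (rfl | rfl) <;> assumption
  · rintro p hp q (rfl | rfl)
    · rfl
    · simp only [(h p hp).2.2, Set.pair_comm]

open Classical in
theorem ncard_eq_sum [Fintype α] (S : Set α) : S.ncard = ∑ p, if p ∈ S then 1 else 0 := by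
  rw [Finset.sum_boole, Set.ncard_eq_toFinset_card']
  simp only [Nat.cast_id]
  congr 1
  ext; simp

open Classical in
theorem dsum [Fintype α] [Fintype β] (R : α → β → Prop) :
    ∑ p, {q | R p q}.ncard = ∑ q, {p | R p q}.ncard := by
  simp only [ncard_eq_sum]
  rw [Finset.sum_comm]
  rfl

open Classical in
theorem sum_const_on [Fintype α] (S : Set α) (f : α → ℕ) (m : ℕ) (h1 : ∀ p ∈ S, f p = m)
    (h2 : ∀ p ∉ S, f p = 0) : ∑ p, f p = S.ncard * m := by
  rw [ncard_eq_sum, Finset.sum_mul]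
  refine Finset.sum_congr rfl fun p _ => ?_
  split_ifs with h
  · simp [h1 p h]
  · simp [h2 p h]

theorem dcount [Finite α] [Finite β] (S : Set α) (T : Set β) (R : α → β → Prop) (m n : ℕ)
    (h1 : ∀ p ∈ S, {q | q ∈ T ∧ R p q}.ncard = m) (h2 : ∀ q ∈ T, {p | p ∈ S ∧ R p q}.ncard = n) :
    S.ncard * m = T.ncard * n := by
  have := Fintype.ofFinite α
  have := Fintype.ofFinite β
  have h := dsum (fun p q => p ∈ S ∧ q ∈ T ∧ R p q)
  rw [sum_const_on S _ m, sum_const_on T _ n] at h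
  · exact h
  · intro q hq; simpa [hq] using h2 q hq
  · intro q hq; simp [hq]
  · intro q hq; simpa [hq] using h1 q hq
  · intro q hq; simp [hq]

end gen

variable {G : Type*} [Group G]

/-- pronormal subgroups -/
def Pron (K : Subgroup G) : Prop :=
  ∀ g : G, ∀ L : Subgroup G, K ≤ L → (∀ k ∈ K, g * k * g⁻¹ ∈ L) →
    ∃ w ∈ L, ∀ x, w⁻¹ * x * w ∈ K ↔ g⁻¹ * x * g ∈ K

/-- fixed points -/
def Fk (K : Subgroup G) (Y : Type*) [MulAction G Y] : Set Y := {y | ∀ k ∈ K, k • y = y}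

/-- orbits -/
def orb {Y : Type*} [MulAction G Y] (A : Subgroup G) (y : Y) : Set Y := {z | ∃ a ∈ A, a • y = z}

/-- the theorem for orbits of length `< n` -/
def TB (n : ℕ) : Prop :=
  ∀ (G Y : Type) [Group G] [Finite G] [MulAction G Y] (K A : Subgroup G) (y : Y), Pron K → K ≤ A →
    (orb A y).ncard < n → ¬ orb A y ⊆ Fk K Y → 2 * (Fk K Y ∩ orb A y).ncard + 1 ≤ (orb A y).ncard

variable {Y : Type*} [MulAction G Y] {K A : Subgroup G}

theorem mem_smul_Fk {g : G} {y : Y} : y ∈ g • Fk K Y ↔ ∀ x, g⁻¹ * x * g ∈ K → x • y = y := by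
  rw [Set.mem_smul_set_iff_inv_smul_mem]
  constructor
  · intro h x hx
    have := h _ hx
    rw [mul_smul, mul_smul, smul_inv_smul] at this
    exact smul_left_cancel _ this
  · intro h k hk
    have := h (g * k * g⁻¹) (by simpa [mul_assoc] using hk)
    rw [mul_smul, mul_smul, smul_eq_iff_eq_inv_smul] at this
    exact this

theorem conj_fix {g k : G} {y : Y} (hy : y ∈ g • Fk K Y) (hk : k ∈ K) : (g * k * g⁻¹) • y = y :=
  mem_smul_Fk.1 hy _ (by simpa [mul_assoc] using hk)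

theorem Pron.pr (hP : Pron K) (Y : Type*) [MulAction G Y] (g : G) (L : Subgroup G) (h1 : K ≤ L)
    (h2 : ∀ k ∈ K, g * k * g⁻¹ ∈ L) : ∃ w ∈ L, w • Fk K Y = g • Fk K Y := by
  obtain ⟨w, hw, h⟩ := hP g L h1 h2
  refine ⟨w, hw, ?_⟩
  ext y
  simp only [mem_smul_Fk, h]

/-- `K` normalises no other member -/
theorem Pron.noinv (hP : Pron K) {g : G} (h : ∀ k ∈ K, k • g • Fk K Y = g • Fk K Y) :
    g • Fk K Y = Fk K Y := by
  obtain ⟨w, hw, e⟩ := hP.pr Y g (MulAction.stabilizer G (g • Fk K Y)) h (fun k hk => by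
    rw [MulAction.mem_stabilizer_iff]
    ext y
    rw [Set.mem_smul_set_iff_inv_smul_mem]
    constructor
    · intro hy
      have := conj_fix hy hk
      rw [smul_inv_smul] at this
      rwa [this]
    · intro hy
      have := conj_fix hy hk
      rwa [inv_smul_eq_iff.2 this.symm])
  rw [MulAction.mem_stabilizer_iff] at hw
  rw [← hw] at e
  exact (smul_left_cancel _ e).symm

/-- Witt's lemma -/
theorem Pron.witt (hP : Pron K) (hA : K ≤ A) {g : G} (hg : g ∈ A) (X : Set Y) (h1 : X ⊆ Fk K Y)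
    (h2 : ∀ x ∈ X, g • x ∈ Fk K Y) :
    ∃ n ∈ A, n • Fk K Y = Fk K Y ∧ ∀ x ∈ X, n • x = g • x := by
  let L : Subgroup G :=
    { carrier := {a | a ∈ A ∧ ∀ x ∈ X, a • x = x}
      mul_mem' := fun {a b} ha hb => ⟨A.mul_mem ha.1 hb.1, fun x hx => by
        rw [mul_smul, hb.2 x hx, ha.2 x hx]⟩
      one_mem' := ⟨A.one_mem, fun x _ => one_smul _ _⟩
      inv_mem' := fun {a} ha => ⟨A.inv_mem ha.1, fun x hx => inv_smul_eq_iff.2 (ha.2 x hx).symm⟩ }
  obtain ⟨w, hw, e⟩ := hP.pr Y g⁻¹ L (fun k hk => ⟨hA hk, fun x hx => h1 hx k hk⟩) (fun k hk =>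
    ⟨A.mul_mem (A.mul_mem (A.inv_mem hg) (hA hk)) (A.inv_mem (A.inv_mem hg)), fun x hx =>
      conj_fix (Set.mem_smul_set_iff_inv_smul_mem.2 (by simpa using h2 x hx)) hk⟩)
  refine ⟨g * w, A.mul_mem hg hw.1, by rw [mul_smul, e, smul_inv_smul], fun x hx => ?_⟩
  rw [mul_smul, hw.2 x hx]

theorem mem_orb_self (y : Y) : y ∈ orb A y := ⟨1, A.one_mem, one_smul _ _⟩

theorem smul_mem_orb {y z : Y} {a : G} (ha : a ∈ A) (h : z ∈ orb A y) : a • z ∈ orb A y := by
  obtain ⟨b, hb, rfl⟩ := h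
  exact ⟨a * b, A.mul_mem ha hb, mul_smul _ _ _⟩

theorem orb_sub {S : Set Y} (hS : ∀ a ∈ A, ∀ p ∈ S, a • p ∈ S) {y : Y} (h : y ∈ S) : orb A y ⊆ S := by
  rintro _ ⟨a, ha, rfl⟩
  exact hS a ha y h

theorem orb_symm {y z : Y} (h : z ∈ orb A y) : y ∈ orb A z := by
  obtain ⟨b, hb, rfl⟩ := h
  exact ⟨b⁻¹, A.inv_mem hb, inv_smul_smul _ _⟩

theorem orb_eq {y z : Y} (h : z ∈ orb A y) : orb A z = orb A y :=
  (orb_sub (fun _ ha _ hp => smul_mem_orb ha hp) h).antisymm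
    (orb_sub (fun _ ha _ hp => smul_mem_orb ha hp) (orb_symm h))

theorem orb_tr {x y z : Y} (h : y ∈ orb A x) (h' : z ∈ orb A x) : z ∈ orb A y := by
  rwa [orb_eq h]

theorem sdiff_orb {S : Set Y} (hS : ∀ a ∈ A, ∀ p ∈ S, a • p ∈ S) (y : Y) :
    ∀ a ∈ A, ∀ p ∈ S \ orb A y, a • p ∈ S \ orb A y := fun a ha p hp =>
  ⟨hS a ha p hp.1, fun h => hp.2 (by simpa using smul_mem_orb (A.inv_mem ha) h)⟩

theorem orb_finite [Finite G] (y : Y) : (orb A y).Finite :=
  (Set.finite_range fun g : G => g • y).subset (by rintro _ ⟨a, -, rfl⟩; exact ⟨a, rfl⟩)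

theorem exists_reps [Finite Y] (D : Set Y) (hD : ∀ k ∈ K, ∀ p ∈ D, k • p ∈ D)
    (hm : ∀ p ∈ D, p ∉ Fk K Y) : ∃ T ⊆ D, 2 * T.ncard ≤ D.ncard ∧ ∀ p ∈ D, ∃ t ∈ T, p ∈ orb K t := by
  induction hn : D.ncard using Nat.strong_induction_on generalizing D with
  | _ n ih =>
  rcases D.eq_empty_or_nonempty with rfl | ⟨p, hp⟩
  · exact ⟨∅, subset_rfl, by simp, by simp⟩
  have a2 := orb_sub hD hp
  have e := Set.ncard_sdiff_add_ncard_of_subset a2
  have l : 2 ≤ (orb K p).ncard := by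
    have := hm p hp
    simp only [Fk, Set.mem_setOf_eq, not_forall] at this
    obtain ⟨k, hk, hne⟩ := this
    exact (Set.one_lt_ncard (Set.toFinite _)).2 ⟨_, smul_mem_orb hk (mem_orb_self p), p,
      mem_orb_self p, hne⟩
  obtain ⟨T, t1, t2, t3⟩ := ih _ (by omega) (D \ orb K p) (sdiff_orb hD p) (fun q hq => hm q hq.1) rfl
  refine ⟨insert p T, Set.insert_subset hp (t1.trans Set.diff_subset), ?_, fun q hq => ?_⟩
  · have := Set.ncard_insert_le p T
    omega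
  · by_cases h : q ∈ orb K p
    · exact ⟨p, Or.inl rfl, h⟩
    · obtain ⟨t, ht, h'⟩ := t3 q ⟨hq, h⟩
      exact ⟨t, Or.inr ht, h'⟩

open Matrix in
/-- Fisher's inequality relative to the orbits of `K` -/
theorem fisherK {α : Type*} [Finite α] [Finite Y] (S : Set α) (D : Set Y) (R : α → Y → Prop)
    (hD : ∀ k ∈ K, ∀ p ∈ D, k • p ∈ D) (hm : ∀ p ∈ D, p ∉ Fk K Y)
    (hR : ∀ η ∈ S, ∀ k ∈ K, ∀ p ∈ D, R η p → R η (k • p))
    (h1 : ∀ η ∈ S, ∀ η' ∈ S, {p | p ∈ D ∧ R η p}.ncard = {p | p ∈ D ∧ R η' p}.ncard)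
    (h2 : ∀ η ∈ S, ∀ η' ∈ S, ∀ θ ∈ S, ∀ θ' ∈ S, η ≠ η' → θ ≠ θ' →
      {p | p ∈ D ∧ R η p ∧ R η' p}.ncard = {p | p ∈ D ∧ R θ p ∧ R θ' p}.ncard)
    (hlt : D.ncard < 2 * S.ncard) : ∀ η ∈ S, ∀ η' ∈ S, ∀ p ∈ D, R η p → R η' p := by
  classical
  intro η hη η' hη' p hp r1
  by_contra r2
  have hne : η ≠ η' := by rintro rfl; exact r2 r1
  have := Fintype.ofFinite α
  have := Fintype.ofFinite Y
  obtain ⟨T, t1, t2, t3⟩ := exists_reps D hD hm
  set r := {p | p ∈ D ∧ R η p}.ncard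
  set l := {p | p ∈ D ∧ R η p ∧ R η' p}.ncard
  have hl : l < r := Set.ncard_lt_ncard
    ⟨fun q hq => ⟨hq.1, hq.2.1⟩, fun h => r2 (h ⟨hp, r1⟩).2.2⟩
  let M : Matrix S Y ℚ := Matrix.of fun a y => if y ∈ D ∧ R a y then 1 else 0
  have inj := CfsgH1.vecMul_injective_of_gram M (r - l) l (by rw [sub_pos]; exact_mod_cast hl)
    (by positivity) (by
      intro a b
      have : ∑ x, M a x * M b x = ({p | p ∈ D ∧ R a p ∧ R b p}.ncard : ℚ) := by
        rw [ncard_eq_sum]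
        push_cast
        refine Finset.sum_congr rfl fun x _ => ?_
        simp only [M, of_apply, Set.mem_setOf_eq]
        by_cases u1 : x ∈ D <;> by_cases u2 : R a x <;> by_cases u3 : R b x <;> simp [u1, u2, u3]
      simp only [mul_apply, transpose_apply, this]
      split_ifs with h
      · subst h
        simp only [and_self]
        rw [h1 _ a.2 _ hη]; ring
      · rw [h2 _ a.2 _ b.2 _ hη _ hη' (fun e => h (Subtype.ext e)) hne]; ring)
  let M' : Matrix S T ℚ := Matrix.of fun a t => M a t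
  have inj' : Function.Injective M'.vecMulLinear := by
    rw [injective_iff_map_eq_zero] at inj ⊢
    intro u hu
    apply inj
    ext y
    by_cases hy : y ∈ D
    · obtain ⟨t, ht, k, hk, rfl⟩ := t3 y hy
      have := congrFun hu ⟨t, ht⟩
      simp only [vecMulLinear_apply, vecMul, dotProduct, Pi.zero_apply] at this ⊢
      rw [← this]
      refine Finset.sum_congr rfl fun a _ => ?_
      congr 1
      have : R a (k • t) ↔ R a t := ⟨fun h => by
        simpa using hR _ a.2 _ (K.inv_mem hk) _ hy h, hR _ a.2 _ hk _ (t1 ht)⟩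
      simp [M', M, hy, t1 ht, this]
    · simp [vecMul, dotProduct, M, hy]
  have := LinearMap.finrank_le_finrank_of_injective inj'
  simp only [Module.finrank_fintype_fun_eq_card, ← Nat.card_eq_fintype_card,
    Nat.card_coe_set_eq] at this
  omega

end CfsgH8.Pron
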