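import Cfsg.Agent.SZ.ZS_fin

set_option autoImplicit false

/-! Elementary lemmas for the odd case of S3617. -/

namespace CfsgH8.QO

open Subgroup

universe u
variable {G : Type u} [Group G] [Finite G]

/-- Schur-Zassenhaus conjugacy in the cyclic case. -/
theorem conj_of_coset {p r : ℕ} (hp : p.Prime) (hr : r.Prime) (hpr : r ≠ p) {P : Subgroup G}
    (hP : IsPGroup p P) {x g : G} (hx : x ∈ normalizer (P : Set G)) (hxr : x ^ r = 1)
    (hgr : g ^ r = 1) (hg : x⁻¹ * g ∈ P) : ∃ a ∈ P, g = a * x * a⁻¹ := by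
  classical
  haveI := Fact.mk hp
  haveI := Fact.mk hr
  haveI := Fintype.ofFinite P
  have h1 : ∀ a ∈ P, x * a * x⁻¹ ∈ P := fun a ha => (mem_normalizer_iff.1 hx a).1 ha
  have h2 : ∀ a ∈ P, x⁻¹ * a * x ∈ P := fun a ha => by
    have := (mem_normalizer_iff.1 (inv_mem hx) a).1 ha
    simpa using this
  have k1 : ∀ a ∈ P, g * a * x⁻¹ ∈ P := fun a ha => by
    have := h1 _ (P.mul_mem hg ha)
    simpa [mul_assoc] using this
  have k2 : ∀ a ∈ P, g⁻¹ * a * x ∈ P := fun a ha => by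
    have := P.mul_mem (P.inv_mem hg) (h2 a ha)
    simpa [mul_assoc] using this
  let σ : Equiv.Perm P :=
    { toFun := fun a => ⟨g * a * x⁻¹, k1 a a.2⟩
      invFun := fun a => ⟨g⁻¹ * a * x, k2 a a.2⟩
      left_inv := fun a => Subtype.ext (by simp [mul_assoc])
      right_inv := fun a => Subtype.ext (by simp [mul_assoc]) }
  have hσ : ∀ (n : ℕ) (a : P), (((σ ^ n) a : P) : G) = g ^ n * a * (x ^ n)⁻¹ := by
    intro n
    induction n with
    | zero => intro a; simp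
    | succ n ih =>
      intro a
      rw [pow_succ', Equiv.Perm.mul_apply]
      show g * (((σ ^ n) a : P) : G) * x⁻¹ = _
      rw [ih, pow_succ' g, pow_succ' x]; group
  have hσr : σ ^ r ^ 1 = 1 := by
    ext a
    rw [pow_one, hσ, hxr, hgr]; simp
  have hc : ¬ r ∣ Fintype.card P := by
    obtain ⟨k, hk⟩ := hP.exists_card_eq
    rw [← Nat.card_eq_fintype_card, hk]
    intro h
    exact hpr ((Nat.prime_dvd_prime_iff_eq hr hp).1 (hr.dvd_of_dvd_pow h))
  obtain ⟨a, ha⟩ := Equiv.Perm.exists_fixed_point_of_prime hc hσr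
  refine ⟨a, a.2, ?_⟩
  have : g * a * x⁻¹ = a := congrArg Subtype.val ha
  calc g = (g * a * x⁻¹) * x * (a : G)⁻¹ := by group
    _ = _ := by rw [this]

theorem odd_order_of_mem {p : ℕ} (hp : p.Prime) (hp2 : p ≠ 2) {P : Subgroup G}
    (hP : IsPGroup p P) {s : G} (hs : s ∈ P) : ¬ 2 ∣ orderOf s := by
  obtain ⟨k, hk⟩ := hP ⟨s, hs⟩
  have h : s ^ p ^ k = 1 := by simpa using congrArg Subtype.val hk
  intro h2
  have := h2.trans (orderOf_dvd_of_pow_eq_one h)
  exact hp2 ((Nat.prime_dvd_prime_iff_eq Nat.prime_two hp).1 (Nat.prime_two.dvd_of_dvd_pow this)).symm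

/-- `P = C_P(j) * I`. -/
theorem inv_decomp {p : ℕ} (hp : p.Prime) (hp2 : p ≠ 2) {P : Subgroup G}
    (hP : IsPGroup p P) {j h : G} (hj : j * j = 1) (hjP : ∀ a ∈ P, j * a * j ∈ P) (hh : h ∈ P) :
    ∃ c ∈ P, ∃ i ∈ P, j * c * j = c ∧ j * i * j = i⁻¹ ∧ h = c * i := by
  have hs : (j * h * j)⁻¹ * h ∈ P := P.mul_mem (P.inv_mem (hjP h hh)) hh
  set s := (j * h * j)⁻¹ * h with hsd
  have hodd := odd_order_of_mem hp hp2 hP hs
  obtain ⟨m, hm⟩ : ∃ m, orderOf s = 2 * m + 1 := ⟨orderOf s / 2, by omega⟩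
  have hji : j⁻¹ = j := inv_eq_of_mul_eq_one_right hj
  have hjs : j * s * j = s⁻¹ := by
    rw [hsd]
    calc j * ((j * h * j)⁻¹ * h) * j = (j * j⁻¹) * h⁻¹ * j⁻¹ * h * j := by group
      _ = h⁻¹ * (j * h * j) := by rw [hji, hj]; group
      _ = _ := by group
  have hpow : ∀ n : ℕ, j * s ^ n * j = (s ^ n)⁻¹ := by
    intro n
    induction n with
    | zero => simpa using hj
    | succ n ih =>
      calc j * s ^ (n + 1) * j = (j * s ^ n * j) * (j * s * j) := by
            rw [pow_succ]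
            calc j * (s ^ n * s) * j = j * s ^ n * (j * j) * s * j := by rw [hj]; group
              _ = _ := by group
        _ = _ := by rw [ih, hjs]; group
  have hsq : s ^ (m + 1) * s ^ (m + 1) = s := by
    rw [← pow_add, show m + 1 + (m + 1) = (2 * m + 1) + 1 by ring, pow_succ, ← hm,
      pow_orderOf_eq_one, one_mul]
  refine ⟨h * (s ^ (m + 1))⁻¹, P.mul_mem hh (P.inv_mem (P.pow_mem hs _)), s ^ (m + 1),
    P.pow_mem hs _, ?_, hpow _, by group⟩
  have e1 : j * (s ^ (m + 1))⁻¹ * j = s ^ (m + 1) := by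
    have := hpow (m + 1)
    calc j * (s ^ (m + 1))⁻¹ * j = j * (j * s ^ (m + 1) * j) * j := by rw [this]
      _ = (j * j) * s ^ (m + 1) * (j * j) := by group
      _ = _ := by rw [hj]; group
  calc j * (h * (s ^ (m + 1))⁻¹) * j = (j * h * j) * (j * (s ^ (m + 1))⁻¹ * j) := by
        calc j * (h * (s ^ (m + 1))⁻¹) * j = j * h * (j * j) * (s ^ (m + 1))⁻¹ * j := by
              rw [hj]; group
          _ = _ := by group
    _ = (j * h * j) * s ^ (m + 1) := by rw [e1]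
    _ = (j * h * j) * (s ^ (m + 1) * s ^ (m + 1)) * (s ^ (m + 1))⁻¹ := by group
    _ = _ := by rw [hsq, hsd]; group

/-- The `2`-, `r`- and `p`-parts of `j * d`. -/
theorem parts {p r : ℕ} (hp : p.Prime) (hp2 : p ≠ 2) (hr : r.Prime) (hr2 : r ≠ 2) (hpr : r ≠ p)
    {P : Subgroup G} (hP : IsPGroup p P) {j d : G} (hj : j * j = 1)
    (hjP : j ∈ normalizer (P : Set G)) (hdP : d ∈ normalizer (P : Set G)) (hd : d ^ r = 1)
    (hjd : d⁻¹ * (j * d * j) ∈ P) :
    ∃ c ∈ P, ∃ h ∈ P, ∃ u ∈ P, j * d = c * (j * ((h * d * h⁻¹) * u)) * c⁻¹ ∧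
      Commute j (h * d * h⁻¹) ∧ Commute j u ∧ Commute (h * d * h⁻¹) u := by
  classical
  set N := normalizer (P : Set G) with hN
  haveI : (P.subgroupOf N).Normal := normal_in_normalizer
  let π := QuotientGroup.mk' (P.subgroupOf N)
  have hπ : ∀ a : N, π a = 1 ↔ (a : G) ∈ P := fun a => by
    simp only [π, QuotientGroup.mk'_apply, QuotientGroup.eq_one_iff, mem_subgroupOf]
  let J : N := ⟨j, hjP⟩
  let D : N := ⟨d, hdP⟩
  have hJ : J * J = 1 := Subtype.ext hj
  have hD : D ^ r = 1 := Subtype.ext (by simpa using hd)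
  have hJ' : π J * π J = 1 := by rw [← map_mul, hJ, map_one]
  have hD' : π D ^ r = 1 := by rw [← map_pow, hD, map_one]
  have hc : Commute (π J) (π D) := by
    have h1 : π (D⁻¹ * (J * D * J)) = 1 := (hπ _).2 hjd
    simp only [map_mul, map_inv] at h1
    have h2 : π J * π D * π J = π D := by
      calc π J * π D * π J = π D * ((π D)⁻¹ * (π J * π D * π J)) := by group
        _ = _ := by rw [h1, mul_one]
    show π J * π D = π D * π J
    calc π J * π D = π J * π D * (π J * π J) := by rw [hJ', mul_one]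
      _ = (π J * π D * π J) * π J := by group
      _ = _ := by rw [h2]
  have hJ2 : π J ^ 2 = 1 := by rw [pow_two, hJ']
  let W : N := J * D
  have hW : ∀ n : ℕ, π (W ^ n) = π J ^ n * π D ^ n := fun n => by
    rw [map_pow, map_mul, hc.mul_pow]
  have hW2 : ((W ^ (2 * r) : N) : G) ∈ P := by
    rw [← hπ, hW, pow_mul, hJ2, one_pow, mul_comm 2 r, pow_mul, hD', one_pow, one_mul]
  obtain ⟨k, hk⟩ := hP ⟨_, hW2⟩
  have hWo : W ^ (2 * (r * p ^ k)) = 1 := by
    apply Subtype.ext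
    have := congrArg Subtype.val hk
    simp only [SubmonoidClass.coe_pow, OneMemClass.coe_one] at this ⊢
    rw [← mul_assoc, pow_mul]; exact this
  have hoodd : Odd (r * p ^ k) := (hr.odd_of_ne_two hr2).mul ((hp.odd_of_ne_two hp2).pow)
  obtain ⟨m, hm⟩ := hoodd
  set o := r * p ^ k with ho
  have hDo : π D ^ o = 1 := by rw [ho, pow_mul, hD', one_pow]
  have hJo : π J ^ o = π J := by rw [hm, pow_succ, pow_mul, hJ2, one_pow, one_mul]
  have hJo1 : π J ^ (o + 1) = 1 := by rw [pow_succ, hJo, hJ']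
  let J' := W ^ o
  let Y := W ^ (o + 1)
  have hJ'2 : J' * J' = 1 := by
    show W ^ o * W ^ o = 1
    rw [← pow_add, ← two_mul, hWo]
  have hπJ' : π J' = π J := by show π (W ^ o) = _; rw [hW, hDo, hJo, mul_one]
  have hπY : π Y = π D := by
    show π (W ^ (o + 1)) = _; rw [hW, hJo1, pow_succ, hDo, one_mul, one_mul]
  have hYo : Y ^ o = 1 := by
    show (W ^ (o + 1)) ^ o = 1
    rw [← pow_mul, show (o + 1) * o = (2 * o) * (m + 1) by rw [hm]; ring, pow_mul, hWo, one_pow]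
  have hJY : J' * Y = W := by
    show W ^ o * W ^ (o + 1) = W
    rw [← pow_add, show o + (o + 1) = 2 * o + 1 by ring, pow_succ, hWo, one_mul]
  have hJJ : ((J * J' : N) : G) ∈ P := by rw [← hπ, map_mul, hπJ', hJ']
  obtain ⟨n, hn⟩ := CfsgSZ.invol_conj_of_odd (a := j) (b := (J' : G)) hj
    (by simpa using congrArg Subtype.val hJ'2) (odd_order_of_mem hp hp2 hP hJJ)
  set c0 : G := (j * (J' : G)) ^ n with hc0
  have hc0P : c0 ∈ P := P.pow_mem hJJ n
  -- the r-part
  have hcop : Nat.Coprime (p ^ k) r :=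
    (((Nat.coprime_primes hp hr).2 (Ne.symm hpr)).pow_left k)
  let α := (p ^ k) ^ (r - 1)
  have hα : α ≡ 1 [MOD r] := by
    have := Nat.ModEq.pow_totient hcop
    rwa [Nat.totient_prime hr] at this
  let G' := Y ^ α
  have hG'r : G' ^ r = 1 := by
    show (Y ^ α) ^ r = 1
    obtain ⟨t, ht⟩ : ∃ t, r - 1 = t + 1 := ⟨r - 2, by have := hr.two_le; omega⟩
    rw [← pow_mul, show α * r = o * (p ^ k) ^ t by simp only [α, ht, ho]; ring, pow_mul, hYo,
      one_pow]
  have hπG : π G' = π D := by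
    show π (Y ^ α) = _
    rw [map_pow, hπY]
    have h1 : π D ^ α = π D ^ 1 := by
      rw [pow_eq_pow_iff_modEq]
      exact hα.of_dvd (orderOf_dvd_of_pow_eq_one hD')
    rw [h1, pow_one]
  let U := G'⁻¹ * Y
  have hUP : (U : G) ∈ P := by
    rw [← hπ]; show π (G'⁻¹ * Y) = 1
    rw [map_mul, map_inv, hπG, hπY, inv_mul_cancel]
  have hdG : d⁻¹ * (G' : G) ∈ P := by
    have : π (D⁻¹ * G') = 1 := by rw [map_mul, map_inv, hπG, inv_mul_cancel]
    exact (hπ _).1 this
  obtain ⟨a, ha, hga⟩ := conj_of_coset hp hr hpr hP hdP hd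
    (by simpa using congrArg Subtype.val hG'r) hdG
  have cJY : Commute J' Y := (Commute.refl W).pow_pow _ _
  have cJG : Commute J' G' := cJY.pow_right _
  have cGY : Commute G' Y := (Commute.refl Y).pow_left _
  have cJU : Commute J' U := cJG.inv_right.mul_right cJY
  have cGU : Commute G' U := (Commute.refl G').inv_right.mul_right cGY
  have cv : ∀ {A B : N}, Commute A B → Commute (c0 * A * c0⁻¹) (c0 * B * c0⁻¹) := by
    intro A B h
    have h' : (A : G) * B = B * A := congrArg Subtype.val h.eq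
    show c0 * A * c0⁻¹ * (c0 * B * c0⁻¹) = c0 * B * c0⁻¹ * (c0 * A * c0⁻¹)
    calc c0 * A * c0⁻¹ * (c0 * B * c0⁻¹) = c0 * ((A : G) * B) * c0⁻¹ := by group
      _ = c0 * ((B : G) * A) * c0⁻¹ := by rw [h']
      _ = _ := by group
  have hg : (c0 * a) * d * (c0 * a)⁻¹ = c0 * G' * c0⁻¹ := by rw [hga]; group
  refine ⟨c0⁻¹, P.inv_mem hc0P, c0 * a, P.mul_mem hc0P ha, c0 * U * c0⁻¹,
    P.mul_mem (P.mul_mem hc0P hUP) (P.inv_mem hc0P), ?_, ?_, ?_, ?_⟩
  · rw [hg]
    have e1 : j * d = (J' : G) * ((G' : G) * U) := by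
      have : J' * (G' * U) = W := by
        show J' * (G' * (G'⁻¹ * Y)) = W
        rw [mul_inv_cancel_left, hJY]
      exact (congrArg Subtype.val this).symm
    rw [e1]
    calc (J' : G) * ((G' : G) * U)
        = c0⁻¹ * ((c0 * J' * c0⁻¹) * (c0 * G' * c0⁻¹ * (c0 * U * c0⁻¹))) * c0⁻¹⁻¹ := by group
      _ = _ := by rw [hn]
  · rw [hg, ← hn]; exact cv cJG
  · rw [← hn]; exact cv cJU
  · rw [hg]; exact cv cGU

end CfsgH8.QO
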