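import Cfsg.Agent.H8.QO1
import Cfsg.Agent.H7.FB
import Cfsg.Agent.FT.Main

set_option autoImplicit false

/-! The odd case of S3617, from an abstract list of block facts. -/

namespace CfsgH8.QO

open Subgroup CfsgH5 CfsgH6 CfsgFT CfsgSZ
open scoped commutatorElement

universe u
variable {G : Type u} [Group G] [Finite G]

/-- normalizer -/
abbrev NN (R : Subgroup G) : Subgroup G := normalizer (R : Set G)

/-- Facts used in the odd case. -/
structure OH (p r : ℕ) (z : G) (K : Set G) (B : Set (Subgroup G)) : Prop where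
  hp : p.Prime
  hp2 : p ≠ 2
  hr : r.Prime
  hr2 : r ≠ 2
  hpr : r ≠ p
  z1 : z ≠ 1
  zr : z ^ r = 1
  memK : ∀ x, x ∈ K ↔ ∃ g, x = g * z * g⁻¹
  gen : ∀ N : Subgroup G, N.Normal → z ∈ N → N = ⊤
  Op1 : ∀ N : Subgroup G, N.Normal → IsPGroup p N → N = ⊥
  Z1 : ∀ a : G, (∀ g, g * a = a * g) → a = 1
  pair : ∀ x ∈ K, ∀ y ∈ K, ∃ P : Subgroup G, IsPGroup p P ∧ x ∈ NN P ∧ x⁻¹ * y ∈ P
  good : ∀ Y : Subgroup G, Y ≠ ⊤ → ∀ x ∈ K, x ∈ Y →
    ∃ P : Subgroup G, IsPGroup p P ∧ ∀ y ∈ K, y ∈ Y → x⁻¹ * y ∈ P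
  pgrp : ∀ R ∈ B, IsPGroup p R
  cjB : ∀ R ∈ B, ∀ g : G, cj g R ∈ B
  diff : ∀ R ∈ B, ∀ x ∈ K, ∀ y ∈ K, x ∈ NN R → y ∈ NN R → x⁻¹ * y ∈ R
  ex : ∀ P : Subgroup G, IsPGroup p P → ∀ x ∈ K, x ∈ NN P → ∃ R ∈ B, x ∈ NN R ∧ P ≤ NN R
  genR : ∀ R ∈ B, ∀ x ∈ K, x ∈ NN R → ∀ Q : Subgroup G, x ∈ NN Q →
    (∀ y ∈ K, y ∈ NN R → x⁻¹ * y ∈ Q) → R ≤ Q
  cent : ∀ R ∈ B, ∀ x ∈ K, x ∈ NN R → ∀ a ∈ R, Commute a x → ∀ b ∈ R, Commute a b
  comm : ∀ R ∈ B, ∀ x ∈ K, x ∈ NN R → ∀ a ∈ R, ∀ b ∈ R, Commute ⁅a, b⁆ x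
  Zne : ∀ R ∈ B, ∀ x ∈ K, x ∈ NN R → ∃ u ∈ R, u ≠ 1 ∧ Commute u x
  na : ∀ R ∈ B, ∀ R1 ∈ B, ∀ x ∈ K, x ∈ NN R → x ∈ NN R1 → ∀ u ∈ R, u ≠ 1 → Commute u x →
    u ∈ NN R1 → R = R1

omit [Finite G] in
theorem mem_NN {R : Subgroup G} {g : G} (h : g ∈ NN R) {a : G} (ha : a ∈ R) : g * a * g⁻¹ ∈ R :=
  (mem_normalizer_iff.1 h a).1 ha

theorem NN_of {R : Subgroup G} {g : G} (h : ∀ a ∈ R, g * a * g⁻¹ ∈ R) : g ∈ NN R :=
  mem_normalizer_fintype h

omit [Finite G] in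
theorem le_NN (R : Subgroup G) : R ≤ NN R := le_normalizer

/-- The subgroup generated by the differences of points of `Y`. -/
def Dsub (K : Set G) (Y : Subgroup G) : Subgroup G :=
  closure {w | ∃ x ∈ K, ∃ y ∈ K, x ∈ Y ∧ y ∈ Y ∧ w = x⁻¹ * y}

omit [Finite G] in
theorem mem_Dsub {K : Set G} {Y : Subgroup G} {x y : G} (hx : x ∈ K) (hy : y ∈ K) (hxY : x ∈ Y)
    (hyY : y ∈ Y) : x⁻¹ * y ∈ Dsub K Y := subset_closure ⟨x, hx, y, hy, hxY, hyY, rfl⟩

omit [Finite G] in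
theorem Dsub_le {K : Set G} {Y Q : Subgroup G}
    (h : ∀ x ∈ K, ∀ y ∈ K, x ∈ Y → y ∈ Y → x⁻¹ * y ∈ Q) : Dsub K Y ≤ Q := by
  rw [Dsub, closure_le]
  rintro w ⟨x, hx, y, hy, h1, h2, rfl⟩
  exact h x hx y hy h1 h2

namespace OH

variable {p r : ℕ} {z : G} {K : Set G} {B : Set (Subgroup G)} (h : OH p r z K B)
include h

omit [Finite G] in
theorem conjK {x : G} (hx : x ∈ K) (g : G) : g * x * g⁻¹ ∈ K := by
  obtain ⟨a, rfl⟩ := (h.memK x).1 hx
  exact (h.memK _).2 ⟨g * a, by group⟩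

omit [Finite G] in
theorem conjK' {x : G} (hx : x ∈ K) (g : G) : g⁻¹ * x * g ∈ K := by
  simpa using h.conjK hx g⁻¹

omit [Finite G] in
theorem powK {x : G} (hx : x ∈ K) : x ^ r = 1 := by
  obtain ⟨a, rfl⟩ := (h.memK x).1 hx
  rw [conj_pow, h.zr]; simp

omit [Finite G] in
theorem neK {x : G} (hx : x ∈ K) : x ≠ 1 := by
  obtain ⟨a, rfl⟩ := (h.memK x).1 hx
  intro e
  exact h.z1 (by calc z = a⁻¹ * (a * z * a⁻¹) * a := by group
    _ = 1 := by rw [e]; group)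

omit [Finite G] in
theorem genK {N : Subgroup G} (hN : N.Normal) {x : G} (hx : x ∈ K) (hxN : x ∈ N) : N = ⊤ := by
  obtain ⟨a, rfl⟩ := (h.memK x).1 hx
  refine h.gen N hN ?_
  have := hN.conj_mem _ hxN a⁻¹
  simpa [mul_assoc] using this

theorem centK {a : G} (ha : ∀ x ∈ K, Commute a x) : a = 1 := by
  refine h.Z1 a fun g => ?_
  let N : Subgroup G := centralizer K
  have hKN : closure K = ⊤ := by
    refine h.genK ⟨fun n hn g => ?_⟩ ((h.memK z).2 ⟨1, by simp⟩)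
      (subset_closure ((h.memK z).2 ⟨1, by simp⟩))
    induction hn using closure_induction with
    | mem x hx => exact subset_closure (h.conjK hx g)
    | one => simp
    | mul x y _ _ h1 h2 =>
      have := mul_mem h1 h2
      simpa [mul_assoc] using this
    | inv x _ h1 =>
      have := inv_mem h1
      simpa [mul_assoc] using this
  have : closure K ≤ C1 a := by
    rw [closure_le]
    intro x hx
    exact mem_C1.2 (ha x hx).eq.symm
  exact mem_C1.1 (this (hKN ▸ mem_top g))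

theorem nrm_Dsub {Y : Subgroup G} {g : G} (hg : ∀ x ∈ K, x ∈ Y → g * x * g⁻¹ ∈ Y) :
    g ∈ NN (Dsub K Y) := by
  refine NN_of fun a ha => ?_
  have : Dsub K Y ≤ (Dsub K Y).comap (MulAut.conj g).toMonoidHom :=
    Dsub_le fun x hx y hy h1 h2 => by
      have := mem_Dsub (h.conjK hx g) (h.conjK hy g) (hg x hx h1) (hg y hy h2)
      simpa [mem_comap, mul_assoc] using this
  simpa [mem_comap] using this ha

theorem le_NN_Dsub (Y : Subgroup G) : Y ≤ NN (Dsub K Y) := fun g hg =>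
  h.nrm_Dsub fun _ _ hx => Y.mul_mem (Y.mul_mem hg hx) (Y.inv_mem hg)

omit [Finite G] h in
theorem Dsub_le_self (Y : Subgroup G) : Dsub K Y ≤ Y :=
  Dsub_le fun _ _ _ _ h1 h2 => Y.mul_mem (Y.inv_mem h1) h2

omit [Finite G] in
theorem pg_Dsub {Y : Subgroup G} (hY : Y ≠ ⊤) {e : G} (he : e ∈ K) (heY : e ∈ Y) :
    IsPGroup p (Dsub K Y) := by
  obtain ⟨P, hP, h1⟩ := h.good Y hY e he heY
  refine hP.to_le (Dsub_le fun x hx y hy h2 h3 => ?_)
  have := P.mul_mem (P.inv_mem (h1 x hx h2)) (h1 y hy h3)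
  simpa [mul_assoc] using this

omit [Finite G] in
theorem NN_ne_top {P : Subgroup G} (hP : IsPGroup p P) (h1 : P ≠ ⊥) : NN P ≠ ⊤ := fun e =>
  h1 (h.Op1 P (normalizer_eq_top_iff.1 e) hP)

/-- a good subgroup lies in a block -/
theorem blk_of {Y : Subgroup G} (hY : Y ≠ ⊤) {e : G} (he : e ∈ K) (heY : e ∈ Y) :
    ∃ R ∈ B, Dsub K Y ≤ R ∧ ∀ y ∈ K, y ∈ Y → y ∈ NN R := by
  obtain ⟨R, hR, h1, h2⟩ := h.ex _ (h.pg_Dsub hY he heY) e he (h.le_NN_Dsub Y heY)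
  have k : ∀ y ∈ K, y ∈ Y → y ∈ NN R := fun y hy hyY => by
    have := (NN R).mul_mem h1 (h2 (mem_Dsub he hy heY hyY))
    simpa using this
  exact ⟨R, hR, Dsub_le fun x hx y hy h3 h4 => h.diff R hR x hx y hy (k x hx h3) (k y hy h4), k⟩

theorem closure_ne_top {j d : G} (hj : j * j = 1) (hd : d ∈ K) :
    closure ({d, j} : Set G) ≠ ⊤ := by
  intro hL
  have hji : j⁻¹ = j := inv_eq_of_mul_eq_one_right hj
  have hd' : j * d * j ∈ K := by simpa [hji] using h.conjK hd j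
  obtain ⟨P, hP, h1, h2⟩ := h.pair d hd _ hd'
  let N : Subgroup G := closure ({d, j * d * j} : Set G)
  have dN : d ∈ N := subset_closure (by simp)
  have d'N : j * d * j ∈ N := subset_closure (by simp)
  have hjN : j ∈ NN N := by
    refine NN_of fun a ha => ?_
    have : N ≤ N.comap (MulAut.conj j).toMonoidHom := by
      rw [closure_le]
      rintro x (rfl | rfl)
      · simpa [mem_comap, hji] using d'N
      · have e : j * (j * d * j) * j⁻¹ = d := by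
          calc j * (j * d * j) * j⁻¹ = (j * j) * d := by group
            _ = d := by rw [hj, one_mul]
        show j * (j * d * j) * j⁻¹ ∈ N
        rw [e]; exact dN
    simpa [mem_comap] using this ha
  have hNn : N.Normal := by
    rw [← normalizer_eq_top_iff, eq_top_iff, ← hL, closure_le]
    rintro x (rfl | rfl)
    · exact le_NN N dN
    · exact hjN
  have hN := h.genK hNn hd dN
  have hPn : P.Normal := by
    rw [← normalizer_eq_top_iff, eq_top_iff, ← hN, closure_le]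
    rintro x (rfl | rfl)
    · exact h1
    · have := (NN P).mul_mem h1 (le_NN P h2)
      simpa using this
  have hP1 := h.Op1 P hPn hP
  rw [hP1, mem_bot] at h2
  have e : j * d * j = d := by
    calc j * d * j = d * (d⁻¹ * (j * d * j)) := by group
      _ = d := by rw [h2, mul_one]
  refine h.neK hd (h.Z1 d fun g => ?_)
  have : N ≤ C1 d := by
    rw [closure_le]
    rintro x (rfl | rfl)
    · exact mem_C1.2 rfl
    · rw [e]; exact mem_C1.2 rfl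
  exact mem_C1.1 (this (hN ▸ mem_top g))

/-- midpoints and parts -/
theorem mid {j d : G} (hj : j * j = 1) (hd : d ∈ K) :
    ∃ R ∈ B, d ∈ NN R ∧
      (∃ e ∈ K, e ∈ NN R ∧ Commute j e ∧ ∃ i ∈ R, d = i⁻¹ * e * i ∧ j * d * j = i * e * i⁻¹) ∧
      ∃ c, ∃ g ∈ K, ∃ u ∈ R, g ∈ NN R ∧ j * d = c * (j * (g * u)) * c⁻¹ ∧ Commute j g ∧
        Commute j u ∧ Commute g u := by
  have hji : j⁻¹ = j := inv_eq_of_mul_eq_one_right hj
  set L := closure ({d, j} : Set G) with hL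
  have dL : d ∈ L := subset_closure (by simp)
  have jL : j ∈ L := subset_closure (by simp)
  have hd' : j * d * j ∈ K := by simpa [hji] using h.conjK hd j
  have hne := h.closure_ne_top hj hd
  obtain ⟨R, hR, h1, h2⟩ := h.blk_of hne hd dL
  have hD := h.pg_Dsub hne hd dL
  obtain ⟨c, -, a, ha, u, hu, e1, e2, e3, e4⟩ := parts h.hp h.hp2 h.hr h.hr2 h.hpr hD hj
    (h.le_NN_Dsub L jL) (h.le_NN_Dsub L dL) (h.powK hd)
    (mem_Dsub hd hd' dL (L.mul_mem (L.mul_mem jL dL) jL))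
  have aL : a ∈ L := Dsub_le_self L ha
  have gK := h.conjK hd a
  have gN : a * d * a⁻¹ ∈ NN R := h2 _ gK (L.mul_mem (L.mul_mem aL dL) (L.inv_mem aL))
  obtain ⟨b, hb, i, hi, f1, f2, f3⟩ := inv_decomp h.hp h.hp2 hD hj
    (fun x hx => by simpa [hji] using mem_NN (h.le_NN_Dsub L jL) hx) ha
  have cb : Commute j b := by
    show j * b = b * j
    calc j * b = j * b * (j * j) := by rw [hj, mul_one]
      _ = (j * b * j) * j := by group
      _ = _ := by rw [f1]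
  have ce : Commute j (b⁻¹ * (a * d * a⁻¹) * b) := (cb.inv_right.mul_right e2).mul_right cb
  have hde : d = i⁻¹ * (b⁻¹ * (a * d * a⁻¹) * b) * i := by rw [f3]; group
  refine ⟨R, hR, h2 d hd dL, ⟨b⁻¹ * (a * d * a⁻¹) * b, h.conjK' gK b, ?_, ce, i, h1 hi, hde, ?_⟩,
    c, _, gK, u, h1 hu, gN, e1, e2, e3, e4⟩
  · have bN : b ∈ NN R := le_NN R (h1 hb)
    exact (NN R).mul_mem ((NN R).mul_mem ((NN R).inv_mem bN) gN) bN
  · set e := b⁻¹ * (a * d * a⁻¹) * b with he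
    have f2' : j * i⁻¹ * j = i := by
      rw [← f2]
      calc j * (j * i * j) * j = (j * j) * i * (j * j) := by group
        _ = i := by rw [hj]; group
    have ce' : j * e * j = e := by rw [ce.eq, mul_assoc, hj, mul_one]
    calc j * d * j = j * (i⁻¹ * e * i) * j := by rw [← hde]
      _ = j * i⁻¹ * (j * j) * e * (j * j) * i * j := by rw [hj]; group
      _ = (j * i⁻¹ * j) * (j * e * j) * (j * i * j) := by group
      _ = _ := by rw [f2', ce', f2]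

omit [Finite G] in
theorem refl_eq {R : Subgroup G} (hR : R ∈ B) {e a i : G} (he : e ∈ K) (heR : e ∈ NN R)
    (ha : a ∈ R) (hi : i ∈ R) (h1 : a * e * a⁻¹ = i⁻¹ * e * i) : a⁻¹ * e * a = i * e * i⁻¹ := by
  have hc : Commute (i * a) e := by
    show i * a * e = e * (i * a)
    calc i * a * e = i * (a * e * a⁻¹) * a := by group
      _ = _ := by rw [h1]; group
  have hc2 := h.cent R hR e he heR _ (R.mul_mem hi ha) hc i hi
  calc a⁻¹ * e * a = (i * a)⁻¹ * (i * e * i⁻¹) * (i * a) := by group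
    _ = i * e * i⁻¹ := by
      have : Commute (i * a) (i * e * i⁻¹) := (hc2.mul_right hc).mul_right hc2.inv_right
      rw [mul_assoc, ← this.eq]; group

theorem common {R R1 : Subgroup G} (hR : R ∈ B) (hR1 : R1 ∈ B) {e d : G} (he : e ∈ K)
    (hd : d ∈ K) (h1 : e ∈ NN R) (h2 : e ∈ NN R1) (h3 : d ∈ NN R) (h4 : d ∈ NN R1) :
    ∃ a ∈ R, a ∈ R1 ∧ d = a * e * a⁻¹ := by
  obtain ⟨a, ha, e1⟩ := conj_of_coset h.hp h.hr h.hpr (P := R ⊓ R1) ((h.pgrp R hR).to_inf_left)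
    (x := e) (g := d) (NN_of fun a ha => ⟨mem_NN h1 ha.1, mem_NN h2 ha.2⟩) (h.powK he) (h.powK hd)
    ⟨h.diff R hR e he d hd h1 h3, h.diff R1 hR1 e he d hd h2 h4⟩
  exact ⟨a, ha.1, ha.2, e1⟩

end OH

end CfsgH8.QO
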