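import Cfsg.Agent.H8.QO2

set_option autoImplicit false

/-! The odd case of S3617, final part. -/

namespace CfsgH8.QO

open Subgroup CfsgH5 CfsgH6 CfsgFT CfsgSZ
open scoped commutatorElement

universe u
variable {G : Type u} [Group G] [Finite G]

omit [Finite G] in
theorem mem_cj2 {R : Subgroup G} {g a : G} : a ∈ cj g R ↔ g⁻¹ * a * g ∈ R := by
  constructor
  · rintro ⟨b, hb, rfl⟩
    simpa [mul_assoc] using hb
  · intro hb
    exact ⟨_, hb, by simp [mul_assoc]⟩

theorem NN_cj {R : Subgroup G} {g x : G} : x ∈ NN (cj g R) ↔ g⁻¹ * x * g ∈ NN R := by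
  constructor
  · intro hx
    refine NN_of fun a ha => ?_
    have h1 : g * a * g⁻¹ ∈ cj g R := mem_cj2.2 (by simpa [mul_assoc] using ha)
    have := mem_cj2.1 (mem_NN hx h1)
    simpa [mul_assoc] using this
  · intro hx
    refine NN_of fun a ha => mem_cj2.2 ?_
    have := mem_NN hx (mem_cj2.1 ha)
    simpa [mul_assoc] using this

theorem NN_of_cj {R : Subgroup G} {g : G} (h : cj g R = R) : g ∈ NN R :=
  NN_of fun a ha => by
    rw [← h]; exact mem_cj2.2 (by simpa [mul_assoc] using ha)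

namespace OH

variable {p r : ℕ} {z : G} {K : Set G} {B : Set (Subgroup G)} (h : OH p r z K B)
include h

/-- (a): a block containing the fixed points of `j` is `j`-invariant. -/
theorem inv_blk {j : G} (hj : j * j = 1) {R : Subgroup G} (hR : R ∈ B)
    (hF : ∀ e ∈ K, Commute j e → e ∈ NN R) : j ∈ NN R := by
  have hji : j⁻¹ = j := inv_eq_of_mul_eq_one_right hj
  have k : ∀ d ∈ K, d ∈ NN R → j * d * j ∈ NN R := by
    intro d hd hdR
    obtain ⟨R1, hR1, h1, ⟨e, he, h2, h3, i, hi, h4, h5⟩, -⟩ := h.mid hj hd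
    obtain ⟨a, ha, ha1, h6⟩ := h.common hR hR1 he hd (hF e he h3) h2 hdR h1
    rw [h5, ← h.refl_eq hR1 he h2 ha1 hi (h6.symm.trans h4)]
    have aN := le_NN R ha
    exact (NN R).mul_mem ((NN R).mul_mem ((NN R).inv_mem aN) (hF e he h3)) aN
  obtain ⟨-, -, -, ⟨e, he, -, h3, -⟩, -⟩ := h.mid hj ((h.memK z).2 ⟨1, by simp⟩)
  have eR := hF e he h3
  have ej : j⁻¹ * e * j = e := by rw [hji, h3.eq, mul_assoc, hj, mul_one]
  have hle : cj j R ≤ R := by
    refine h.genR _ (h.cjB R hR j) e he (NN_cj.2 (by rwa [ej])) R eR fun y hy hyR => ?_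
    have h1 := k _ (h.conjK' hy j) (NN_cj.1 hyR)
    have e1 : j * (j⁻¹ * y * j) * j = y := by
      calc j * (j⁻¹ * y * j) * j = y * (j * j) := by group
        _ = y := by rw [hj, mul_one]
    rw [e1] at h1
    exact h.diff R hR e he y hy eR h1
  exact NN_of fun a ha => hle (mem_cj2.2 (by simpa [mul_assoc] using ha))

theorem O2_bot : Opc 2 (⊤ : Subgroup G) = ⊥ := by
  by_contra hne
  have hodd : Odd (Nat.card (Opc 2 (⊤ : Subgroup G))) :=
    Nat.not_even_iff_odd.1 fun e => not_dvd_card_Opc Nat.prime_two _ (even_iff_two_dvd.1 e)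
  obtain ⟨q, hq, -, h1⟩ := exists_Op_ne_bot (normalIn_Opc 2 (⊤ : Subgroup G)) hne
    (feit_thompson _ hodd)
  have hn : (Op q (⊤ : Subgroup G)).Normal :=
    ⟨fun n hn g => nrm_Op_self q ⊤ g (mem_top g) n hn⟩
  have hP := isPGroup_Op' hq (⊤ : Subgroup G)
  by_cases hqp : q = p
  · subst hqp; exact h1 (h.Op1 _ hn hP)
  refine h1 (eq_bot_iff.2 fun m hm => mem_bot.2 (h.centK fun x hx => ?_))
  obtain ⟨P, hPp, -, h2⟩ := h.pair x hx _ (h.conjK hx m)
  have h3 : x⁻¹ * (m * x * m⁻¹) ∈ Op q (⊤ : Subgroup G) := by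
    have := mul_mem (hn.conj_mem m hm x⁻¹) (inv_mem hm)
    simpa [mul_assoc] using this
  haveI := Fact.mk hq
  haveI := Fact.mk h.hp
  have h4 := (IsPGroup.disjoint_of_ne q p hqp _ _ hP hPp).le_bot ⟨h3, h2⟩
  rw [mem_bot] at h4
  show m * x = x * m
  calc m * x = x * (x⁻¹ * (m * x * m⁻¹)) * m := by group
    _ = _ := by rw [h4, mul_one]

/-- an involution fixes more than one point -/
theorem two_fixed {j : G} (hj : j * j = 1) (j1 : j ≠ 1) :
    ∃ e ∈ K, ∃ e' ∈ K, Commute j e ∧ Commute j e' ∧ e ≠ e' := by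
  by_contra hne
  push Not at hne
  have hji : j⁻¹ = j := inv_eq_of_mul_eq_one_right hj
  haveI : ZS.{u} := ZS_holds
  have hz := zstar (H := (⊤ : Subgroup G)) (mem_top j) j1 hj fun g _ hc => by
    set j' := g * j * g⁻¹ with hj'
    have hj2 : j' * j' = 1 := conj_mul_self hj g
    have hji' : j'⁻¹ = j' := inv_eq_of_mul_eq_one_right hj2
    have uniq : ∀ e ∈ K, ∀ e' ∈ K, Commute j' e → Commute j' e' → e = e' := by
      intro e he e' he' c1 c2
      have t : ∀ x, Commute j' x → Commute j (g⁻¹ * x * g) := fun x c => by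
        show j * (g⁻¹ * x * g) = g⁻¹ * x * g * j
        calc j * (g⁻¹ * x * g) = g⁻¹ * (j' * x) * g := by rw [hj']; group
          _ = _ := by rw [c.eq, hj']; group
      have := hne _ (h.conjK' he g) _ (h.conjK' he' g) (t e c1) (t e' c2)
      simpa using this
    have key : ∀ d ∈ K, j * d * j = j' * d * j' := by
      intro d hd
      obtain ⟨R, hR, h1, ⟨e, he, h2, h3, i, hi, h4, h5⟩, -⟩ := h.mid hj hd
      obtain ⟨R', hR', h1', ⟨e', he', h2', h3', i', hi', h4', h5'⟩, -⟩ := h.mid hj2 hd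
      have c1 : Commute j (j' * e * j'⁻¹) := (hc.mul_right h3).mul_right hc.inv_right
      have e1 := hne _ (h.conjK he j') _ he c1 h3
      have c2 : Commute j' e := by
        show j' * e = e * j'
        calc j' * e = (j' * e * j'⁻¹) * j' := by group
          _ = _ := by rw [e1]
      have e2 := uniq e he e' he' c2 h3'
      subst e2
      obtain ⟨a, ha, ha1, h6⟩ := h.common hR hR' he hd h2 h2' h1 h1'
      rw [h5, h5', ← h.refl_eq hR he h2 ha hi (h6.symm.trans h4),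
        ← h.refl_eq hR' he h2' ha1 hi' (h6.symm.trans h4')]
    have : j' * j = 1 := h.centK fun d hd => by
      show j' * j * d = d * (j' * j)
      calc j' * j * d = j' * (j * d * j) * j := by
            calc j' * j * d = j' * j * d * (j * j) := by rw [hj, mul_one]
              _ = _ := by group
        _ = (j' * j') * d * (j' * j) := by rw [key d hd]; group
        _ = _ := by rw [hj2, one_mul]
    calc j' = j' * (j * j) := by rw [hj, mul_one]
      _ = (j' * j) * j := by group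
      _ = j := by rw [this, one_mul]
  rw [h.O2_bot, bot_sup_eq, top_inf_eq] at hz
  exact j1 (h.Z1 j fun g => mem_C1.1 (hz ▸ mem_top g))

omit [Finite G] in
theorem C1_ne_top {j : G} (j1 : j ≠ 1) : C1 j ≠ ⊤ := fun e =>
  j1 (h.Z1 j fun g => mem_C1.1 (e ▸ mem_top g))

theorem cent_pts {R : Subgroup G} (hR : R ∈ B) {x y a : G} (hx : x ∈ K) (hy : y ∈ K)
    (h1 : x ∈ NN R) (h2 : y ∈ NN R) (ha : a ∈ R) (hc : Commute a x) : Commute a y := by
  have := hc.mul_right (h.cent R hR x hx h1 a ha hc _ (h.diff R hR x hx y hy h1 h2))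
  simpa using this

theorem le_NN_theta {j : G} (hj : j * j = 1) {R R1 : Subgroup G} (hR : R ∈ B) (hR1 : R1 ∈ B)
    (hF : ∀ e ∈ K, Commute j e → e ∈ NN R) (hF1 : ∀ e ∈ K, Commute j e → e ∈ NN R1)
    (hne : R ≠ R1) : R ≤ NN (Dsub K (C1 j)) := by
  have hji : j⁻¹ = j := inv_eq_of_mul_eq_one_right hj
  obtain ⟨-, -, -, ⟨e, he, -, ce, -⟩, -⟩ := h.mid hj ((h.memK z).2 ⟨1, by simp⟩)
  have jR := h.inv_blk hj hR hF
  have jR1 := h.inv_blk hj hR1 hF1
  have eR := hF e he ce
  -- `j` centralises the centre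
  have hZ : ∀ w ∈ R, Commute w e → j * w * j = w := by
    intro w hw cw
    have j2 : j ∈ NN (cj w R1) := by
      refine h.inv_blk hj (h.cjB R1 hR1 w) fun y hy cy => NN_cj.2 ?_
      have := h.cent_pts hR he hy eR (hF y hy cy) hw cw
      rw [mul_assoc, ← this.eq, inv_mul_cancel_left]
      exact hF1 y hy cy
    have j3 := (NN R1).mul_mem (NN_cj.1 j2) jR1
    have jw : j * w * j ∈ R := by simpa [hji] using mem_NN jR hw
    have cjw : Commute (j * w * j) e := (ce.mul_left cw).mul_left ce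
    by_contra hc
    refine hne (h.na R hR R1 hR1 e he eR (hF1 e he ce) (w⁻¹ * (j * w * j))
      (R.mul_mem (R.inv_mem hw) jw) (fun e1 => hc ?_) (cw.inv_left.mul_left cjw)
      (by simpa [mul_assoc] using j3))
    calc j * w * j = w * (w⁻¹ * (j * w * j)) := by group
      _ = w := by rw [e1, mul_one]
  have thR : Dsub K (C1 j) ≤ R := Dsub_le fun x hx y hy h1 h2 =>
    h.diff R hR x hx y hy (hF x hx (mem_C1.1 h1).symm) (hF y hy (mem_C1.1 h2).symm)
  intro b hb
  obtain ⟨c, -, i, hi, f1, f2, rfl⟩ := inv_decomp h.hp h.hp2 (h.pgrp R hR) hj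
    (fun x hx => by simpa [hji] using mem_NN jR hx) hb
  refine (NN _).mul_mem (h.le_NN_Dsub _ (mem_C1.2 ?_)) (NN_of fun a ha => ?_)
  · calc c * j = (j * c * j) * j := by rw [f1]
      _ = j * c * (j * j) := by group
      _ = _ := by rw [hj, mul_one]
  · have ca : j * a * j = a := by
      have := mem_C1.1 (Dsub_le_self _ ha)
      rw [← this, mul_assoc, hj, mul_one]
    have ca' : j * a⁻¹ * j = a⁻¹ := by
      calc j * a⁻¹ * j = (j⁻¹ * a * j⁻¹)⁻¹ := by group
        _ = _ := by rw [hji, ca]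
    have f2' : j * i⁻¹ * j = i := by
      calc j * i⁻¹ * j = (j⁻¹ * i * j⁻¹)⁻¹ := by group
        _ = _ := by rw [hji, f2, inv_inv]
    have aR := thR ha
    have kR : ⁅a, i⁆ ∈ R := by
      rw [commutatorElement_def]
      exact R.mul_mem (R.mul_mem (R.mul_mem aR hi) (R.inv_mem aR)) (R.inv_mem hi)
    have kc := h.comm R hR e he eR a aR i hi
    have k1 := hZ _ kR kc
    have k2 := h.cent R hR e he eR _ kR kc i hi
    have k3 : j * ⁅a, i⁆ * j = a * i⁻¹ * a⁻¹ * i := by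
      rw [commutatorElement_def]
      calc j * (a * i * a⁻¹ * i⁻¹) * j
          = j * a * (j * j) * i * (j * j) * a⁻¹ * (j * j) * i⁻¹ * j := by rw [hj]; group
        _ = (j * a * j) * (j * i * j) * (j * a⁻¹ * j) * (j * i⁻¹ * j) := by group
        _ = _ := by rw [ca, f2, ca', f2']
    have k4 : ⁅a, i⁆ * ⁅a, i⁆ = 1 := by
      calc ⁅a, i⁆ * ⁅a, i⁆ = i⁻¹ * (i * ⁅a, i⁆) * ⁅a, i⁆ := by group
        _ = i⁻¹ * (⁅a, i⁆ * i) * ⁅a, i⁆ := by rw [k2.eq]
        _ = i⁻¹ * ⁅a, i⁆ * (i * ⁅a, i⁆) := by group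
        _ = i⁻¹ * ⁅a, i⁆ * (i * (a * i⁻¹ * a⁻¹ * i)) := by rw [← k3, k1]
        _ = i⁻¹ * ⁅a, i⁆ * (i * a * i⁻¹ * a⁻¹) * i := by group
        _ = 1 := by rw [commutatorElement_def]; group
    have k5 : ⁅a, i⁆ = 1 := by
      by_contra k6
      refine odd_order_of_mem h.hp h.hp2 (h.pgrp R hR) kR ?_
      haveI : Fact (Nat.Prime 2) := ⟨Nat.prime_two⟩
      rw [orderOf_eq_prime ((pow_two _).trans k4) k6]
    have k7 : a * i = i * a := commutatorElement_eq_one_iff_mul_comm.1 k5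
    rw [← k7, mul_inv_cancel_right]; exact ha

/-- (b): the fixed points of an involution lie in at most one block. -/
theorem uniq_blk {j : G} (hj : j * j = 1) (j1 : j ≠ 1) {R R1 : Subgroup G} (hR : R ∈ B)
    (hR1 : R1 ∈ B) (hF : ∀ e ∈ K, Commute j e → e ∈ NN R)
    (hF1 : ∀ e ∈ K, Commute j e → e ∈ NN R1) : R = R1 := by
  by_contra hne
  obtain ⟨e, he, e', he', c, c', hee⟩ := h.two_fixed hj j1
  have ej : e ∈ C1 j := mem_C1.2 c.eq.symm
  have th1 : Dsub K (C1 j) ≠ ⊥ := fun e0 => by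
    have := mem_Dsub he he' ej (mem_C1.2 c'.eq.symm)
    rw [e0, mem_bot] at this
    exact hee (inv_mul_eq_one.1 this)
  have hY := h.NN_ne_top (h.pg_Dsub (h.C1_ne_top j1) he ej) th1
  set Y := NN (Dsub K (C1 j)) with hYd
  have eY : e ∈ Y := h.le_NN_Dsub _ ej
  obtain ⟨R2, hR2, h1, h2⟩ := h.blk_of hY he eY
  have key : ∀ R ∈ B, e ∈ NN R → R ≤ Y → R = R2 := by
    intro R hR eR hRY
    have : R ≤ R2 := h.genR R hR e he eR R2 (h2 e he eY) fun y hy hyR => by
      have yY : y ∈ Y := by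
        have := Y.mul_mem eY (hRY (h.diff R hR e he y hy eR hyR))
        simpa using this
      exact h1 (mem_Dsub he hy eY yY)
    obtain ⟨u, hu, u1, cu⟩ := h.Zne R hR e he eR
    exact h.na R hR R2 hR2 e he eR (h2 e he eY) u hu u1 cu (le_NN R2 (this hu))
  exact hne ((key R hR (hF e he c) (h.le_NN_theta hj hR hR1 hF hF1 hne)).trans
    (key R1 hR1 (hF1 e he c) (h.le_NN_theta hj hR1 hR hF1 hF (Ne.symm hne))).symm)

theorem odd_kill : False := by
  -- an involution
  obtain ⟨j, hj, j1⟩ : ∃ j : G, j * j = 1 ∧ j ≠ 1 := by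
    by_cases h2 : 2 ∣ Nat.card G
    · haveI : Fact (Nat.Prime 2) := ⟨Nat.prime_two⟩
      obtain ⟨j, hj⟩ := exists_prime_orderOf_dvd_card' 2 h2
      refine ⟨j, by rw [← pow_two, ← hj, pow_orderOf_eq_one], fun e => ?_⟩
      rw [e, orderOf_one] at hj; omega
    · have := (Opc_eq_self Nat.prime_two (M := (⊤ : Subgroup G))).2 (by simpa using h2)
      rw [h.O2_bot] at this
      exact absurd (mem_bot.1 (this ▸ mem_top z)) h.z1
  refine CfsgFS.fb (z := z) hj j1 h.gen fun g0 => ?_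
  obtain ⟨R, hR, -, -, c, g, hg, u, hu, gR, e1, cg, cu, cgu⟩ :=
    h.mid hj ((h.memK _).2 ⟨g0, rfl⟩)
  refine ⟨c, g * u, mul_mem ?_ ?_, e1⟩
  all_goals
    have gj : g ∈ C1 j := mem_C1.2 cg.eq.symm
    have hth := h.pg_Dsub (h.C1_ne_top j1) hg gj
    have p2 : p ∈ ({2}ᶜ : Set ℕ) := h.hp2
    have nth : Nrm (C1 j) (Dsub K (C1 j)) := fun a ha x hx => mem_NN (h.le_NN_Dsub _ ha) hx
  · have hzp : zpowers g ≤ C1 j := zpowers_le.2 gj
    refine le_Opi (X := Dsub K (C1 j) ⊔ zpowers g) (sup_le (Dsub_le_self _) hzp) ?_ ?_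
      (mem_sup_right (mem_zpowers g))
    · intro a ha x hx
      have : Dsub K (C1 j) ⊔ zpowers g ≤
          (Dsub K (C1 j) ⊔ zpowers g).comap (MulAut.conj a).toMonoidHom := by
        refine sup_le (fun y hy => mem_sup_left (nth a ha y hy)) (zpowers_le.2 ?_)
        have h1 := mem_Dsub hg (h.conjK hg a) gj
          ((C1 j).mul_mem ((C1 j).mul_mem ha gj) ((C1 j).inv_mem ha))
        have h2 : g * (g⁻¹ * (a * g * a⁻¹)) ∈ Dsub K (C1 j) ⊔ zpowers g :=
          mul_mem (mem_sup_right (mem_zpowers g)) (mem_sup_left h1)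
        simpa [mem_comap] using h2
      exact this hx
    · refine PiG.sup (piG_of_isPGroup h.hp hth p2) (piE_iff_piG.1 fun q hq hd => ?_)
        (Or.inr (nth.mono hzp))
      have := (Nat.prime_dvd_prime_iff_eq hq h.hr).1
        (hd.trans (orderOf_dvd_of_pow_eq_one (h.powK hg)))
      subst this; exact h.hr2
  · by_cases u1 : u = 1
    · rw [u1]; exact one_mem _
    have uj : u ∈ C1 j := mem_C1.2 cu.eq.symm
    haveI := Fact.mk h.hp
    have hD : IsPGroup p (zpowers u ⊔ Dsub K (C1 j) : Subgroup G) :=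
      IsPGroup.to_sup_of_normal_right' ((h.pgrp R hR).to_le (zpowers_le.2 hu)) hth
        ((zpowers_le.2 uj).trans (h.le_NN_Dsub _))
    have gD : g ∈ NN (zpowers u ⊔ Dsub K (C1 j)) := by
      refine NN_of fun x hx => ?_
      have : zpowers u ⊔ Dsub K (C1 j) ≤
          (zpowers u ⊔ Dsub K (C1 j)).comap (MulAut.conj g).toMonoidHom := by
        refine sup_le (zpowers_le.2 ?_) (fun y hy => mem_sup_right (nth g gj y hy))
        show g * u * g⁻¹ ∈ zpowers u ⊔ Dsub K (C1 j)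
        rw [cgu.eq, mul_inv_cancel_right]; exact mem_sup_left (mem_zpowers u)
      exact this hx
    obtain ⟨R2, hR2, h1, h2⟩ := h.ex _ hD g hg gD
    have e2 := h.na R hR R2 hR2 g hg gR h1 u hu u1 cgu.symm (h2 (mem_sup_left (mem_zpowers u)))
    subst e2
    have hF : ∀ e ∈ K, Commute j e → e ∈ NN R := fun e he ce => by
      have := (NN R).mul_mem gR (h2 (mem_sup_right (mem_Dsub hg he gj (mem_C1.2 ce.eq.symm))))
      simpa using this
    have hN : ∀ a ∈ C1 j, a ∈ NN R := fun a ha => by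
      refine NN_of_cj (h.uniq_blk hj j1 (h.cjB R hR a) hR (fun e he ce => NN_cj.2 ?_) hF)
      have ca : Commute j a := (mem_C1.1 ha).symm
      exact hF _ (h.conjK' he a) ((ca.inv_right.mul_right ce).mul_right ca)
    refine le_Opi (X := R ⊓ C1 j) inf_le_right (fun a ha x hx => ⟨mem_NN (hN a ha) hx.1,
      (C1 j).mul_mem ((C1 j).mul_mem ha hx.2) ((C1 j).inv_mem ha)⟩)
      (piG_of_isPGroup h.hp (h.pgrp R hR).to_inf_left p2) ⟨hu, uj⟩

end OH

end CfsgH8.QO
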