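import Cfsg.Agent.H8.QO3
import Cfsg.Agent.H3.QF

set_option autoImplicit false

/-! The odd case of S3617 in the block calculus. -/

namespace CfsgQ

open Subgroup CfsgH5 CfsgH6 CfsgFT
open scoped commutatorElement

universe u
variable {G : Type u} [Group G] [Finite G] {p r : ℕ} {K : Set G}

theorem BK.odd (h : BK p r K) (hna : NA r K) (hr2 : r ≠ 2) : False := by
  obtain ⟨z, hz, z1⟩ : ∃ z ∈ K, z ≠ 1 := by
    by_contra hc
    push Not at hc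
    refine h.bad ?_
    have : Dl K ≤ ⊥ := Dl_le fun x hx y hy => by rw [hc x hx, hc y hy]; simp
    rw [le_bot_iff.1 this]
    exact IsPGroup.of_bot
  have mem : ∀ x, x ∈ K ↔ ∃ g, x = g * z * g⁻¹ := fun x => by
    constructor
    · intro hx
      obtain ⟨F, h1, h2, h3⟩ := h.pair z hz x hx
      obtain ⟨f, -, e⟩ := h.conj_of z hz x hx F h1 h2 h3
      exact ⟨f, e⟩
    · rintro ⟨g, rfl⟩; exact h.conj z hz g
  refine CfsgH8.QO.OH.odd_kill (p := r) (r := p) (z := z) (K := K)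
    (B := {R | ∃ U, IsBlk r K U ∧ R = Dl U})
    { hp := h.hr, hp2 := hr2, hr := h.hp, hr2 := h.hp2, hpr := h.hpr, z1 := z1, zr := h.ord z hz
      memK := mem
      gen := fun N hN hzN => ?_
      Op1 := h.nor
      Z1 := fun a ha => h.cen a fun x _ => (ha x).symm
      pair := h.pair
      good := fun Y hY x hx hxY => ⟨_, h.flat Y hY, fun y hy hyY => mem_Dl ⟨hx, hxY⟩ ⟨hy, hyY⟩⟩
      pgrp := ?_, cjB := ?_, diff := ?_, ex := ?_, genR := ?_, cent := ?_, comm := ?_, Zne := ?_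
      na := ?_ }
  · rw [eq_top_iff, ← h.gen, closure_le]
    intro x hx
    obtain ⟨g, rfl⟩ := (mem x).1 hx
    exact hN.conj_mem z hzN g
  · rintro R ⟨U, hU, rfl⟩; exact h.pg U hU
  · rintro R ⟨U, hU, rfl⟩ g; exact ⟨_, h.blk_conj U hU g, (Dl_conj U g).symm⟩
  · rintro R ⟨U, hU, rfl⟩ x hx y hy h1 h2
    exact mem_Dl (h.mem_of_N_Dl hU hx h1) (h.mem_of_N_Dl hU hy h2)
  · intro P hP x hx hxP
    obtain ⟨U, hU, h1, h2, -⟩ := h.ex_blk x hx P hP hxP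
    exact ⟨_, ⟨U, hU, rfl⟩, h.mem_N_Dl hU h1, h2.trans (NS_le_NS_Dl U)⟩
  · rintro R ⟨U, hU, rfl⟩ x hx hxR Q - hQ
    refine Dl_le fun a ha b hb => ?_
    have := Q.mul_mem (Q.inv_mem (hQ a (h.sub U hU ha) (h.mem_N_Dl hU ha)))
      (hQ b (h.sub U hU hb) (h.mem_N_Dl hU hb))
    simpa [mul_assoc] using this
  · rintro R ⟨U, hU, rfl⟩ x hx hxR a ha hc b hb
    exact h.Z_comm U hU a (h.cent_Z U hU x (h.mem_of_N_Dl hU hx hxR) a ha hc) b (Dl_le_cl U hb)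
  · rintro R ⟨U, hU, rfl⟩ x hx hxR a ha b hb
    exact h.Z_comm U hU _ (comm_mem_ZZ ha hb) x (subset_closure (h.mem_of_N_Dl hU hx hxR))
  · rintro R ⟨U, hU, rfl⟩ x hx hxR
    obtain ⟨e, he, e1⟩ := h.Z_ne U hU
    exact ⟨e, ZZ_le U he, e1, h.Z_comm U hU e he x (subset_closure (h.mem_of_N_Dl hU hx hxR))⟩
  · rintro R ⟨U, hU, rfl⟩ R1 ⟨U1, hU1, rfl⟩ x hx h1 h2 u hu u1 hc hN
    have xU := h.mem_of_N_Dl hU hx h1
    rw [hna U U1 hU hU1 x xU (h.mem_of_N_Dl hU1 hx h2) u (h.cent_Z U hU x xU u hu hc) u1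
      (h.N_Dl_le hU1 hN)]

end CfsgQ
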