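import Cfsg.Agent.H8.V3TIa

/-! S3424: the transvections and the Sylow `r`-subgroups. -/

set_option autoImplicit false
set_option linter.unusedSectionVars false

namespace CfsgV3

open Finset Cfsg CfsgL CfsgH5 CfsgH6 CfsgFT CfsgSZ CfsgH8 CfsgB0 CfsgU3 Subgroup

universe u

variable {q r d m : ℕ} {G : Type u} [Group G] [Finite G] {a s h : IrrCharacter G}

theorem ti_lt {q x y : ℕ} (h3 : 3 ≤ q) (h : q ^ 3 ≤ x * y) (hy : y ≤ q + 1) : q * (q - 1) < x := by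
  obtain ⟨u, rfl⟩ : ∃ u, q = u + 1 := ⟨q - 1, by omega⟩
  by_contra! f
  rw [Nat.add_sub_cancel] at f
  have := Nat.mul_le_mul f hy
  nlinarith

theorem ti_ge {α : Type*} [Finite α] {A : Set α} {f : α → ℕ} {m : ℕ} (e : ∀ x ∈ A, f x ≤ m) :
    ∑ᶠ x ∈ A, f x ≤ A.ncard * m := by
  obtain ⟨A, rfl⟩ := (Set.toFinite A).exists_finset_coe
  rw [finsum_mem_coe_finset, Set.ncard_coe_finset, ← smul_eq_mul, ← sum_const]
  exact sum_le_sum e

namespace DU

variable (D : DU G q r d m a s h)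
include D

theorem val0 {g : G} (e : RE r g) (f : g ∉ ZZ q r a) : iv g a = 0 ∧ Nat.card (C1 g) ∣ q ^ 2 :=
  (D.dich e).resolve_left fun f' => f ⟨e, f'⟩

theorem cardZ : (ZZ q r a).ncard = (q ^ 3 + 1) * (q - 1) ∧
    {g : G | RE r g}.ncard = (q ^ 3 + 1) * (q ^ 3 - 1) := by
  classical
  letI := Fintype.ofFinite G
  obtain ⟨e1, e2⟩ := D.mom
  have e3 : ∀ F : ℤ → ℤ, F 0 = 0 → ∑ g with RE r g, F (iv g a) = (ZZ q r a).ncard * F (-q) := by
    intro F h0
    rw [← sum_ind (· ∈ ZZ q r a) _ (Nat.card_coe_set_eq _), sum_filter]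
    refine sum_congr rfl fun g _ => ?_
    by_cases f : g ∈ ZZ q r a
    · rw [if_pos f.1, if_pos f, f.2]
    · rw [if_neg f]
      split_ifs with f'
      · rw [(D.val0 f' f).1, h0]
      · rfl
  rw [e3 (fun z => z * (z - 1)) (by simp)] at e2
  rw [sum_sub_distrib, e3 (fun z => z) rfl, sum_const, ← Set.ncard_coe_finset, coe_filter] at e1
  simp only [mem_univ, true_and, nsmul_eq_mul, mul_one] at e1
  have q3 := D.par.q3
  have e4 : ((ZZ q r a).ncard : ℤ) = (q ^ 3 + 1) * (q - 1) :=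
    mul_left_cancel₀ (by positivity : (q : ℤ) * (q + 1) ≠ 0) (by linear_combination e2)
  zify [D.par.ti_cast, Nat.one_le_pow 3 q (by omega)]
  exact ⟨e4, by rw [e4] at e1; linear_combination -e1⟩

theorem cZ {z : G} (e : z ∈ ZZ q r a) : ∃ n, Nat.card (C1 z) * n = q ^ 3 * (q + 1) ∧
    d * (C1 z).index = n * (ZZ q r a).ncard := by
  have e1 := D.cls_h e.1
  rw [e.2, show (q : ℤ) ^ 3 * (-q - 1) = -(q ^ 3 * (q + 1) : ℕ) by push_cast; ring, dvd_neg,
    Int.natCast_dvd_natCast] at e1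
  obtain ⟨n, hn⟩ := e1
  refine ⟨n, hn.symm, Nat.eq_of_mul_eq_mul_left (Nat.card_pos (α := C1 z)) ?_⟩
  rw [mul_left_comm, (C1 z).card_mul_index, D.card, D.cardZ.1, ← mul_assoc _ n, ← hn]
  zify [D.par.ti_cast]
  linear_combination q ^ 3 * ((q - 1) * (q + 1) ^ 2) * D.par.hz

theorem cZ_le {z : G} (e : z ∈ ZZ q r a) {n : ℕ} (h : d * (C1 z).index = n * (ZZ q r a).ncard) :
    n ≤ d := by
  have : (C1 z).index ≤ (ZZ q r a).ncard := by
    rw [← card_isConj_eq]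
    exact Set.ncard_le_ncard (s := {g | IsConj z g}) fun g hg => ZZ_conj e hg
  exact Nat.le_of_mul_le_mul_right (h ▸ Nat.mul_le_mul_left d this)
    ((Set.ncard_pos).mpr ⟨z, e⟩)

theorem res {R : Subgroup G} (hR : IsPGroup r R) :
    ∃ m : ℕ, q * (q - 1) = Nat.card R * m + q * (ZZ q r a ∩ R).ncard := by
  classical
  letI := Fintype.ofFinite R
  obtain ⟨m, hm⟩ := sum_sub_nat (irr_isChar a.2) R
  refine ⟨m, ?_⟩
  have e1 : ∑ x : R, iv x.1 a = (q * (q - 1) : ℕ) + (ZZ q r a ∩ R).ncard * (-q : ℤ) := by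
    rw [← sum_ind (fun x : R => x.1 ∈ ZZ q r a) (n := (ZZ q r a ∩ R).ncard) _ (by
      rw [← Nat.card_coe_set_eq]
      exact Nat.card_congr ⟨fun x => ⟨x.1.1, x.2, x.1.2⟩, fun x => ⟨⟨x.1, x.2.2⟩, x.2.1⟩,
        fun _ => rfl, fun _ => rfl⟩), show ((q * (q - 1) : ℕ) : ℤ) = ∑ x : R, if x = 1 then
        ((q * (q - 1) : ℕ) : ℤ) else 0 by simp, ← sum_add_distrib]
    refine sum_congr rfl fun x _ => ?_
    by_cases e : x = 1
    · simp [e, iv_one, D.deg.1, ZZ, RE]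
    by_cases f : x.1 ∈ ZZ q r a
    · simp [e, f, f.2]
    · simp [e, f, (D.val0 (RE.of_mem hR x.2 (by simpa using e)) f).1]
  simp only [D.val_a, ← Int.cast_sum, e1] at hm
  have : ((q * (q - 1) : ℕ) : ℤ) + (ZZ q r a ∩ R).ncard * (-q : ℤ) = Nat.card R * m := by
    exact_mod_cast hm
  zify at this ⊢
  linarith

theorem kle {R : Subgroup G} (hR : IsPGroup r R) : (ZZ q r a ∩ R).ncard ≤ q - 1 := by
  obtain ⟨m, hm⟩ := D.res hR
  have := D.par.q3
  exact Nat.le_of_mul_le_mul_left (hm ▸ Nat.le_add_left _ _ : q * _ ≤ q * (q - 1)) (by omega)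

theorem keq {R : Subgroup G} (hR : IsPGroup r R) (e : q * (q - 1) < Nat.card R) :
    (ZZ q r a ∩ R).ncard = q - 1 := by
  obtain ⟨m, hm⟩ := D.res hR
  have := D.par.q3
  obtain rfl : m = 0 := by
    by_contra f
    have := Nat.le_mul_of_pos_right (Nat.card R) (Nat.pos_of_ne_zero f)
    omega
  exact Nat.eq_of_mul_eq_mul_left (show 0 < q by omega) (by simpa using hm.symm)

theorem eqZ {R P : Subgroup G} (hP : IsPGroup r P) (l : R ≤ P) (e : q * (q - 1) < Nat.card R) :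
    ZZ q r a ∩ R = ZZ q r a ∩ P :=
  Set.eq_of_subset_of_ncard_le (Set.inter_subset_inter_right _ l) (by
    rw [D.keq (hP.to_le l) e]; exact D.kle hP)

theorem pg {P : Subgroup G} (e : Nat.card P = q ^ 3) : IsPGroup r P := by
  obtain ⟨k, rfl⟩ := D.par.pw
  exact IsPGroup.of_card (e.trans (pow_mul r k 3).symm)

theorem syl_dvd {T C : Subgroup G} (h2 : SylIn r T C) {n : ℕ} (e : q ^ 3 ∣ Nat.card C * n) :
    q ^ 3 ∣ Nat.card T * n := by
  obtain ⟨k, hk⟩ := D.par.pw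
  haveI := Fact.mk D.par.pr
  rw [← card_mul_relIndex h2.le, mul_right_comm] at e
  rw [hk, ← pow_mul] at e ⊢
  exact (((Nat.Prime.coprime_iff_not_dvd D.par.pr).mpr h2.not_dvd_relIndex).pow_left
    _).dvd_of_dvd_mul_right e

theorem exP {R C : Subgroup G} (l : R ≤ C) (hR : IsPGroup r R) (e : q ^ 3 ∣ Nat.card C) :
    ∃ T, R ≤ T ∧ T ≤ C ∧ Nat.card T = q ^ 3 := by
  haveI := Fact.mk D.par.pr
  obtain ⟨T, h1, h2⟩ := exists_sylIn_ge l hR
  refine ⟨T, h1, h2.le, Nat.dvd_antisymm ?_ (by simpa using D.syl_dvd h2 (e.mul_right 1))⟩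
  obtain ⟨j, hj⟩ := h2.isPGroup.exists_card_eq
  have := card_subgroup_dvd_card T
  rw [D.card, ord, mul_assoc, hj] at this
  exact hj ▸ (((Nat.Prime.coprime_iff_not_dvd D.par.pr).mpr D.par.not_dvd_r).pow_left
    j).dvd_of_dvd_mul_right this

theorem exP' {R : Subgroup G} (hR : IsPGroup r R) : ∃ T, R ≤ T ∧ Nat.card T = q ^ 3 := by
  obtain ⟨T, h1, -, h2⟩ := D.exP le_top hR (by
    rw [card_top, D.card, ord, mul_assoc]; exact dvd_mul_right _ _)
  exact ⟨T, h1, h2⟩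

theorem kP {P : Subgroup G} (e : Nat.card P = q ^ 3) : (ZZ q r a ∩ P).ncard = q - 1 :=
  D.keq (D.pg e) (ti_lt D.par.q3 (y := 1) (by rw [e, mul_one]) (by omega))

theorem bigC {z : G} (hz : z ∈ ZZ q r a) {P : Subgroup G} (e : Nat.card P = q ^ 3) (m : z ∈ P) :
    q * (q - 1) < Nat.card (C1 z ⊓ P : Subgroup G) := by
  refine ti_lt D.par.q3 ((ti_cls P z).trans e).ge (le_trans ?_ (by omega : q - 1 ≤ q + 1))
  rw [← D.kP e]
  refine Set.ncard_le_ncard ?_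
  rintro _ ⟨g, hg, rfl⟩
  exact ⟨ZZ_conj hz (isConj_iff.mpr ⟨g, rfl⟩), mul_mem (mul_mem hg m) (inv_mem hg)⟩

/-- a transvection centralising a Sylow subgroup determines the transvections of its Sylow groups -/
theorem phi {z : G} (hz : z ∈ ZZ q r a) (hc : q ^ 3 ∣ Nat.card (C1 z)) {P P' : Subgroup G}
    (e : Nat.card P = q ^ 3) (e' : Nat.card P' = q ^ 3) (m : z ∈ P) (m' : z ∈ P') :
    ZZ q r a ∩ P = ZZ q r a ∩ P' := by
  have k : ∀ P : Subgroup G, Nat.card P = q ^ 3 → z ∈ P → ∃ T ≤ C1 z, Nat.card T = q ^ 3 ∧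
      ZZ q r a ∩ P = ZZ q r a ∩ T := fun P e m => by
    obtain ⟨T, h1, h2, h3⟩ := D.exP (inf_le_left (a := C1 z) (b := P))
      ((D.pg e).to_le inf_le_right) hc
    have h6 := D.bigC hz e m
    exact ⟨T, h2, h3, (D.eqZ (D.pg e) inf_le_right h6).symm.trans (D.eqZ (D.pg h3) h1 h6)⟩
  obtain ⟨T, a1, a2, a3⟩ := k P e m
  obtain ⟨T', b1, b2, b3⟩ := k P' e' m'
  have c1 := card_inf_mul_relIndex T T'
  have c2 := relIndex_le_of_le_right b1 (relIndex_ne_zero' T (C1 z))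
  have c3 := card_mul_relIndex a1
  obtain ⟨n, hn, -⟩ := D.cZ hz
  have c4 := Nat.le_of_dvd (by have := D.par.q3; positivity) (Dvd.intro _ hn)
  have c5 : q * (q - 1) < Nat.card (T ⊓ T' : Subgroup G) := by
    rw [← c3, a2] at c4
    exact ti_lt D.par.q3 (c1.trans b2).ge
      (c2.trans (Nat.le_of_mul_le_mul_left c4 (a2 ▸ Nat.card_pos)))
  rw [a3, b3, ← D.eqZ (D.pg a2) inf_le_left c5, D.eqZ (D.pg b2) inf_le_right c5]

theorem exZ {P : Subgroup G} (e : Nat.card P = q ^ 3) :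
    ∃ z ∈ ZZ q r a, z ∈ P ∧ P ≤ C1 z := by
  have b7 := D.par.q3
  haveI := Fact.mk D.par.pr
  haveI : Nontrivial P := Finite.one_lt_card_iff_nontrivial.mp (e ▸ Nat.one_lt_pow (by omega) (by omega))
  haveI := (D.pg e).center_nontrivial
  obtain ⟨z, hz⟩ := exists_ne (1 : center P)
  have z1 : z.1.1 ≠ 1 := fun f => hz (Subtype.ext (Subtype.ext f))
  have l : P ≤ C1 z.1.1 := fun g hg => mem_C1.mpr
    (congrArg Subtype.val (mem_center_iff.mp z.2 ⟨g, hg⟩))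
  refine ⟨z.1.1, ?_, z.1.2, l⟩
  by_contra f
  have := Nat.le_of_dvd (by positivity) ((e ▸ card_dvd_of_le l).trans
    (D.val0 (RE.of_mem (D.pg e) z.1.2 z1) f).2)
  exact absurd this (not_le.mpr (Nat.pow_lt_pow_right (by omega) (by omega)))

theorem syl {P : Subgroup G} (e : Nat.card P = q ^ 3) : SylIn r P ⊤ :=
  ⟨le_top, D.pg e, fun T _ hT l => by
    obtain ⟨T', l', e'⟩ := D.exP' hT
    exact le_antisymm (l'.trans (eq_of_le_of_card_ge (l.trans l') (e'.trans e.symm).le).ge) l⟩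

theorem exP1 {g : G} (e : RE r g) : ∃ T : Subgroup G, Nat.card T = q ^ 3 ∧ g ∈ T := by
  obtain ⟨T, h1, h2⟩ := D.exP' e.isPGroup
  exact ⟨T, h2, h1 (mem_zpowers g)⟩

/-- every transvection determines the transvections of its Sylow groups -/
theorem phiA {z : G} (hz : z ∈ ZZ q r a) {P P' : Subgroup G}
    (e : Nat.card P = q ^ 3) (e' : Nat.card P' = q ^ 3) (m : z ∈ P) (m' : z ∈ P') :
    ZZ q r a ∩ P = ZZ q r a ∩ P' := by
  by_cases hc : q ^ 3 ∣ Nat.card (C1 z)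
  · exact D.phi hz hc e e' m m'
  by_contra ne
  haveI := Fact.mk D.par.pr
  have q3 := D.par.q3
  obtain ⟨T, t1, t2⟩ := exists_sylIn_ge (inf_le_left (a := C1 z) (b := P))
    ((D.pg e).to_le inf_le_right)
  have t3 : ZZ q r a ∩ P = ZZ q r a ∩ T := (D.eqZ (D.pg e) inf_le_right (D.bigC hz e m)).symm.trans
    (D.eqZ t2.isPGroup t1 (D.bigC hz e m))
  obtain ⟨y, y1, y2, y3⟩ := D.exZ e'
  have y4 : q ^ 3 ∣ Nat.card (C1 y) := e' ▸ card_dvd_of_le y3
  have c1 : Nat.card (C1 y ⊓ T : Subgroup G) ≤ q * (q - 1) := by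
    by_contra! f
    obtain ⟨R, p1, p2, p3⟩ := D.exP (inf_le_left (a := C1 y) (b := T))
      (t2.isPGroup.to_le inf_le_right) y4
    have yR : y ∈ R := (D.syl p3).le_of_nrm' D.par.pr le_top y1.1.isPGroup
      (nrm_of_le_C (le_C_comm.mp (C_zpowers y ▸ p2))) (mem_zpowers y)
    exact ne (by rw [t3, ← D.eqZ t2.isPGroup inf_le_right f, D.eqZ (D.pg p3) p1 f,
      D.phi y1 y4 p3 e' yR y2])
  have c2 := ti_cls T y
  have e1 := ti_dc {x | IsConj y x} {x | IsConj z x} (Cm q)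
  have e2 := ti_ge (A := {x | IsConj y x}) (f := fun x => {w ∈ {x | IsConj z x} | Cm q x w}.ncard)
    (m := q - 1) fun x hx => by
      obtain ⟨R, r1, r2⟩ := D.exP1 (y1.1.conj hx)
      rw [← D.kP r1]
      refine Set.ncard_le_ncard fun w ⟨w1, R', r3, r4, r5⟩ => ?_
      rw [D.phi (ZZ_conj y1 hx) (by rwa [card_C1_isConj hx]) r1 r3 r2 r4]
      exact ⟨ZZ_conj hz w1, r5⟩
  have e3 := (ti_le (A := {x | IsConj z x}) (f := fun w => {x ∈ {x | IsConj y x} | Cm q x w}.ncard)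
    (m := {x | ∃ g ∈ T, g * y * g⁻¹ = x}.ncard) fun w hw => by
      obtain ⟨k, rfl⟩ := isConj_iff.mp hw
      refine Set.ncard_le_ncard_of_injOn (fun x => k * x * k⁻¹) ?_ fun x _ y _ f => by simpa using f
      rintro _ ⟨g, hg, rfl⟩
      refine ⟨isConj_iff.mpr ⟨k * g, by group⟩, cj (k * g) P', (card_cj _ _).trans e', ?_, ?_⟩
      · exact mem_cj'.mpr ⟨y, y2, by group⟩
      · refine mem_cj'.mpr ⟨z, m', ?_⟩
        rw [mul_inv_rev, ← mem_C1_iff_conj.mp (t2.le hg)]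
        nth_rewrite 2 [mem_C1_iff_conj.mp (t2.le hg)]
        group).1
  rw [← e1] at e3
  have e4 := e3.trans e2
  have e5 : {x | IsConj y x}.ncard + {x | IsConj z x}.ncard ≤ (ZZ q r a).ncard := by
    rw [← Set.ncard_union_eq (s := {x | IsConj y x}) (t := {x | IsConj z x})
      (Set.disjoint_left.mpr fun x (f1 : IsConj y x) (f2 : IsConj z x) =>
      hc (by rwa [card_C1_isConj (f1.trans f2.symm)]))]
    exact Set.ncard_le_ncard (Set.union_subset (fun x hx => ZZ_conj y1 hx) fun x hx => ZZ_conj hz hx)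
  obtain ⟨n, n1, n2⟩ := D.cZ hz
  have n0 : 0 < n := Nat.pos_of_ne_zero fun f => by
    rw [f, mul_zero] at n1; exact absurd n1 (by positivity)
  have n1' : q ^ 3 ∣ Nat.card (C1 z) * n := Dvd.intro _ n1.symm
  have n3 := Nat.le_of_dvd (Nat.mul_pos Nat.card_pos n0) (D.syl_dvd t2 n1')
  have n4 : r ∣ n := by
    by_contra f
    obtain ⟨k, hk⟩ := D.par.pw
    refine hc (Nat.Coprime.dvd_of_dvd_mul_right (n := n) ?_ n1')
    rw [hk]
    exact (((Nat.Prime.coprime_iff_not_dvd D.par.pr).mpr f).pow_left _).pow_left _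
  have n5 : 0 < {x | IsConj y x}.ncard := (Set.ncard_pos).mpr ⟨y, IsConj.refl y⟩
  have n6 : (C1 z).index = {x | IsConj z x}.ncard := (card_isConj_eq z).symm
  have n7 := D.cZ_le hz n2
  have n8 := D.par.d_le
  have n9 : 2 ≤ n := D.par.pr.two_le.trans (Nat.le_of_dvd n0 n4)
  rw [n6] at n2
  generalize {x | IsConj y x}.ncard = Z1 at *
  generalize {x | IsConj z x}.ncard = Z2 at *
  generalize {x | ∃ g ∈ T, g * y * g⁻¹ = x}.ncard = k at *
  obtain ⟨rfl, rfl⟩ : n = 2 ∧ d = 3 := by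
    have : n ≠ d := fun f => by
      have := Nat.eq_of_mul_eq_mul_left D.par.d_pos (f ▸ n2)
      omega
    omega
  have f1 : 2 * k ≤ q - 1 := Nat.le_of_mul_le_mul_left (by nlinarith) n5
  have f2 := ti_lt q3 (x := Nat.card (C1 y ⊓ T : Subgroup G)) (y := 2 * k) (by nlinarith) (by omega)
  omega

end DU

end CfsgV3
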