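import Cfsg.Agent.H7.W3Par
import Cfsg.Agent.H5.BSWChar

/-! S3422: values of the characters `a, s, h` at `r`-elements. -/

set_option autoImplicit false
set_option linter.unusedSectionVars false

namespace CfsgW3

open Finset Cfsg CfsgL CfsgH5 CfsgH6 CfsgFT CfsgSZ CfsgH8 CfsgB0 Subgroup
open CfsgV3 (TT)
open CfsgU3 (RE)

universe u

variable {q r d m e₀ : ℕ}

theorem Par.vl_val (h : Par q r d m e₀) {c k : ℕ} {A : ℤ} (h0 : (r : ℤ) ∣ A) (c0 : c ≠ 0)
    (h1 : (c : ℤ) ∣ q ^ 3 * (A - 1)) (h2 : c.Coprime m) (h3 : ((k * (c * c) : ℕ) : ℤ) =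
      m * (q ^ 2 * ((q - A) * (q ^ 3 - q ^ 2 - q + (q ^ 2 - q + 1) * A))))
    (h4 : q ^ 2 * (A * (A - 1)) ≤ d * c) : A = q ∨ A = 0 ∧ c ∣ q ^ 2 := by
  have q3 : (2 : ℤ) ≤ q := by exact_mod_cast h.q2
  have m7 : (7 : ℤ) ≤ m := by exact_mod_cast h.seven
  have hr := h.pr
  have hr' : Prime (r : ℤ) := Nat.prime_iff_prime_int.mp hr
  have rq : (r : ℤ) ∣ q := Int.natCast_dvd_natCast.mpr h.r_dvd
  obtain ⟨n, hn⟩ := h.pw
  have h5 : (c : ℤ) * c ∣ q ^ 2 * ((q - A) * (q ^ 3 - q ^ 2 - q + (q ^ 2 - q + 1) * A)) :=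
    ((Nat.isCoprime_iff_coprime.mpr h2).mul_left (Nat.isCoprime_iff_coprime.mpr h2)).dvd_of_dvd_mul_left
      ⟨k, by rw [← h3]; push_cast; ring⟩
  have h6 : 0 ≤ (q - A) * (q ^ 3 - q ^ 2 - q + (q ^ 2 - q + 1) * A) :=
    (mul_nonneg_iff_of_pos_left (by positivity)).mp ((mul_nonneg_iff_of_pos_left (by linarith)).mp
      (h3 ▸ Int.natCast_nonneg _))
  obtain ⟨i, c', hc', rfl⟩ := Nat.exists_eq_pow_mul_and_not_dvd c0 r hr.ne_one
  have hq : (q : ℤ) = r ^ n := by exact_mod_cast hn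
  have cop : IsCoprime (c' : ℤ) (q ^ 3) := by
    rw [hq]
    exact ((Nat.isCoprime_iff_coprime.mpr ((Nat.Prime.coprime_iff_not_dvd hr).mpr hc').symm).pow_right).pow_right
  have h7 : (c' : ℤ) ∣ A - 1 := cop.dvd_of_dvd_mul_left ((Int.natCast_dvd_natCast.mpr
    (dvd_mul_left _ _)).trans h1)
  have key : ∀ (j : ℕ) (U : ℤ), ¬ (r : ℤ) ∣ U →
      (q - A) * (q ^ 3 - q ^ 2 - q + (q ^ 2 - q + 1) * A) = r ^ j * r ^ j * U → i ≤ n + j := by
    intro j U hU e
    rw [e] at h5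
    have f1 : (r : ℤ) ^ (2 * i) ∣ r ^ (2 * (n + j)) * U := by
      refine Dvd.dvd.trans ⟨c' * c', by push_cast; ring⟩ (h5.trans (dvd_of_eq ?_))
      rw [hq]; ring
    have f2 := ((hr'.coprime_iff_not_dvd.mpr hU).pow_left (m := 2 * i)).dvd_of_dvd_mul_right f1
    have := (pow_dvd_pow_iff hr'.ne_zero hr'.not_unit).mp f2
    omega
  by_cases e0 : A = 0
  · subst e0
    refine .inr ⟨rfl, ?_⟩
    have f1 := key n (q ^ 2 - q - 1) (fun f => hr'.not_dvd_one (by
      simpa using dvd_sub (dvd_sub (dvd_pow rq two_ne_zero) rq) f)) (by rw [← hq]; ring)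
    obtain rfl : c' = 1 := by simpa using Int.natCast_dvd.mp h7
    rw [mul_one, hn, ← pow_mul]
    exact pow_dvd_pow r (by omega)
  by_contra! e1
  replace e1 := e1.1
  have b1 : -(q : ℤ) < A := by
    by_contra! f
    have : q ^ 3 - q ^ 2 - q + (q ^ 2 - q + 1) * A < 0 := by
      nlinarith [mul_nonneg (by nlinarith : (0 : ℤ) ≤ q ^ 2 - q + 1) (by linarith : 0 ≤ -q - A)]
    nlinarith
  have b2 : A < q := by
    by_contra! f
    have : q - A < 0 := by omega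
    nlinarith [mul_pos (by nlinarith : (0 : ℤ) < q ^ 2 - q + 1) (by linarith : 0 < A),
      mul_pos (by positivity : (0 : ℤ) < q) (by nlinarith : (0 : ℤ) < q ^ 2 - q - 1)]
  obtain ⟨j, w, hw, e2⟩ := Nat.exists_eq_pow_mul_and_not_dvd (Int.natAbs_ne_zero.mpr e0) r hr.ne_one
  have w0 : 0 < w := Nat.pos_of_ne_zero fun f => hw (f ▸ dvd_zero r)
  have b3 : j < n := by
    refine (Nat.pow_lt_pow_iff_right hr.one_lt).mp ?_
    have := Nat.le_mul_of_pos_right (r ^ j) w0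
    omega
  obtain ⟨w', hw', e3⟩ : ∃ w' : ℤ, ¬ (r : ℤ) ∣ w' ∧ A = r ^ j * w' := by
    rcases Int.natAbs_eq A with f | f
    · exact ⟨w, by exact_mod_cast hw, by rw [f, e2]; push_cast; rfl⟩
    · exact ⟨-w, by rw [dvd_neg]; exact_mod_cast hw, by rw [f, e2]; push_cast; ring⟩
  obtain ⟨l, rfl⟩ := Nat.exists_eq_add_of_lt b3
  have f1 := key j ((r ^ (l + 1) - w') * (r ^ (l + 1) * (q ^ 2 - q - 1) + (q ^ 2 - q + 1) * w'))
    (fun f => by
      have f0 : (r : ℤ) ∣ r ^ (l + 1) := dvd_pow_self _ (by omega)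
      rcases hr'.dvd_or_dvd f with f | f
      · exact hw' ((dvd_sub_right f0).mp f)
      rcases hr'.dvd_or_dvd ((dvd_add_right (f0.mul_right _)).mp f) with f | f
      · exact hr'.not_dvd_one ((dvd_add_right (dvd_sub (dvd_pow rq two_ne_zero) rq)).mp f)
      · exact hw' f) (by
      have : (q : ℤ) = r ^ j * r ^ (l + 1) := by rw [hq]; ring
      rw [e3]
      linear_combination (r ^ j * (r ^ (l + 1) - w') * (q ^ 2 - q - 1) +
        (q ^ 3 - q ^ 2 - q + (q ^ 2 - q + 1) * (r ^ j * w'))) * this)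
  have f2 : A - 1 ≠ 0 := fun f => hr'.not_dvd_one (by rwa [sub_eq_zero.mp f] at h0)
  have f3 : c' ≤ (A - 1).natAbs := Nat.le_of_dvd (Int.natAbs_pos.mpr f2) (Int.natCast_dvd.mp h7)
  have f4 : r ^ i ≤ q * A.natAbs := by
    rw [e2, hn, ← mul_assoc, ← pow_add]
    exact (Nat.pow_le_pow_right hr.pos f1).trans (Nat.le_mul_of_pos_right _ w0)
  have f5 : q ^ 2 * (A.natAbs * (A - 1).natAbs) ≤ d * (r ^ i * c') := by
    zify
    rw [← abs_mul, abs_of_nonneg (by rcases le_or_gt A 0 with f | f <;> nlinarith)]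
    exact_mod_cast h4
  have f6 : q * (q * (A.natAbs * (A - 1).natAbs)) ≤ d * (q * (A.natAbs * (A - 1).natAbs)) :=
    calc _ = q ^ 2 * (A.natAbs * (A - 1).natAbs) := by ring
      _ ≤ d * (q * A.natAbs * (A - 1).natAbs) :=
        f5.trans (Nat.mul_le_mul_left _ (Nat.mul_le_mul f4 f3))
      _ = _ := by ring
  have f7 := Nat.le_of_mul_le_mul_right f6 (Nat.mul_pos (by omega)
    (Nat.mul_pos (Int.natAbs_pos.mpr e0) (Int.natAbs_pos.mpr f2)))
  have := h.d_cases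
  omega

variable {G : Type u} [Group G] [Finite G] {a s h : IrrCharacter G}

namespace DL

variable (D : DL G q r d m e₀ a s h)
include D

theorem re_dvd {g : G} (e : RE r g) : r ∣ orderOf g ∧ ¬ TT m g := by
  obtain ⟨k, hk⟩ := e.2
  have := orderOf_dvd_of_pow_eq_one hk
  obtain ⟨j, -, hj⟩ := (Nat.dvd_prime_pow D.par.pr).mp this
  have e1 : r ∣ orderOf g :=
    hj ▸ dvd_pow_self r fun f => e.1 (orderOf_eq_one_iff.mp (by rw [hj, f, pow_zero]))
  exact ⟨e1, fun f => D.par.not_dvd_r ((e1.trans (orderOf_dvd_of_pow_eq_one f.2)).mul_right _)⟩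

theorem val_a (g : G) : a.1 g = iv g a := by
  by_cases e : TT m g
  · rw [iv_eq (a := -1) (by simp [(D.xp g e).1]), (D.xp g e).1]; simp
  · exact D.int a (by simp) g e

theorem val_s (g : G) : s.1 g = iv g s := by
  by_cases e : TT m g
  · rw [iv_eq (a := 1) (by simp [(D.xp g e).2]), (D.xp g e).2]; simp
  · exact D.int s (by simp) g e

theorem re_val {g : G} (e : RE r g) : iv g s = 0 ∧ iv g h = 1 - iv g a ∧ (r : ℤ) ∣ iv g a := by
  haveI := Fact.mk D.par.pr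
  have e1 : iv g s = 0 := iv_vanish D.par.pr (by rw [D.card, D.deg.2.1, ord, mul_assoc])
    D.par.not_dvd_r (D.re_dvd e).1
  have e2 := D.rel g (D.re_dvd e).2
  obtain ⟨k, hk⟩ := e.2
  have e3 := int_congr (p := r) (χ := a) hk (Commute.one_right g) (by rw [mul_one, D.val_a])
    (b := dg a) (by rw [dg_cast]; simp)
  refine ⟨e1, by omega, (dvd_sub_left ?_).mp e3⟩
  rw [D.deg.1]
  exact Int.natCast_dvd_natCast.mpr (D.par.r_dvd.mul_right _)

theorem nre_h {g : G} (h1 : g ≠ 1) (h2 : ¬ TT m g) (h3 : ¬ RE r g) : iv g h = 0 := by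
  obtain ⟨k, hk⟩ := D.par.pw
  by_contra e
  refine h3 ⟨h1, _, orderOf_dvd_iff_pow_eq_one.mp (Nat.eq_prime_pow_of_unique_prime_dvd
    (orderOf_pos g).ne' fun {t} ht f => ?_).dvd⟩
  by_contra f'
  refine e (iv_vanish ht (m := q ^ 3 * m) (by rw [D.card, D.deg.2.2, ord, mul_comm]) (fun f2 => ?_) f)
  rcases (Nat.Prime.dvd_mul ht).mp f2 with f2 | f2
  · exact f' ((Nat.prime_dvd_prime_iff_eq ht D.par.pr).mp
      (ht.dvd_of_dvd_pow (hk ▸ ht.dvd_of_dvd_pow f2)))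
  · exact ht.ne_one (Nat.eq_one_of_dvd_coprimes (D.cop g h2) f f2)

theorem nre_val {g : G} (h1 : g ≠ 1) (h2 : ¬ TT m g) (h3 : ¬ RE r g) :
    1 + iv g s - iv g a = 0 := by
  have := D.nre_h h1 h2 h3
  have := D.rel g h2
  omega

open Classical in
theorem split [Fintype G] (F : ℤ → ℤ) (h0 : F 0 = 0) : ∑ g, F (1 + iv g s - iv g a) =
    F (dg h) + {g : G | TT m g}.ncard * F 3 + ∑ g with RE r g, F (1 - iv g a) := by
  rw [← sum_ind (TT m) (F 3) (n := {g : G | TT m g}.ncard) rfl, sum_filter,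
    show F (dg h) = ∑ g : G, if g = 1 then F (dg h) else 0 by simp, ← sum_add_distrib,
    ← sum_add_distrib]
  refine sum_congr rfl fun g _ => ?_
  by_cases e1 : g = 1
  · have := D.rel 1 (by simp [TT])
    simp only [iv_one] at this
    simp [e1, TT, RE, iv_one, this]
  by_cases e2 : TT m g
  · have := D.xp g e2
    rw [if_neg e1, if_pos e2, if_neg fun f => (D.re_dvd f).2 e2,
      iv_eq (a := 1) (by simp [this.2]), iv_eq (a := -1) (by simp [this.1])]
    simp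
  rw [if_neg e1, if_neg e2]
  by_cases e3 : RE r g
  · simp [e3, (D.re_val e3).1]
  · simp [e3, D.nre_val e1 e2 e3, h0]

theorem ne_chars : a ≠ triv G ∧ s ≠ triv G ∧ a ≠ s := by
  obtain ⟨d1, d2, -⟩ := D.deg
  have q3 := D.par.q2
  refine ⟨fun e => ?_, fun e => ?_, fun e => ?_⟩ <;> have := congrArg dg e
  · rw [dg_triv, d1] at this; nlinarith
  · rw [dg_triv, d2] at this
    exact absurd this (Nat.one_lt_pow (by norm_num) q3).ne'
  · rw [d1, d2, show q ^ 3 = q * (q * q) by ring] at this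
    have := Nat.eq_of_mul_eq_mul_left (by omega) this
    nlinarith

open Classical in
theorem mom [Fintype G] : ∑ g with RE r g, (iv g a - 1) = -((q ^ 3 - 1) * ((q - 1) ^ 2 * (q + 1))) ∧
    ∑ g with RE r g, iv g a * (iv g a - 1) = q * (q - 1) * ((q ^ 3 - 1) * (q + 1)) := by
  have t : ∀ g, (triv G).1 g = iv g (triv G) := fun g => by simp [iv_triv]
  obtain ⟨d1, d2, d3⟩ := D.deg
  have n1 := D.ne_chars
  have e1 := (sum_iv_mul D.val_a t).2 n1.1
  have e2 := (sum_iv_mul D.val_s t).2 n1.2.1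
  have e3 := (sum_iv_mul D.val_a D.val_s).2 n1.2.2
  have e4 := (sum_iv_mul D.val_a D.val_a).1 rfl
  have e5 := (sum_iv_mul D.val_s D.val_s).1 rfl
  simp only [iv_triv, mul_one] at e1 e2
  have e6 := D.split id rfl
  have e7 := D.split (fun z => z * z) rfl
  have e8 : ∑ g, (1 + iv g s - iv g a) * (1 + iv g s - iv g a) = ∑ g, (iv g a * iv g a +
      iv g s * iv g s - 2 * (iv g a * iv g s) - 2 * iv g a + 2 * iv g s + 1) :=
    sum_congr rfl fun _ _ => by ring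
  have e9 : ∑ g with RE r g, iv g a * (iv g a - 1) = ∑ g with RE r g, (1 - iv g a) * (1 - iv g a) -
      ∑ g with RE r g, (1 - iv g a) := by
    rw [← sum_sub_distrib]; exact sum_congr rfl fun _ _ => by ring
  have e9' : ∑ g with RE r g, (iv g a - 1) = -∑ g with RE r g, (1 - iv g a) := by
    rw [← sum_neg_distrib]; exact sum_congr rfl fun _ _ => by ring
  have e10 := congrArg (Nat.cast : ℕ → ℤ) D.np
  rw [e9, e9']
  generalize ∑ g with RE r g, (1 - iv g a) * (1 - iv g a) = Y at e7 ⊢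
  simp only [id] at e6
  generalize ∑ g with RE r g, (1 - iv g a) = X at e6 ⊢
  simp only [sum_sub_distrib, sum_add_distrib, ← mul_sum, e1, e2, e3, e4, e5, sum_const,
    card_univ, ← Nat.card_eq_fintype_card, e8, D.card, d3, nsmul_eq_mul, D.par.cast_ord] at e6 e7
  push_cast [D.par.cast1, Nat.cast_sub (by have := D.par.seven; omega : 1 ≤ m)] at e6 e7 e10
  constructor
  · linear_combination e6 + e10
  · linear_combination e6 - e7 - 2 * e10

theorem cls_le [Fintype G] {g : G} {T : Finset G} (F : G → ℤ) (h0 : ∀ x ∈ T, 0 ≤ F x)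
    (h1 : ∀ x, IsConj g x → x ∈ T ∧ F x = F g) : (C1 g).index * F g ≤ ∑ x ∈ T, F x := by
  classical
  rw [← sum_ind (IsConj g) (F g) (card_isConj_eq g), ← sum_filter, ← sum_congr rfl fun x hx =>
    (h1 x (mem_filter.mp hx).2).2]
  exact sum_le_sum_of_subset_of_nonneg (fun x hx => (h1 x (mem_filter.mp hx).2).1)
    fun x hx _ => h0 x hx

/-- the centraliser order divides `|G| χ(g) / χ(1)` -/
theorem cls_dvd {g : G} (h1 : g ≠ 1) (h2 : ¬ TT m g) {χ : IrrCharacter G} (hχ : χ ∈ [a, s, h])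
    {n : ℕ} (e : ord q m = m * n * dg χ) : (Nat.card (C1 g) : ℤ) ∣ n * iv g χ := by
  have e1 := dvd_class χ (D.int χ hχ g h2)
  rw [← (C1 g).card_mul_index, Nat.mul_div_cancel_left _ Nat.card_pos] at e1
  have e2 := mul_dvd_mul_left (Nat.card (C1 g) : ℤ) e1
  rw [← mul_assoc, ← Nat.cast_mul _ (C1 g).index, (C1 g).card_mul_index, D.card, e] at e2
  refine (Nat.isCoprime_iff_coprime.mpr (D.cp g h1 h2)).dvd_of_dvd_mul_left
    (Int.dvd_of_mul_dvd_mul_right (Int.natCast_pos.mpr (dg_pos χ)).ne' (e2.trans (dvd_of_eq ?_)))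
  push_cast
  ring

theorem cls_h {g : G} (e : RE r g) : (Nat.card (C1 g) : ℤ) ∣ q ^ 3 * (iv g a - 1) := by
  have := D.cls_dvd e.1 (D.re_dvd e).2 (χ := h) (by simp) (n := q ^ 3) (by rw [D.deg.2.2, ord]; ring)
  rw [(D.re_val e).2.1, Nat.cast_pow] at this
  exact this.neg_right.trans (dvd_of_eq (by ring))

theorem dich {g : G} (e : RE r g) : iv g a = q ∨ iv g a = 0 ∧ Nat.card (C1 g) ∣ q ^ 2 := by
  classical
  letI := Fintype.ofFinite G
  obtain ⟨e1, e2, e3⟩ := D.re_val e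
  obtain ⟨k, hk⟩ := D.str g g (D.re_dvd e).2 (D.re_dvd e).2
  have e4 := D.cls_le (g := g) (T := univ.filter (RE r)) (fun x => iv x a * (iv x a - 1))
    (fun x _ => by rcases le_or_gt (iv x a) 0 with f | f <;> nlinarith) fun x hx =>
      ⟨by simp [e.conj hx], by rw [iv_isConj a hx]⟩
  rw [D.mom.2] at e4
  have e5 := congrArg (Nat.cast : ℕ → ℤ) (C1 g).card_mul_index
  refine D.par.vl_val e3 Nat.card_pos.ne' (D.cls_h e) (D.cp g e.1 (D.re_dvd e).2)
    (k := k) (by rw [hk, sc, e1, e2, D.par.cast_ord]; push_cast [D.par.cast1]; ring) ?_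
  have e6 : 0 < (C1 g).index := Nat.pos_of_ne_zero (C1 g).index_ne_zero_of_finite
  rw [D.card, D.par.cast_ord, Nat.cast_mul] at e5
  refine le_of_mul_le_mul_left ?_ (Int.natCast_pos.mpr e6)
  have e7 := mul_le_mul_of_nonneg_left e4 (sq_nonneg (q : ℤ))
  have e8 : ((C1 g).index : ℤ) * (d * Nat.card (C1 g)) =
      q ^ 2 * (q * (q - 1) * ((q ^ 3 - 1) * (q + 1))) := by
    linear_combination d * e5 + q ^ 3 * ((q - 1) ^ 2 * (q + 1)) * D.par.hz
  rw [e8]
  linarith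

end DL

end CfsgW3
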