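import Cfsg.Agent.H8.W3Vala

/-! S3422: the transvections. -/

set_option autoImplicit false
set_option linter.unusedSectionVars false

namespace CfsgW3

open Finset Cfsg CfsgL CfsgH5 CfsgH6 CfsgFT CfsgSZ CfsgH8 CfsgB0 Subgroup
open CfsgV3 (TT)
open CfsgU3 (RE)

universe u

variable {q r d m e₀ : ℕ} {G : Type u} [Group G] [Finite G] {a s h : IrrCharacter G}

/-- the transvections -/
def ZL (q r : ℕ) (a : IrrCharacter G) : Set G := {g | RE r g ∧ iv g a = q}

theorem ZL_conj {g g' : G} (e : g ∈ ZL q r a) (c : IsConj g g') : g' ∈ ZL q r a :=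
  ⟨e.1.conj c, (iv_isConj a c).trans e.2⟩

namespace DL

variable (D : DL G q r d m e₀ a s h)
include D

theorem val0 {g : G} (e : RE r g) (f : g ∉ ZL q r a) : iv g a = 0 ∧ Nat.card (C1 g) ∣ q ^ 2 :=
  (D.dich e).resolve_left fun f' => f ⟨e, f'⟩

theorem cardZ : (ZL q r a).ncard = (q ^ 2 + q + 1) * (q ^ 2 - 1) ∧
    {g : G | RE r g}.ncard = q ^ 6 - 1 := by
  classical
  letI := Fintype.ofFinite G
  obtain ⟨e1, e2⟩ := D.mom
  have e3 : ∀ F : ℤ → ℤ, F 0 = 0 → ∑ g with RE r g, F (iv g a) = (ZL q r a).ncard * F q := by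
    intro F h0
    rw [← sum_ind (· ∈ ZL q r a) _ (Nat.card_coe_set_eq _), sum_filter]
    refine sum_congr rfl fun g _ => ?_
    by_cases f : g ∈ ZL q r a
    · rw [if_pos f.1, if_pos f, f.2]
    · rw [if_neg f]
      split_ifs with f'
      · rw [(D.val0 f' f).1, h0]
      · rfl
  rw [e3 (fun z => z * (z - 1)) (by simp)] at e2
  rw [sum_sub_distrib, e3 (fun z => z) rfl, sum_const, ← Set.ncard_coe_finset, coe_filter] at e1
  simp only [mem_univ, true_and, nsmul_eq_mul, mul_one] at e1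
  have q3 := D.par.q2
  have q4 : (2 : ℤ) ≤ q := by exact_mod_cast q3
  have e4 : ((ZL q r a).ncard : ℤ) = (q ^ 2 + q + 1) * (q ^ 2 - 1) :=
    mul_left_cancel₀ (mul_pos (by linarith) (by linarith) : (0 : ℤ) < q * (q - 1)).ne'
      (by linear_combination e2)
  zify [Nat.one_le_pow 2 q (by omega), Nat.one_le_pow 6 q (by omega)]
  exact ⟨e4, by rw [e4] at e1; linear_combination -e1⟩

theorem cZ {z : G} (e : z ∈ ZL q r a) : ∃ n, Nat.card (C1 z) * n = q ^ 3 * (q - 1) ∧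
    d * (C1 z).index = n * (ZL q r a).ncard := by
  have e1 := D.cls_h e.1
  rw [e.2, show (q : ℤ) ^ 3 * (q - 1) = (q ^ 3 * (q - 1) : ℕ) by push_cast [D.par.cast1]; ring,
    Int.natCast_dvd_natCast] at e1
  obtain ⟨n, hn⟩ := e1
  refine ⟨n, hn.symm, Nat.eq_of_mul_eq_mul_left (Nat.card_pos (α := C1 z)) ?_⟩
  rw [mul_left_comm, (C1 z).card_mul_index, D.card, D.cardZ.1, ← mul_assoc _ n, ← hn]
  zify [D.par.cast1, Nat.one_le_pow 2 q (by have := D.par.q2; omega)]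
  linear_combination q ^ 3 * ((q - 1) ^ 2 * (q + 1)) * D.par.hz

theorem cZ_le {z : G} (e : z ∈ ZL q r a) {n : ℕ} (h : d * (C1 z).index = n * (ZL q r a).ncard) :
    n ≤ d := by
  have : (C1 z).index ≤ (ZL q r a).ncard := by
    rw [← card_isConj_eq]
    exact Set.ncard_le_ncard (s := {g | IsConj z g}) fun g hg => ZL_conj e hg
  exact Nat.le_of_mul_le_mul_right (h ▸ Nat.mul_le_mul_left d this)
    ((Set.ncard_pos).mpr ⟨z, e⟩)

theorem sumR (R : Subgroup G) [Fintype R] (F : G → ℤ) (x y z : ℤ) (h1 : F 1 = x + z)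
    (h2 : ∀ g ∈ R, g ∈ ZL q r a → F g = y + z)
    (h3 : ∀ g ∈ R, g ≠ 1 → g ∉ ZL q r a → F g = z) :
    ∑ g : R, F g = x + (ZL q r a ∩ R).ncard * y + Nat.card R * z := by
  classical
  rw [← sum_ind (fun x : R => x.1 ∈ ZL q r a) (n := (ZL q r a ∩ R).ncard) _ (by
    rw [← Nat.card_coe_set_eq]
    exact Nat.card_congr ⟨fun x => ⟨x.1.1, x.2, x.1.2⟩, fun x => ⟨⟨x.1, x.2.2⟩, x.2.1⟩,
      fun _ => rfl, fun _ => rfl⟩), show x = ∑ g : R, if g = 1 then x else 0 by simp,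
      show (Nat.card R : ℤ) * z = ∑ g : R, z by simp, ← sum_add_distrib, ← sum_add_distrib]
  refine sum_congr rfl fun g _ => ?_
  by_cases e : g = 1
  · simp [e, h1, ZL, RE]
  by_cases f : g.1 ∈ ZL q r a
  · simp [e, f, h2 g g.2 f]
  · simp [e, f, h3 g g.2 (by simpa using e) f]

theorem res {R : Subgroup G} (hR : IsPGroup r R) :
    Nat.card R ∣ q ^ 2 + q + q * (ZL q r a ∩ R).ncard := by
  letI := Fintype.ofFinite R
  obtain ⟨m, hm⟩ := sum_sub_nat (irr_isChar a.2) R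
  refine ⟨m, ?_⟩
  have e1 := D.sumR R (fun g => iv g a) (q ^ 2 + q) q 0 (by rw [iv_one, D.deg.1]; push_cast; ring)
    (fun g _ f => by rw [f.2, add_zero]) fun g hg g1 f => (D.val0 (RE.of_mem hR hg g1) f).1
  simp only [D.val_a, ← Int.cast_sum, e1] at hm
  have : (q : ℤ) ^ 2 + q + (ZL q r a ∩ R).ncard * q + Nat.card R * 0 = Nat.card R * m := by
    exact_mod_cast hm
  zify at this ⊢
  linarith

theorem res2 {R : Subgroup G} (hR : IsPGroup r R) :
    q ^ 2 + q + q * (ZL q r a ∩ R).ncard ≤ Nat.card R + q ^ 3 := by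
  letI := Fintype.ofFinite R
  obtain ⟨n, hm⟩ := sum_sub_nat (irr_isChar h.2) R
  have e1 := D.sumR R (fun g => iv g h) (q ^ 3 - q ^ 2 - q) (-q) 1
    (by rw [iv_one, D.deg.2.2, D.par.cast_c0]; ring)
    (fun g _ f => by rw [(D.re_val f.1).2.1, f.2]; ring) fun g hg g1 f => by
      rw [(D.re_val (RE.of_mem hR hg g1)).2.1, (D.val0 (RE.of_mem hR hg g1) f).1, sub_zero]
  have e2 : ∀ x : R, h.1 x = iv x.1 h := fun x => D.int h (by simp) _ fun f =>
    (D.re_dvd (RE.of_mem hR x.2 f.1)).2 f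
  simp only [e2, ← Int.cast_sum, e1] at hm
  have : (q : ℤ) ^ 3 - q ^ 2 - q + (ZL q r a ∩ R).ncard * (-q) + Nat.card R * 1 =
      Nat.card R * n := by exact_mod_cast hm
  have e3 : (0 : ℤ) ≤ Nat.card R * n := by positivity
  zify
  linarith

theorem zpow {z : G} (hz : z ∈ ZL q r a) {i : ℕ} (hi : ¬ r ∣ i) : z ^ i ∈ ZL q r a := by
  obtain ⟨k, hk⟩ := hz.1.2
  have c : i.Coprime (orderOf z) := Nat.Coprime.coprime_dvd_right (orderOf_dvd_of_pow_eq_one hk)
    (((Nat.Prime.coprime_iff_not_dvd D.par.pr).mpr hi).symm.pow_right k)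
  refine ⟨⟨fun e => hz.1.1 (orderOf_eq_one_iff.mp (Nat.eq_one_of_dvd_coprimes c
    (orderOf_dvd_of_pow_eq_one e) dvd_rfl)), k, by
    rw [← pow_mul, mul_comm, pow_mul, hk, one_pow]⟩, ?_⟩
  obtain ⟨σ, hσ⟩ := exists_ringEquiv_pow (orderOf_pos z) c
  have := char_map_eq_pow (σ : ℂ →+* ℂ) (irr_isChar a.2) z i hσ
  rw [D.val_a z, hz.2, map_intCast] at this
  exact iv_eq this.symm

theorem vz : VZ G q r d m e₀ {g | RE r g ∧ iv g a = q} :=
  ⟨D.par, D.card, fun _ hz => hz.1, fun _ hz g => ZL_conj hz (isConj_iff.mpr ⟨g, rfl⟩),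
    fun _ hz _ hi => D.zpow hz hi, D.cardZ.1, D.cardZ.2, fun _ e f => (D.val0 e f).2,
    fun _ hz => let ⟨n, h1, h2⟩ := D.cZ hz; ⟨n, D.cZ_le hz h2, h1⟩, fun _ hR => D.res hR,
    fun _ hR => D.res2 hR⟩

theorem exZ : ∃ z ∈ ZL q r a, ∃ n, n ∣ d ∧ Nat.card (C1 z) * n = q ^ 3 * (q - 1) := by
  have q2 := D.par.q2
  have p : 0 < (ZL q r a).ncard := by
    rw [D.cardZ.1]
    exact Nat.mul_pos (by omega) (Nat.sub_pos_of_lt (Nat.one_lt_pow (by norm_num) q2))
  have pos : ∀ {z : G} {n : ℕ}, Nat.card (C1 z) * n = q ^ 3 * (q - 1) → 0 < n := fun e =>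
    Nat.pos_of_ne_zero (by
      rintro rfl
      exact (Nat.mul_pos (by positivity) (by omega : 0 < q - 1)).ne' e.symm)
  obtain ⟨z, hz⟩ := (Set.ncard_pos).mp p
  obtain ⟨n, n1, n2⟩ := D.cZ hz
  by_cases e : n ∣ d
  · exact ⟨z, hz, n, e, n1⟩
  have n3 := D.cZ_le hz n2
  have n4 := pos n1
  obtain ⟨rfl, rfl⟩ : n = 2 ∧ d = 3 := by
    rcases D.par.d_cases with ⟨rfl, -⟩ | ⟨rfl, -⟩
    · exact absurd (by rw [show n = 1 by omega]) e
    · interval_cases n <;> simp_all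
  have n6 : (C1 z).index = {x | IsConj z x}.ncard := (card_isConj_eq z).symm
  obtain ⟨y, hy, hy'⟩ : ∃ y ∈ ZL q r a, ¬ IsConj z y := by
    by_contra! f
    have := Set.ncard_le_ncard (s := ZL q r a) (t := {x | IsConj z x}) f
    omega
  obtain ⟨k, k1, k2⟩ := D.cZ hy
  have k6 : (C1 y).index = {x | IsConj y x}.ncard := (card_isConj_eq y).symm
  have e5 : {x | IsConj y x}.ncard + {x | IsConj z x}.ncard ≤ (ZL q r a).ncard := by
    rw [← Set.ncard_union_eq (s := {x | IsConj y x}) (t := {x | IsConj z x})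
      (Set.disjoint_left.mpr fun x (f1 : IsConj y x) (f2 : IsConj z x) => hy' (f2.trans f1.symm))]
    exact Set.ncard_le_ncard (Set.union_subset (fun x hx => ZL_conj hy hx) fun x hx => ZL_conj hz hx)
  have k4 := pos k1
  refine ⟨y, hy, k, ?_, k1⟩
  obtain rfl : k = 1 := by
    by_contra f
    have := Nat.mul_le_mul_right (ZL q r a).ncard (show 2 ≤ k by omega)
    omega
  exact one_dvd _

theorem nn_a {g : G} (e : NN r m g) : iv g h = 0 ∧ iv g a = 1 + iv g s :=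
  ⟨D.nre_h e.1 e.2.1 e.2.2, by have := D.nre_val e.1 e.2.1 e.2.2; omega⟩

theorem vs : VS G q r d m e₀ (fun g => iv g s) := by
  have q2 := D.par.q2
  have q3 : (2 : ℤ) ≤ q := by exact_mod_cast q2
  refine ⟨fun g x => iv_conj s x g, by rw [iv_one, D.deg.2.1]; simp,
    fun g e => ⟨iv_eq (by simp [(D.xp g e).2]), D.cT g e⟩,
    fun p hp g => char_congr_prime (irr_isChar s.2) hp (D.val_s g) (D.val_s _),
    fun g e => ?_, fun g e => ?_, fun g e => ?_, fun g e t ht t2 t1 tg => ?_, ?_⟩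
  · obtain ⟨z, hz, n, n1, n2⟩ := D.exZ
    obtain ⟨k, hk⟩ := D.str z g (D.re_dvd hz.1).2 e.2.1
    rw [sc, (D.nn_a e).1, (D.nn_a e).2, (D.re_val hz.1).1, hz.2, D.par.cast_ord] at hk
    have n3 := congrArg (Nat.cast : ℕ → ℤ) n2
    push_cast [D.par.cast1] at hk n3
    have e1 : (k : ℤ) * Nat.card (C1 g) = m * (n * ((q - 1) * (q - iv g s))) :=
      mul_left_cancel₀ (Int.natCast_pos.mpr (Nat.card_pos (α := C1 z))).ne' (by
        linear_combination hk - m * (q - 1) * (q - iv g s) * n3)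
    have e2 := (Nat.isCoprime_iff_coprime.mpr (D.cp g e.1 e.2.1)).dvd_of_dvd_mul_left
      (Dvd.intro_left _ e1)
    rw [mul_assoc]
    exact e2.trans (mul_dvd_mul_right (Int.natCast_dvd_natCast.mpr n1) _)
  · obtain ⟨k, hk⟩ := D.str g g e.2.1 e.2.1
    rw [sc, (D.nn_a e).1, (D.nn_a e).2, D.par.cast_ord] at hk
    have e1 : m ∣ k := by
      refine ((D.cp g e.1 e.2.1).mul_left (D.cp g e.1 e.2.1)).symm.dvd_of_dvd_mul_right
        (Int.natCast_dvd_natCast.mp ?_)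
      rw [hk]
      push_cast
      exact ⟨q ^ 3 * (((q - 1 : ℕ) : ℤ) ^ 2 * (q + 1)) - (1 + iv g s) ^ 2 * q ^ 2 * ((q - 1 : ℕ) : ℤ) ^ 2 +
        iv g s ^ 2 * (((q - 1 : ℕ) : ℤ) ^ 2 * (q + 1)), by rw [D.par.cast1]; ring⟩
    obtain ⟨k, rfl⟩ := e1
    refine ⟨k, mul_left_cancel₀ (Int.natCast_pos.mpr (by have := D.par.seven; omega : 0 < m)).ne' ?_⟩
    push_cast [D.par.cast1] at hk
    linear_combination hk
  · have := D.cls_dvd e.1 e.2.1 (χ := s) (by simp) (n := (q - 1) ^ 2 * (q + 1))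
      (by rw [D.deg.2.1, ord]; ring)
    rwa [D.par.cast_c0] at this
  · have : iv g a = 0 := iv_vanish ht (m := q ^ 2 * m * (q - 1) ^ 2)
      (by rw [D.card, D.deg.1, ord]; ring) (fun f => by
        rcases (Nat.Prime.dvd_mul ht).mp f with f | f
        · rcases (Nat.Prime.dvd_mul ht).mp f with f | f
          · exact ht.not_dvd_one ((Nat.dvd_add_right (ht.dvd_of_dvd_pow f)).mp t1)
          · exact ht.ne_one (Nat.eq_one_of_dvd_coprimes D.par.cop f ((t1.mul_left _).mul_left _))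
        · have := Nat.dvd_sub t1 (ht.dvd_of_dvd_pow f)
          rw [show q + 1 - (q - 1) = 2 by omega] at this
          exact t2 ((Nat.prime_dvd_prime_iff_eq ht Nat.prime_two).mp this)) tg
    have := (D.nn_a e).2
    omega
  · classical
    letI := Fintype.ofFinite G
    have t : ∀ g, (triv G).1 g = iv g (triv G) := fun g => by simp [iv_triv]
    have e2 := (sum_iv_mul D.val_s t).2 D.ne_chars.2.1
    have e5 := (sum_iv_mul D.val_s D.val_s).1 rfl
    simp only [iv_triv, mul_one] at e2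
    have e6 : ∑ g, iv g s * (iv g s - 1) = ∑ g, ((if g = 1 then (q : ℤ) ^ 6 - q ^ 3 else 0) +
        if NN r m g then iv g s * (iv g s - 1) else 0) := sum_congr rfl fun g _ => by
      by_cases e1 : g = 1
      · rw [if_pos e1, if_neg fun f => f.1 e1, e1, iv_one, D.deg.2.1]; push_cast; ring
      by_cases e2 : TT m g
      · rw [if_neg e1, if_neg fun f => f.2.1 e2, iv_eq (a := 1) (by simp [(D.xp g e2).2])]; ring
      by_cases e3 : RE r g
      · rw [if_neg e1, if_neg fun f => f.2.2 e3, (D.re_val e3).1]; ring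
      · rw [if_neg e1, if_pos ⟨e1, e2, e3⟩, zero_add]
    rw [sum_add_distrib, ← sum_filter (NN r m)] at e6
    simp only [mul_sub, sum_sub_distrib, mul_one, e2, e5, sum_ite_eq', mem_univ, if_true] at e6
    rw [show {g : G | NN r m g} = ((univ.filter (NN r m) : Finset G) : Set G) by simp, finsum_mem_coe_finset]
    simp only [mul_sub, sum_sub_distrib, mul_one]
    linarith

end DL

end CfsgW3
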